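import Cfsg.Agent.Lib.Helper8.UStruct

set_option autoImplicit false

namespace Cfsg.Agent.Lib.Helper8

open Cfsg Cfsg.Lie

section
variable {D : ChevalleyDatum} (hD : D ∈ allData) {F : Type*} [Field F]
include hD

theorem exists_act {m : GL D.Idx F} (hm : m ∈ D.monomialSubgroup F) : ∃ π, Act hD m π := by
  obtain ⟨h, hh, L, hL, rfl⟩ := mem_mono hD hm
  rw [diag_eq_torus hD] at hh
  obtain ⟨c, rfl⟩ := hh
  exact ⟨_, (act_tG hD c).mul (act_nR hD L hL)⟩

theorem posU_le_borel : D.posUnipotent F ≤ D.borelSubgroup F := le_sup_left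
theorem diag_le_borel : D.diagonalSubgroup F ≤ D.borelSubgroup F := le_sup_right

theorem Ui_le_posU (i : ℕ) : Ui D F i ≤ D.posUnipotent F := by
  rw [Ui, Subgroup.closure_le]
  rintro g ⟨s, t, hs, _, hg⟩
  exact Subgroup.subset_closure ⟨s, t, hs, hg⟩

theorem nS_mem_rootPair (i : ℕ) :
    nS hD F i ∈ D.rootSubgroup F (D.simple i) ⊔ D.rootSubgroup F (D.neg (D.simple i)) := by
  have h1 : ∀ t : F, xG hD F (D.simple i) t ∈
      D.rootSubgroup F (D.simple i) ⊔ D.rootSubgroup F (D.neg (D.simple i)) :=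
    fun t => (le_sup_left : D.rootSubgroup F (D.simple i) ≤ _) ((mem_rootSubgroup hD).mpr ⟨t, rfl⟩)
  have h2 : ∀ t : F, xG hD F (D.neg (D.simple i)) t ∈
      D.rootSubgroup F (D.simple i) ⊔ D.rootSubgroup F (D.neg (D.simple i)) :=
    fun t => (le_sup_right : D.rootSubgroup F (D.neg (D.simple i)) ≤ _) ((mem_rootSubgroup hD).mpr ⟨t, rfl⟩)
  exact Subgroup.mul_mem _ (Subgroup.mul_mem _ (h1 _) (h2 _)) (h1 _)

theorem nS_conj_Ui {i : ℕ} (hi : i < D.rank) {u : GL D.Idx F} (hu : u ∈ Ui D F i) :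
    nS hD F i * u * (nS hD F i)⁻¹ ∈ Ui D F i :=
  (Subgroup.le_normalizer_iff.mp (rootPair_le_normalizer_Ui hD hi)) _ (nS_mem_rootPair hD i) u hu

/-- `u ∈ U` is `u' x_p(t)` with `u' ∈ U_p` -/
theorem mem_posU_split {i : ℕ} (hi : i < D.rank) {u : GL D.Idx F} (hu : u ∈ D.posUnipotent F) :
    ∃ u' ∈ Ui D F i, ∃ t : F, u = u' * xG hD F (D.simple i) t := by
  rw [← Ui_sup_root hD hi] at hu
  obtain ⟨u', hu', y, hy, rfl⟩ := mem_sup_of_normalizes
    ((le_sup_left : D.rootSubgroup F (D.simple i) ≤ _).trans (rootPair_le_normalizer_Ui hD hi)) hu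
  obtain ⟨t, rfl⟩ := (mem_rootSubgroup hD).mp hy
  exact ⟨u', hu', t, rfl⟩

theorem nS_x_simple {i : ℕ} (hi : i < D.rank) (t : F) :
    nS hD F i * xG hD F (D.simple i) t = xG hD F (D.neg (D.simple i)) (-t) * nS hD F i := by
  have h := conj_nS_x hD hi (simple_lt hD hi) t
  rw [MulAut.conj_apply, mul_inv_eq_iff_eq_mul, reflect_simple, eta_simple hD hi] at h
  rw [h]
  simp

/-- `x_{-r}(a) = x_r(a⁻¹) h_r(-a⁻¹) n_r x_r(a⁻¹)` -/
theorem x_neg_eq (r : ℕ) {a : F} (ha : a ≠ 0) :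
    xG hD F (D.neg r) a = xG hD F r a⁻¹ * (hG hD F r (-a⁻¹) * nG hD F r 1) * xG hD F r a⁻¹ := by
  have h1 : hG hD F r (-a⁻¹) * nG hD F r 1 = nG hD F r (-a⁻¹) := by
    unfold hG
    rw [mul_assoc, ← nG_inv hD r (1 : F), inv_mul_cancel, mul_one]
  rw [h1]
  unfold nG
  have h2 : -(-a⁻¹)⁻¹ = a := by rw [inv_neg, inv_inv, neg_neg]
  rw [h2]
  have h3 : xG hD F r a⁻¹ * xG hD F r (-a⁻¹) = 1 := by rw [xG_mul, add_neg_cancel, xG_zero]
  have h4 : xG hD F r (-a⁻¹) * xG hD F r a⁻¹ = 1 := by rw [xG_mul, neg_add_cancel, xG_zero]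
  calc xG hD F (D.neg r) a = 1 * xG hD F (D.neg r) a * 1 := by simp
    _ = (xG hD F r a⁻¹ * xG hD F r (-a⁻¹)) * xG hD F (D.neg r) a * (xG hD F r (-a⁻¹) * xG hD F r a⁻¹) := by
      rw [h3, h4]
    _ = _ := by simp only [mul_assoc]

/-- the key computation for the (B,N)-axiom -/
theorem nS_x_n_mem {i : ℕ} (hi : i < D.rank) {n : GL D.Idx F} (hn : n ∈ D.monomialSubgroup F) (t : F) :
    (∃ y ∈ D.borelSubgroup F, nS hD F i * xG hD F (D.simple i) t * n = nS hD F i * n * y) ∨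
    (∃ x ∈ D.borelSubgroup F, ∃ y ∈ D.borelSubgroup F,
      nS hD F i * xG hD F (D.simple i) t * n = x * n * y) := by
  have hp := simple_lt hD hi
  obtain ⟨π, hπ⟩ := exists_act hD (Subgroup.inv_mem _ hn)
  have hmove : ∀ s < D.nroots, ∃ κ : Fˣ, ∀ a : F, xG hD F s a * n = n * xG hD F (π s) (κ * a) := by
    intro s hs
    obtain ⟨κ, hκ⟩ := hπ.conj s hs
    refine ⟨κ, fun a => ?_⟩
    rw [← hκ a, inv_inv]
    group
  rcases pos_or_neg hD (hπ.lt _ hp) with hpos | hneg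
  · left
    obtain ⟨κ, hκ⟩ := hmove _ hp
    exact ⟨_, posU_le_borel hD (xG_mem_posU hD hpos (κ * t)), by rw [mul_assoc, hκ t, mul_assoc]⟩
  · by_cases ht : t = 0
    · left
      exact ⟨1, Subgroup.one_mem _, by rw [ht, xG_zero]; simp⟩
    · right
      have hnp := neg_lt' hD _ hp
      have hpos : D.IsPosRoot (π (D.neg (D.simple i))) := by
        rw [hπ.neg _ hp]
        exact (isPos_neg_iff hD (hπ.lt _ hp)).mpr hneg
      -- z = s²
      have hz := nS_sq_mem_diag (F := F) hD hi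
      have hz' := hz
      rw [diag_eq_torus hD] at hz'
      obtain ⟨c₀, hc₀⟩ := hz'
      obtain ⟨κ, hκ⟩ := hmove _ hnp
      have e4 : ∀ a : F, xG hD F (D.neg (D.simple i)) a * (nS hD F i * nS hD F i) =
          (nS hD F i * nS hD F i) * xG hD F (D.neg (D.simple i)) (((chi D c₀ (D.neg (D.simple i)))⁻¹ : Fˣ) * a) := by
        intro a
        rw [← hc₀, tG_x hD c₀ hnp, ← mul_assoc, ← Units.val_mul, mul_inv_cancel]
        simp
      have hne : -t ≠ 0 := neg_ne_zero.mpr ht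
      refine ⟨xG hD F (D.simple i) (-t)⁻¹ * hG hD F (D.simple i) (-(-t)⁻¹) * (nS hD F i * nS hD F i), ?_,
        xG hD F (π (D.neg (D.simple i)))
          (κ * (((chi D c₀ (D.neg (D.simple i)))⁻¹ : Fˣ) * (-(-t)⁻¹))), ?_, ?_⟩
      · exact Subgroup.mul_mem _ (Subgroup.mul_mem _
          (posU_le_borel hD (xG_mem_posU hD (simple_pos hD hi) _))
          (diag_le_borel hD (hG_mem_diag hD hp (neg_ne_zero.mpr (inv_ne_zero hne)))))
          (diag_le_borel hD hz)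
      · exact posU_le_borel hD (xG_mem_posU hD hpos _)
      · calc nS hD F i * xG hD F (D.simple i) t * n
            = xG hD F (D.neg (D.simple i)) (-t) * nS hD F i * n := by rw [nS_x_simple hD hi]
          _ = xG hD F (D.simple i) (-t)⁻¹ * hG hD F (D.simple i) (-(-t)⁻¹) *
                (nS hD F i * xG hD F (D.simple i) (-t)⁻¹) * nS hD F i * n := by
              rw [x_neg_eq hD (D.simple i) hne]; simp only [mul_assoc]
          _ = xG hD F (D.simple i) (-t)⁻¹ * hG hD F (D.simple i) (-(-t)⁻¹) *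
                (xG hD F (D.neg (D.simple i)) (-(-t)⁻¹) * (nS hD F i * nS hD F i)) * n := by
              rw [nS_x_simple hD hi]; simp only [mul_assoc]
          _ = xG hD F (D.simple i) (-t)⁻¹ * hG hD F (D.simple i) (-(-t)⁻¹) * (nS hD F i * nS hD F i) *
                (xG hD F (D.neg (D.simple i)) (((chi D c₀ (D.neg (D.simple i)))⁻¹ : Fˣ) * (-(-t)⁻¹)) * n) := by
              rw [e4]; simp only [mul_assoc]
          _ = _ := by rw [hκ]; simp only [mul_assoc]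

/-- the (B,N)-axiom `s B n ⊆ B s n B ∪ B n B` -/
theorem bn_axiom {i : ℕ} (hi : i < D.rank) {n b : GL D.Idx F} (hn : n ∈ D.monomialSubgroup F)
    (hb : b ∈ D.borelSubgroup F) :
    (∃ x ∈ D.borelSubgroup F, ∃ y ∈ D.borelSubgroup F, nS hD F i * b * n = x * (nS hD F i * n) * y) ∨
    (∃ x ∈ D.borelSubgroup F, ∃ y ∈ D.borelSubgroup F, nS hD F i * b * n = x * n * y) := by
  obtain ⟨u, hu, h, hh, rfl⟩ := mem_borel hD hb
  obtain ⟨u', hu', t, rfl⟩ := mem_posU_split hD hi hu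
  have h1 : nS hD F i * u' * (nS hD F i)⁻¹ ∈ D.borelSubgroup F :=
    posU_le_borel hD (Ui_le_posU hD i (nS_conj_Ui hD hi hu'))
  have h2 : n⁻¹ * h * n ∈ D.borelSubgroup F := by
    have := mono_conj_diag hD (Subgroup.inv_mem _ hn) hh
    rw [inv_inv] at this
    exact diag_le_borel hD this
  have e : nS hD F i * (u' * xG hD F (D.simple i) t * h) * n =
      (nS hD F i * u' * (nS hD F i)⁻¹) * (nS hD F i * xG hD F (D.simple i) t * n) * (n⁻¹ * h * n) := by
    group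
  rcases nS_x_n_mem hD hi hn t with ⟨y, hy, e1⟩ | ⟨x, hx, y, hy, e1⟩
  · left
    refine ⟨_, h1, y * (n⁻¹ * h * n), Subgroup.mul_mem _ hy h2, ?_⟩
    rw [e, e1]
    simp only [mul_assoc]
  · right
    refine ⟨(nS hD F i * u' * (nS hD F i)⁻¹) * x, Subgroup.mul_mem _ h1 hx, y * (n⁻¹ * h * n),
      Subgroup.mul_mem _ hy h2, ?_⟩
    rw [e, e1]
    simp only [mul_assoc]

end

end Cfsg.Agent.Lib.Helper8
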