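import Cfsg.Agent.Lib.Helper8.BN
import Cfsg.Prelude.Def_LieExceptional

set_option autoImplicit false
set_option linter.unusedSectionVars false

namespace Cfsg.Agent.Lib.Helper8

open Cfsg Cfsg.Lie

section
variable {D : ChevalleyDatum} (hD : D ∈ allData) {F : Type*} [Field F]
include hD

theorem nS_sq_mem_borel {i : ℕ} (hi : i < D.rank) : nS hD F i * nS hD F i ∈ D.borelSubgroup F :=
  diag_le_borel hD (nS_sq_mem_diag hD hi)

/-- `B ∪ B n_p B` is a subgroup -/
def minParabolic {i : ℕ} (hi : i < D.rank) : Subgroup (GL D.Idx F) where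
  carrier := {g | g ∈ D.borelSubgroup F ∨
    ∃ x ∈ D.borelSubgroup F, ∃ y ∈ D.borelSubgroup F, g = x * nS hD F i * y}
  one_mem' := Or.inl (Subgroup.one_mem _)
  mul_mem' := by
    rintro a b (ha | ⟨x, hx, y, hy, rfl⟩) (hb | ⟨x', hx', y', hy', rfl⟩)
    · exact Or.inl (Subgroup.mul_mem _ ha hb)
    · exact Or.inr ⟨a * x', Subgroup.mul_mem _ ha hx', y', hy', by simp only [mul_assoc]⟩
    · exact Or.inr ⟨x, hx, y * b, Subgroup.mul_mem _ hy hb, by simp only [mul_assoc]⟩
    · have e : x * nS hD F i * y * (x' * nS hD F i * y') =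
          x * (nS hD F i * (y * x') * nS hD F i) * y' := by simp only [mul_assoc]
      rcases bn_axiom hD hi (nS_mem_mono hD hi) (Subgroup.mul_mem _ hy hx') with
        ⟨x₁, hx₁, y₁, hy₁, e1⟩ | ⟨x₁, hx₁, y₁, hy₁, e1⟩
      · left
        rw [e, e1]
        exact Subgroup.mul_mem _ (Subgroup.mul_mem _ hx (Subgroup.mul_mem _
          (Subgroup.mul_mem _ hx₁ (nS_sq_mem_borel hD hi)) hy₁)) hy'
      · right
        refine ⟨x * x₁, Subgroup.mul_mem _ hx hx₁, y₁ * y', Subgroup.mul_mem _ hy₁ hy', ?_⟩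
        rw [e, e1]
        simp only [mul_assoc]
  inv_mem' := by
    rintro a (ha | ⟨x, hx, y, hy, rfl⟩)
    · exact Or.inl (Subgroup.inv_mem _ ha)
    · refine Or.inr ⟨y⁻¹, Subgroup.inv_mem _ hy, (nS hD F i * nS hD F i)⁻¹ * x⁻¹,
        Subgroup.mul_mem _ (Subgroup.inv_mem _ (nS_sq_mem_borel hD hi)) (Subgroup.inv_mem _ hx), ?_⟩
      group

theorem minParabolic_coe {i : ℕ} (hi : i < D.rank) :
    (minParabolic (F := F) hD hi : Set (GL D.Idx F)) = (D.borelSubgroup F : Set (GL D.Idx F)) ∪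
      DoubleCoset.doubleCoset (nS hD F i) (D.borelSubgroup F : Set (GL D.Idx F)) (D.borelSubgroup F) := by
  ext g
  rw [Set.mem_union, DoubleCoset.mem_doubleCoset]
  rfl

theorem simple_inj_of_act {i j : ℕ} (hi : i < D.rank) (hj : j < D.rank)
    (h : ∀ s < D.nroots, D.reflectRoot i s = D.reflectRoot j s) : D.simple i = D.simple j := by
  by_contra hne
  have h1 := h _ (simple_lt hD hi)
  rw [reflect_simple] at h1
  have h2 := reflect_pos hD hj (simple_pos hD hi) hne
  rw [← h1] at h2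
  exact not_pos_and_neg hD h2 ((isNeg_neg_iff hD (simple_lt hD hi)).mpr (simple_pos hD hi))

theorem nS_inj {i j : ℕ} (hi : i < D.rank) (hj : j < D.rank)
    (h : (nS hD F i)⁻¹ * nS hD F j ∈ D.borelSubgroup F) : nS hD F i = nS hD F j := by
  have h1 : (nS hD F i)⁻¹ * nS hD F j ∈ D.borelSubgroup F ⊓ D.monomialSubgroup F :=
    ⟨h, Subgroup.mul_mem _ (Subgroup.inv_mem _ (nS_mem_mono hD hi)) (nS_mem_mono hD hj)⟩
  rw [borel_inf_mono hD, diag_eq_torus hD] at h1
  obtain ⟨c, hc⟩ := h1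
  have a1 := (act_nS (F := F) hD hi).mul (act_tG hD c)
  rw [hc, mul_inv_cancel_left] at a1
  have h2 := simple_inj_of_act hD hi hj (fun s hs => a1.unique (act_nS hD hj) s hs)
  unfold nS
  rw [h2]

theorem nS_conj_ne {i : ℕ} (hi : i < D.rank) :
    nS hD F i * xG hD F (D.simple i) 1 * nS hD F i ∉ D.borelSubgroup F := by
  intro h
  rw [nS_x_simple hD hi, mul_assoc] at h
  have h1 : xG hD F (D.neg (D.simple i)) (-1) ∈ D.borelSubgroup F := by
    have := Subgroup.mul_mem _ h (Subgroup.inv_mem _ (nS_sq_mem_borel hD hi))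
    rwa [mul_inv_cancel_right] at this
  have h2 : xG hD F (D.neg (D.simple i)) (-1) ∈ D.borelSubgroup F ⊓ D.negUnipotent F :=
    ⟨h1, xG_mem_negU hD ((isNeg_neg_iff hD (simple_lt hD hi)).mpr (simple_pos hD hi)) _⟩
  rw [borel_inf_negU hD, Subgroup.mem_bot, xG_eq_one_iff hD (neg_lt' hD _ (simple_lt hD hi))] at h2
  simp at h2

/-- the (B,N)-pair of the Chevalley group -/
def bnPair : Cfsg.BNPair ↥(D.group F) where
  B := (D.borelSubgroup F).subgroupOf (D.group F)
  N := (D.monomialSubgroup F).subgroupOf (D.group F)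
  S := {n : ↥(D.group F) | ∃ i < D.rank, ((n : GL D.Idx F) : Matrix D.Idx D.Idx F) = D.nMat F (D.simple i) 1}
  sup_eq_top := by
    rw [← Subgroup.subgroupOf_sup (borel_le_group hD) (mono_le_group hD), borel_sup_mono hD,
      Subgroup.subgroupOf_self]
  conj_mem := by
    rintro n hn t ⟨ht1, ht2⟩
    rw [Subgroup.mem_subgroupOf] at hn ⊢
    have h1 : (t : GL D.Idx F) ∈ D.borelSubgroup F ⊓ D.monomialSubgroup F := ⟨ht1, ht2⟩
    rw [borel_inf_mono hD] at h1
    exact diag_le_borel hD (mono_conj_diag hD hn h1)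
  subset := by
    rintro s ⟨i, hi, hs⟩
    show (s : GL D.Idx F) ∈ D.monomialSubgroup F
    rw [eq_nG hD hs]
    exact nS_mem_mono hD hi
  sq_mem := by
    rintro s ⟨i, hi, hs⟩
    show (s : GL D.Idx F) * (s : GL D.Idx F) ∈ D.borelSubgroup F
    rw [eq_nG hD hs]
    exact nS_sq_mem_borel hD hi
  inj := by
    rintro s ⟨i, hi, hs⟩ s' ⟨j, hj, hs'⟩ h
    have h' : (s : GL D.Idx F)⁻¹ * (s' : GL D.Idx F) ∈ D.borelSubgroup F := h
    rw [eq_nG hD hs, eq_nG hD hs'] at h'
    apply Subtype.ext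
    rw [eq_nG hD hs, eq_nG hD hs']
    exact nS_inj hD hi hj h'
  closure_sup := by
    apply Subgroup.map_injective (Subgroup.subtype_injective (D.group F))
    rw [Subgroup.map_sup, MonoidHom.map_closure, Subgroup.map_subgroupOf_eq_of_le (mono_le_group hD)]
    have h1 : ((D.borelSubgroup F).subgroupOf (D.group F) ⊓ (D.monomialSubgroup F).subgroupOf (D.group F))
        = (D.diagonalSubgroup F).subgroupOf (D.group F) := by
      rw [← borel_inf_mono hD]
      rfl
    rw [h1, Subgroup.map_subgroupOf_eq_of_le (diag_le_group hD), mono_eq_closure hD, monoGens,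
      Subgroup.closure_union, Subgroup.closure_eq, sup_comm]
    congr 2
    ext g
    constructor
    · rintro ⟨s, ⟨i, hi, hs⟩, rfl⟩
      exact ⟨i, hi, eq_nG hD hs⟩
    · rintro ⟨i, hi, rfl⟩
      exact ⟨⟨nS hD F i, nG_mem_group hD _ _⟩, ⟨i, hi, nG_coe hD _ _⟩, rfl⟩
  mul_mem_union := by
    rintro s ⟨i, hi, hs⟩ n hn b hb
    rw [Set.mem_union, DoubleCoset.mem_doubleCoset, DoubleCoset.mem_doubleCoset]
    have hs' := eq_nG hD hs
    rcases bn_axiom hD hi (n := (n : GL D.Idx F)) (b := (b : GL D.Idx F)) hn hb with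
      ⟨x, hx, y, hy, e⟩ | ⟨x, hx, y, hy, e⟩
    · left
      refine ⟨⟨x, borel_le_group hD hx⟩, hx, ⟨y, borel_le_group hD hy⟩, hy, ?_⟩
      apply Subtype.ext
      simp only [Subgroup.coe_mul]
      rw [hs', e]
    · right
      refine ⟨⟨x, borel_le_group hD hx⟩, hx, ⟨y, borel_le_group hD hy⟩, hy, ?_⟩
      apply Subtype.ext
      simp only [Subgroup.coe_mul]
      rw [hs', e]
  conj_ne := by
    rintro s ⟨i, hi, hs⟩ h
    have hs' := eq_nG hD hs
    have hx : (⟨xG hD F (D.simple i) 1, xG_mem_group hD _ _⟩ : ↥(D.group F)) ∈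
        ((D.borelSubgroup F).subgroupOf (D.group F) : Set ↥(D.group F)) :=
      posU_le_borel hD (xG_mem_posU hD (simple_pos hD hi) 1)
    have h1 := Set.mem_image_of_mem (fun b : ↥(D.group F) => s * b * s) hx
    rw [h] at h1
    have h2 : (s : GL D.Idx F) * xG hD F (D.simple i) 1 * (s : GL D.Idx F) ∈ D.borelSubgroup F := h1
    rw [hs'] at h2
    exact nS_conj_ne hD hi h2

end

end Cfsg.Agent.Lib.Helper8
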