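import Cfsg.Agent.Lib.Helper8.Longest
import Cfsg.Agent.S0308
import Cfsg.Agent.S0309

set_option autoImplicit false
set_option linter.unusedSectionVars false

namespace Cfsg.Agent.Lib.Helper8

open Cfsg Cfsg.Lie

/-- reduced words: every letter makes the element longer -/
def Red (D : ChevalleyDatum) : List ℕ → Prop
  | [] => True
  | p :: L => p < D.rank ∧ D.IsPosRoot (wR D L (D.simple p)) ∧ Red D L

theorem Red.lt {D : ChevalleyDatum} : ∀ {L : List ℕ}, Red D L → ∀ i ∈ L, i < D.rank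
  | [], _, i, hi => by simp at hi
  | p :: L, h, i, hi => by
    rcases List.mem_cons.mp hi with rfl | hi
    · exact h.1
    · exact Red.lt h.2.2 i hi

/-- the subgroup `U_w⁻` attached to `n ∈ N` -/
def Uw (D : ChevalleyDatum) (F : Type*) [Field F] (n : GL D.Idx F) : Subgroup (GL D.Idx F) :=
  Subgroup.closure {x : GL D.Idx F | ∃ (r : ℕ) (t : F), D.IsPosRoot r ∧
    (D.rootSubgroup F r).map (MulAut.conj n).toMonoidHom ≤ D.negUnipotent F ∧
    (x : Matrix D.Idx D.Idx F) = D.x F r t}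

section
variable {D : ChevalleyDatum} (hD : D ∈ allData) {F : Type*} [Field F]
include hD

theorem bruhat_exists {g : GL D.Idx F} (hg : g ∈ D.group F) :
    ∃ b ∈ D.borelSubgroup F, ∃ n ∈ D.monomialSubgroup F, ∃ b' ∈ D.borelSubgroup F, g = b * n * b' := by
  obtain ⟨n, hn, h⟩ := Cfsg.Agent.S0308.result (bnPair (F := F) hD) ⟨g, hg⟩
  rw [DoubleCoset.mem_doubleCoset] at h
  obtain ⟨x, hx, y, hy, e⟩ := h
  exact ⟨x, hx, n, hn, y, hy, congrArg Subtype.val e⟩

theorem bruhat_unique {n n' b b' c c' : GL D.Idx F} (hn : n ∈ D.monomialSubgroup F)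
    (hn' : n' ∈ D.monomialSubgroup F) (hb : b ∈ D.borelSubgroup F) (hb' : b' ∈ D.borelSubgroup F)
    (hc : c ∈ D.borelSubgroup F) (hc' : c' ∈ D.borelSubgroup F) (e : b * n * c = b' * n' * c') :
    n⁻¹ * n' ∈ D.diagonalSubgroup F := by
  have hG := mono_le_group (F := F) hD
  have hBG := borel_le_group (F := F) hD
  have key := (Cfsg.Agent.S0309.result (bnPair (F := F) hD) (n := ⟨n, hG hn⟩) (n' := ⟨n', hG hn'⟩) hn hn').mp ?_
  · have h1 : n⁻¹ * n' ∈ D.borelSubgroup F := key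
    rw [← borel_inf_mono hD]
    exact ⟨h1, Subgroup.mul_mem _ (Subgroup.inv_mem _ hn) hn'⟩
  · symm
    apply DoubleCoset.doubleCoset_eq_of_mem
    rw [DoubleCoset.mem_doubleCoset]
    refine ⟨⟨b'⁻¹ * b, hBG (Subgroup.mul_mem _ (Subgroup.inv_mem _ hb') hb)⟩,
      Subgroup.mul_mem _ (Subgroup.inv_mem _ hb') hb,
      ⟨c * c'⁻¹, hBG (Subgroup.mul_mem _ hc (Subgroup.inv_mem _ hc'))⟩,
      Subgroup.mul_mem _ hc (Subgroup.inv_mem _ hc'), ?_⟩
    apply Subtype.ext
    show n' = b'⁻¹ * b * n * (c * c'⁻¹)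
    have : b'⁻¹ * b * n * (c * c'⁻¹) = b'⁻¹ * (b * n * c) * c'⁻¹ := by group
    rw [this, e]
    group

/-- the deletion condition -/
theorem deletion (L' : List ℕ) (hL' : ∀ i ∈ L', i < D.rank) {k0 : ℕ} (hk0 : k0 < D.rank)
    (h1 : D.IsPosRoot (wR D L' (D.neg (D.simple k0)))) :
    ∃ L'' : List ℕ, (∀ i ∈ L'', i < D.rank) ∧ L''.length + 1 = L'.length ∧
      ∃ h ∈ D.diagonalSubgroup F, nR hD F (k0 :: L') = h * nR hD F L'' := by
  have hp := simple_lt hD hk0
  obtain ⟨v, j, pre, e1, e2⟩ := exists_split hD L' hL'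
    ((isNeg_neg_iff hD hp).mpr (simple_pos hD hk0)) h1
  have hv : ∀ i ∈ v, i < D.rank := fun i hi => hL' i (by rw [e1]; simp [hi])
  have hj : j < D.rank := hL' j (by rw [e1]; simp)
  have hpre : ∀ i ∈ pre, i < D.rank := fun i hi => hL' i (by rw [e1]; simp [hi])
  have hvp : ∀ i ∈ v ++ pre, i < D.rank := by
    intro i hi
    rcases List.mem_append.mp hi with h | h
    · exact hv i h
    · exact hpre i h
  have e3 : wR D v (D.simple k0) = D.simple j := by
    have a1 := (act_nR (F := F) hD v hv).neg _ hp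
    rw [e2] at a1
    have a2 := congrArg D.neg a1
    rw [neg_neg' hD (simple_lt hD hj), neg_neg' hD ((act_nR (F := F) hD v hv).lt _ hp)] at a2
    exact a2.symm
  obtain ⟨ε', hε', e4⟩ := conj_nR_n (F := F) hD v hv hp (ε := 1) (Or.inl rfl)
  rw [e3] at e4
  have h0 : nS hD F j * nG hD F (D.simple j) ε' ∈ D.diagonalSubgroup F := by
    rcases hε' with h | h
    · rw [h]; exact nS_sq_mem_diag hD hj
    · rw [h, ← nG_inv, mul_inv_cancel]; exact Subgroup.one_mem _
  have e5 : nR hD F (k0 :: L') =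
      (nR hD F pre * (nS hD F j * nG hD F (D.simple j) ε') * (nR hD F pre)⁻¹) * nR hD F (v ++ pre) := by
    show nR hD F L' * nS hD F k0 = _
    rw [e1, nR_append, nR_append, ← e4]
    show nR hD F pre * nS hD F j * nR hD F v * nS hD F k0 = _
    group
  have h2 := mono_conj_diag hD (nR_mem_mono hD pre hpre) h0
  refine ⟨v ++ pre, hvp, ?_, _, h2, e5⟩
  rw [e1]
  simp only [List.length_cons, List.length_append]
  omega

theorem exists_red (L : List ℕ) (hL : ∀ i ∈ L, i < D.rank) :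
    ∃ L' : List ℕ, Red D L' ∧ L'.length ≤ L.length ∧
      ∃ h ∈ D.diagonalSubgroup F, nR hD F L = h * nR hD F L' := by
  induction hk : L.length using Nat.strong_induction_on generalizing L with
  | _ k ih =>
    cases L with
    | nil => exact ⟨[], trivial, Nat.zero_le _, 1, Subgroup.one_mem _, (one_mul _).symm⟩
    | cons p L0 =>
      have hp := hL p List.mem_cons_self
      have hL0 : ∀ i ∈ L0, i < D.rank := fun j hj => hL j (List.mem_cons_of_mem _ hj)
      have hlen : L0.length < k := by rw [← hk]; simp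
      obtain ⟨L1, r1, len1, h1, hh1, e1⟩ := ih _ hlen L0 hL0 rfl
      have hact := act_nR (F := F) hD L1 r1.lt
      by_cases hpos : D.IsPosRoot (wR D L1 (D.simple p))
      · refine ⟨p :: L1, ⟨hp, hpos, r1⟩, by simp only [List.length_cons] at hk ⊢; omega, h1, hh1, ?_⟩
        show nR hD F L0 * nS hD F p = h1 * (nR hD F L1 * nS hD F p)
        rw [e1, mul_assoc]
      · have hneg : D.IsNegRoot (wR D L1 (D.simple p)) := by
          rcases pos_or_neg hD (hact.lt _ (simple_lt hD hp)) with h | h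
          · exact absurd h hpos
          · exact h
        have hpos' : D.IsPosRoot (wR D L1 (D.neg (D.simple p))) := by
          rw [hact.neg _ (simple_lt hD hp)]
          exact (isPos_neg_iff hD (hact.lt _ (simple_lt hD hp))).mpr hneg
        obtain ⟨L2, hL2, len2, h2, hh2, e2⟩ := deletion (F := F) hD L1 r1.lt hp hpos'
        obtain ⟨L3, r3, len3, h3, hh3, e3⟩ := ih L2.length (by omega) L2 hL2 rfl
        refine ⟨L3, r3, by simp only [List.length_cons] at hk; omega, h1 * h2 * h3,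
          Subgroup.mul_mem _ (Subgroup.mul_mem _ hh1 hh2) hh3, ?_⟩
        have : nR hD F (p :: L0) = h1 * nR hD F (p :: L1) := by
          show nR hD F L0 * nS hD F p = h1 * (nR hD F L1 * nS hD F p)
          rw [e1, mul_assoc]
        rw [this, e2, e3]
        group

/-! ### the subgroups `U_w⁻` -/

omit hD in
theorem Uw_le_posU (n : GL D.Idx F) : Uw D F n ≤ D.posUnipotent F := by
  rw [Uw, Subgroup.closure_le]
  rintro x ⟨r, t, hr, -, hx⟩
  exact Subgroup.subset_closure ⟨r, t, hr, hx⟩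

omit hD in
theorem conj_Uw_mem_negU {n u : GL D.Idx F} (hu : u ∈ Uw D F n) : n * u * n⁻¹ ∈ D.negUnipotent F := by
  have : Uw D F n ≤ (D.negUnipotent F).comap (MulAut.conj n).toMonoidHom := by
    rw [Uw, Subgroup.closure_le]
    rintro x ⟨r, t, -, h, hx⟩
    exact h (Subgroup.mem_map_of_mem _ (Subgroup.subset_closure ⟨t, hx⟩))
  exact this hu

theorem map_conj_le_negU_iff {n : GL D.Idx F} {π : ℕ → ℕ} (h : Act hD n π) {r : ℕ} (hr : r < D.nroots) :
    (D.rootSubgroup F r).map (MulAut.conj n).toMonoidHom ≤ D.negUnipotent F ↔ D.IsNegRoot (π r) := by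
  obtain ⟨κ, hκ⟩ := h.conj r hr
  constructor
  · intro hle
    rcases pos_or_neg hD (h.lt r hr) with h1 | h1
    · exfalso
      have h2 : xG hD F (π r) (κ * 1) ∈ D.borelSubgroup F ⊓ D.negUnipotent F := by
        refine ⟨posU_le_borel hD (xG_mem_posU hD h1 _), ?_⟩
        rw [← hκ 1]
        exact hle (Subgroup.mem_map_of_mem _ ((mem_rootSubgroup hD).mpr ⟨1, rfl⟩))
      rw [borel_inf_negU hD, Subgroup.mem_bot, xG_eq_one_iff hD (h.lt r hr)] at h2
      simp at h2
    · exact h1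
  · rintro hneg _ ⟨g, hg, rfl⟩
    obtain ⟨t, rfl⟩ := (mem_rootSubgroup hD).mp hg
    show n * xG hD F r t * n⁻¹ ∈ _
    rw [hκ t]
    exact xG_mem_negU hD hneg _

theorem xG_mem_Uw {n : GL D.Idx F} {π : ℕ → ℕ} (h : Act hD n π) {r : ℕ} (hr : D.IsPosRoot r)
    (hneg : D.IsNegRoot (π r)) (t : F) : xG hD F r t ∈ Uw D F n :=
  Subgroup.subset_closure ⟨r, t, hr, (map_conj_le_negU_iff hD h hr.1).mpr hneg, rfl⟩

theorem Uw_le {n : GL D.Idx F} {π : ℕ → ℕ} (h : Act hD n π) {K : Subgroup (GL D.Idx F)}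
    (hK : ∀ r, D.IsPosRoot r → D.IsNegRoot (π r) → ∀ t : F, xG hD F r t ∈ K) : Uw D F n ≤ K := by
  rw [Uw, Subgroup.closure_le]
  rintro x ⟨r, t, hr, hle, hx⟩
  rw [eq_xG hD hx]
  exact hK r hr ((map_conj_le_negU_iff hD h hr.1).mp hle) t

/-- `n_p⁻¹ x_r(t) n_p` -/
theorem conj_inv_nS_x {i s : ℕ} (hi : i < D.rank) (hs : s < D.nroots) (t : F) :
    (nS hD F i)⁻¹ * xG hD F s t * nS hD F i =
      xG hD F (D.reflectRoot i s) (((etaOf D i (D.reflectRoot i s) : ℤ) : F) * t) := by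
  have h := conj_nS_x hD hi (reflect_lt hD hi hs) (((etaOf D i (D.reflectRoot i s) : ℤ) : F) * t)
  rw [MulAut.conj_apply, reflect_reflect hD hi hs, ← mul_assoc, etaF_sq, one_mul] at h
  rw [← h]
  group

theorem conj_Uw_step {L : List ℕ} (hL : ∀ i ∈ L, i < D.rank) {p : ℕ} (hp : p < D.rank)
    (hpos : D.IsPosRoot (wR D L (D.simple p))) {c : GL D.Idx F} (hc : c ∈ Uw D F (nR hD F L)) :
    (nS hD F p)⁻¹ * c * nS hD F p ∈ Uw D F (nR hD F (p :: L)) := by
  have hL' : ∀ i ∈ p :: L, i < D.rank := by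
    intro i hi
    rcases List.mem_cons.mp hi with rfl | hi
    · exact hp
    · exact hL i hi
  have hact := act_nR (F := F) hD L hL
  have hact' := act_nR (F := F) hD (p :: L) hL'
  have : Uw D F (nR hD F L) ≤
      (Uw D F (nR hD F (p :: L))).comap (MulAut.conj (nS hD F p)⁻¹).toMonoidHom := by
    apply Uw_le hD hact
    intro r hr hneg t
    show (nS hD F p)⁻¹ * xG hD F r t * (nS hD F p)⁻¹⁻¹ ∈ Uw D F (nR hD F (p :: L))
    rw [inv_inv, conj_inv_nS_x hD hp hr.1]
    have hne : r ≠ D.simple p := by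
      rintro rfl
      exact not_pos_and_neg hD hpos hneg
    apply xG_mem_Uw hD hact' (reflect_pos hD hp hr hne)
    show D.IsNegRoot (wR D L (D.reflectRoot p (D.reflectRoot p r)))
    rw [reflect_reflect hD hp hr.1]
    exact hneg
  have h2 := this hc
  have h3 : (nS hD F p)⁻¹ * c * (nS hD F p)⁻¹⁻¹ ∈ Uw D F (nR hD F (p :: L)) := h2
  rwa [inv_inv] at h3

theorem xG_simple_mem_Uw {L : List ℕ} (hL : ∀ i ∈ L, i < D.rank) {p : ℕ} (hp : p < D.rank)
    (hpos : D.IsPosRoot (wR D L (D.simple p))) (t : F) :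
    xG hD F (D.simple p) t ∈ Uw D F (nR hD F (p :: L)) := by
  have hL' : ∀ i ∈ p :: L, i < D.rank := by
    intro i hi
    rcases List.mem_cons.mp hi with rfl | hi
    · exact hp
    · exact hL i hi
  have hact := act_nR (F := F) hD L hL
  apply xG_mem_Uw hD (act_nR (F := F) hD (p :: L) hL') (simple_pos hD hp)
  show D.IsNegRoot (wR D L (D.reflectRoot p (D.simple p)))
  rw [reflect_simple, hact.neg _ (simple_lt hD hp)]
  exact (isNeg_neg_iff hD (hact.lt _ (simple_lt hD hp))).mpr hpos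

/-- `U = (U ∩ n⁻¹ U n) U_w⁻` -/
theorem Uw_factor {L : List ℕ} (hL : Red D L) {u : GL D.Idx F} (hu : u ∈ D.posUnipotent F) :
    ∃ a ∈ D.posUnipotent F, ∃ c ∈ Uw D F (nR hD F L),
      nR hD F L * a * (nR hD F L)⁻¹ ∈ D.posUnipotent F ∧ u = a * c := by
  induction L generalizing u with
  | nil =>
    refine ⟨u, hu, 1, Subgroup.one_mem _, ?_, (mul_one u).symm⟩
    simpa [nR] using hu
  | cons p L ih =>
    obtain ⟨hp, hpos, hred⟩ := hL
    obtain ⟨y, hy, t, rfl⟩ := mem_posU_split hD hp hu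
    have hy' := nS_conj_Ui hD hp hy
    obtain ⟨a, ha, c, hc, hna, e⟩ := ih hred (Ui_le_posU hD p hy')
    have hc' := conj_Uw_step hD hred.lt hp hpos hc
    have hx := xG_simple_mem_Uw hD hred.lt hp hpos t
    have ey : y = ((nS hD F p)⁻¹ * a * nS hD F p) * ((nS hD F p)⁻¹ * c * nS hD F p) := by
      have : y = (nS hD F p)⁻¹ * (nS hD F p * y * (nS hD F p)⁻¹) * nS hD F p := by group
      rw [this, e]
      group
    refine ⟨(nS hD F p)⁻¹ * a * nS hD F p, ?_, ((nS hD F p)⁻¹ * c * nS hD F p) * xG hD F (D.simple p) t,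
      Subgroup.mul_mem _ hc' hx, ?_, ?_⟩
    · have : (nS hD F p)⁻¹ * a * nS hD F p = y * ((nS hD F p)⁻¹ * c * nS hD F p)⁻¹ := by
        rw [ey]; group
      rw [this]
      exact Subgroup.mul_mem _ (Ui_le_posU hD p hy) (Subgroup.inv_mem _ (Uw_le_posU _ hc'))
    · have : nR hD F (p :: L) * ((nS hD F p)⁻¹ * a * nS hD F p) * (nR hD F (p :: L))⁻¹ =
          nR hD F L * a * (nR hD F L)⁻¹ := by
        show nR hD F L * nS hD F p * ((nS hD F p)⁻¹ * a * nS hD F p) * (nR hD F L * nS hD F p)⁻¹ = _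
        group
      rw [this]
      exact hna
    · rw [← mul_assoc, ← ey]

/-- existence of the normal form, with a reduced word as representative -/
theorem normal_form_exists {g : GL D.Idx F} (hg : g ∈ D.group F) :
    ∃ b ∈ D.borelSubgroup F, ∃ L : List ℕ, Red D L ∧ ∃ u ∈ Uw D F (nR hD F L), g = b * nR hD F L * u := by
  obtain ⟨b, hb, n, hn, b', hb', rfl⟩ := bruhat_exists hD hg
  obtain ⟨h, hh, L0, hL0, rfl⟩ := mem_mono hD hn
  obtain ⟨L, hL, -, h', hh', e⟩ := exists_red (F := F) hD L0 hL0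
  obtain ⟨u2, hu2, h2, hh2, e2⟩ := mem_borel hD (Subgroup.inv_mem _ hb')
  have e3 : b' = h2⁻¹ * u2⁻¹ := by
    rw [← inv_inv b', e2]; group
  obtain ⟨a, ha, c, hc, hna, e4⟩ := Uw_factor (F := F) hD hL (Subgroup.inv_mem _ hu2)
  have hm := nR_mem_mono (F := F) hD L hL.lt
  refine ⟨b * h * h' * (nR hD F L * h2⁻¹ * (nR hD F L)⁻¹) * (nR hD F L * a * (nR hD F L)⁻¹), ?_, L, hL, c, hc, ?_⟩
  · refine Subgroup.mul_mem _ (Subgroup.mul_mem _ (Subgroup.mul_mem _ (Subgroup.mul_mem _ hb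
      (diag_le_borel hD hh)) (diag_le_borel hD hh')) (diag_le_borel hD ?_)) (posU_le_borel hD hna)
    exact mono_conj_diag hD hm (Subgroup.inv_mem _ hh2)
  · rw [e3, e4, e]
    group

theorem normal_form_unique {b b' n u u' : GL D.Idx F} (hb : b ∈ D.borelSubgroup F)
    (hb' : b' ∈ D.borelSubgroup F) (hu : u ∈ Uw D F n) (hu' : u' ∈ Uw D F n)
    (e : b * n * u = b' * n * u') : b = b' ∧ u = u' := by
  have h1 : b'⁻¹ * b = n * (u' * u⁻¹) * n⁻¹ := by
    have : b = b' * n * u' * u⁻¹ * n⁻¹ := by rw [← e]; group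
    rw [this]; group
  have h2 : b'⁻¹ * b ∈ D.borelSubgroup F ⊓ D.negUnipotent F := by
    refine ⟨Subgroup.mul_mem _ (Subgroup.inv_mem _ hb') hb, ?_⟩
    rw [h1]
    exact conj_Uw_mem_negU (Subgroup.mul_mem _ hu' (Subgroup.inv_mem _ hu))
  rw [borel_inf_negU hD, Subgroup.mem_bot] at h2
  have h3 : b = b' := by
    have := congrArg (fun z => b' * z) h2
    simpa using this
  refine ⟨h3, ?_⟩
  subst h3
  exact mul_left_cancel e

end

end Cfsg.Agent.Lib.Helper8
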