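import Cfsg.Agent.Lib.Helper8.FieldAut

set_option autoImplicit false
set_option linter.unusedSectionVars false

namespace Cfsg.Agent.Lib.Helper8

open Cfsg Cfsg.Lie

section
variable {D : ChevalleyDatum} (hD : D ∈ allData) {F : Type*} [Field F]
include hD

theorem posU_inf_negU : D.posUnipotent F ⊓ D.negUnipotent F = ⊥ := by
  rw [eq_bot_iff, ← borel_inf_negU hD]
  exact inf_le_inf_right _ (posU_le_borel hD)

theorem eq_one_of_posU_negU {g : GL D.Idx F} (h1 : g ∈ D.posUnipotent F) (h2 : g ∈ D.negUnipotent F) :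
    g = 1 := by
  have : g ∈ D.posUnipotent F ⊓ D.negUnipotent F := ⟨h1, h2⟩
  rwa [posU_inf_negU hD, Subgroup.mem_bot] at this

theorem borel_le_normalizer_posU :
    D.borelSubgroup F ≤ Subgroup.normalizer (D.posUnipotent F : Set (GL D.Idx F)) := by
  unfold ChevalleyDatum.borelSubgroup
  exact sup_le Subgroup.le_normalizer (diag_le_normalizer_posU hD)

theorem borel_conj_posU {b u : GL D.Idx F} (hb : b ∈ D.borelSubgroup F) (hu : u ∈ D.posUnipotent F) :
    b * u * b⁻¹ ∈ D.posUnipotent F :=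
  (Subgroup.mem_normalizer_iff.mp (borel_le_normalizer_posU hD hb) u).mp hu

theorem posU_le_normalizer_Ui {i : ℕ} (hi : i < D.rank) :
    D.posUnipotent F ≤ Subgroup.normalizer (Ui D F i : Set (GL D.Idx F)) := by
  rw [← Ui_sup_root hD hi]
  exact sup_le Subgroup.le_normalizer (le_trans le_sup_left (rootPair_le_normalizer_Ui hD hi))

theorem posU_conj_Ui {i : ℕ} (hi : i < D.rank) {u v : GL D.Idx F} (hu : u ∈ D.posUnipotent F)
    (hv : v ∈ Ui D F i) : u * v * u⁻¹ ∈ Ui D F i :=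
  (Subgroup.mem_normalizer_iff.mp (posU_le_normalizer_Ui hD hi hu) v).mp hv

theorem conj_nS_x_simple {i : ℕ} (hi : i < D.rank) (t : F) :
    nS hD F i * xG hD F (D.simple i) t * (nS hD F i)⁻¹ = xG hD F (D.neg (D.simple i)) (-t) := by
  rw [nS_x_simple hD hi]; group

theorem neg_simple_isNeg {i : ℕ} (hi : i < D.rank) : D.IsNegRoot (D.neg (D.simple i)) :=
  (isNeg_neg_iff hD (simple_lt hD hi)).mpr (simple_pos hD hi)

theorem xG_simple_not_mem_Ui {i : ℕ} (hi : i < D.rank) {t : F} (ht : t ≠ 0) :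
    xG hD F (D.simple i) t ∉ Ui D F i := by
  intro h
  have h1 := nS_conj_Ui hD hi h
  rw [conj_nS_x_simple hD hi] at h1
  have h2 := eq_one_of_posU_negU hD (Ui_le_posU hD i h1) (xG_mem_negU hD (neg_simple_isNeg hD hi) _)
  rw [xG_eq_one_iff hD (neg_lt' hD _ (simple_lt hD hi))] at h2
  exact ht (neg_eq_zero.mp h2)

theorem conj_act_mem_negU {n : GL D.Idx F} {π : ℕ → ℕ} (h : Act hD n π) {r : ℕ} (hr : r < D.nroots)
    (hneg : D.IsNegRoot (π r)) (t : F) : n * xG hD F r t * n⁻¹ ∈ D.negUnipotent F := by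
  obtain ⟨κ, hκ⟩ := h.conj r hr
  rw [hκ]
  exact xG_mem_negU hD hneg _

theorem conj_act_mem_posU {n : GL D.Idx F} {π : ℕ → ℕ} (h : Act hD n π) {r : ℕ} (hr : r < D.nroots)
    (hpos : D.IsPosRoot (π r)) (t : F) : n * xG hD F r t * n⁻¹ ∈ D.posUnipotent F := by
  obtain ⟨κ, hκ⟩ := h.conj r hr
  rw [hκ]
  exact xG_mem_posU hD hpos _

/-- an element of `U` that stays in `U` under `n_w`, where `w` makes `p` negative, has no `p`-component -/
theorem mem_Ui_of_conj_mem {L : List ℕ} {p : ℕ} (hL : Red D (p :: L)) {v : GL D.Idx F}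
    (hv : v ∈ D.posUnipotent F)
    (h : nR hD F (p :: L) * v * (nR hD F (p :: L))⁻¹ ∈ D.posUnipotent F) : v ∈ Ui D F p := by
  obtain ⟨hp, hpos, hred⟩ := hL
  obtain ⟨v', hv', t, rfl⟩ := mem_posU_split hD hp hv
  have hv'' := nS_conj_Ui hD hp hv'
  obtain ⟨a, ha, c, hc, hac, e⟩ := Uw_factor hD hred (Ui_le_posU hD p hv'')
  have hx := conj_nS_x_simple (F := F) hD hp t
  have e1 : nR hD F (p :: L) * (v' * xG hD F (D.simple p) t) * (nR hD F (p :: L))⁻¹ =
      (nR hD F L * a * (nR hD F L)⁻¹) *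
        (nR hD F L * (c * xG hD F (D.neg (D.simple p)) (-t)) * (nR hD F L)⁻¹) := by
    show nR hD F L * nS hD F p * (v' * xG hD F (D.simple p) t) * (nR hD F L * nS hD F p)⁻¹ = _
    rw [← hx]
    have : v' = (nS hD F p)⁻¹ * (a * c) * nS hD F p := by rw [← e]; group
    rw [this]; group
  have h2 : nR hD F L * (c * xG hD F (D.neg (D.simple p)) (-t)) * (nR hD F L)⁻¹ ∈ D.posUnipotent F := by
    have := Subgroup.mul_mem _ (Subgroup.inv_mem _ hac) h
    rwa [e1, inv_mul_cancel_left] at this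
  have hact := act_nR (F := F) hD L hred.lt
  have hlt := simple_lt hD hp
  have h3 : nR hD F L * (c * xG hD F (D.neg (D.simple p)) (-t)) * (nR hD F L)⁻¹ ∈ D.negUnipotent F := by
    have : nR hD F L * (c * xG hD F (D.neg (D.simple p)) (-t)) * (nR hD F L)⁻¹ =
        (nR hD F L * c * (nR hD F L)⁻¹) *
          (nR hD F L * xG hD F (D.neg (D.simple p)) (-t) * (nR hD F L)⁻¹) := by group
    rw [this]
    refine Subgroup.mul_mem _ (conj_Uw_mem_negU hc) (conj_act_mem_negU hD hact (neg_lt' hD _ hlt) ?_ _)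
    rw [hact.neg _ hlt]
    exact (isNeg_neg_iff hD (hact.lt _ hlt)).mpr hpos
  have h4 := eq_one_of_posU_negU hD h2 h3
  have h5 : c * xG hD F (D.neg (D.simple p)) (-t) = 1 := by
    have := congrArg (fun z => (nR hD F L)⁻¹ * z * nR hD F L) h4
    simpa [mul_assoc] using this
  have h6 : xG hD F (D.neg (D.simple p)) (-t) = c⁻¹ := eq_inv_of_mul_eq_one_right h5
  have h7 := eq_one_of_posU_negU hD (by rw [h6]; exact Subgroup.inv_mem _ (Uw_le_posU _ hc))
    (xG_mem_negU hD (neg_simple_isNeg hD hp) (-t))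
  rw [xG_eq_one_iff hD (neg_lt' hD _ hlt), neg_eq_zero] at h7
  rw [h7, xG_zero, mul_one]
  exact hv'

/-- an element of the group commuting with all `x_r(1)` is trivial -/
theorem eq_one_of_commute {g : GL D.Idx F} (hg : g ∈ D.group F)
    (hc : ∀ r < D.nroots, g * xG hD F r 1 = xG hD F r 1 * g) : g = 1 := by
  have hC : ∀ r < D.nroots, xG hD F r 1 ∈ Subgroup.centralizer {g} := by
    intro r hr
    rw [Subgroup.mem_centralizer_singleton_iff]
    exact (hc r hr).symm
  have hC' : ∀ r < D.nroots, xG hD F r (-1) ∈ Subgroup.centralizer {g} := by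
    intro r hr
    rw [← xG_inv]
    exact Subgroup.inv_mem _ (hC r hr)
  have hnS : ∀ i < D.rank, nS hD F i ∈ Subgroup.centralizer {g} := by
    intro i hi
    have hlt := simple_lt hD hi
    show nG hD F (D.simple i) 1 ∈ _
    unfold nG
    rw [inv_one]
    exact Subgroup.mul_mem _ (Subgroup.mul_mem _ (hC _ hlt) (hC' _ (neg_lt' hD _ hlt))) (hC _ hlt)
  have hnR : ∀ L : List ℕ, (∀ i ∈ L, i < D.rank) → nR hD F L ∈ Subgroup.centralizer {g} := by
    intro L
    induction L with
    | nil => intro _; exact Subgroup.one_mem _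
    | cons i L ih =>
      intro hL
      exact Subgroup.mul_mem _ (ih (fun j hj => hL j (List.mem_cons_of_mem _ hj))) (hnS i (hL i List.mem_cons_self))
  obtain ⟨b, hb, L, hL, u, hu, e⟩ := normal_form_exists hD hg
  have hB : g ∈ D.borelSubgroup F := by
    cases L with
    | nil =>
      have : u ∈ Uw D F 1 := hu
      rw [Uw_one hD, Subgroup.mem_bot] at this
      rw [e, this]
      show b * 1 * 1 ∈ _
      rw [mul_one, mul_one]
      exact hb
    | cons p L =>
      exfalso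
      have hp := hL.1
      have hlt := simple_lt hD hp
      have huU := Uw_le_posU _ hu
      have hxU := xG_mem_posU (F := F) hD (simple_pos hD hp) 1
      have hv : u * xG hD F (D.simple p) 1 * u⁻¹ ∈ D.posUnipotent F :=
        Subgroup.mul_mem _ (Subgroup.mul_mem _ huU hxU) (Subgroup.inv_mem _ huU)
      have h1 : nR hD F (p :: L) * (u * xG hD F (D.simple p) 1 * u⁻¹) * (nR hD F (p :: L))⁻¹ =
          b⁻¹ * xG hD F (D.simple p) 1 * b⁻¹⁻¹ := by
        have h2 : g * xG hD F (D.simple p) 1 * g⁻¹ = xG hD F (D.simple p) 1 := by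
          rw [hc _ hlt]; group
        have h3 : nR hD F (p :: L) * (u * xG hD F (D.simple p) 1 * u⁻¹) * (nR hD F (p :: L))⁻¹ =
            b⁻¹ * (g * xG hD F (D.simple p) 1 * g⁻¹) * b⁻¹⁻¹ := by
          rw [e]; group
        rw [h3, h2]
      have h4 := mem_Ui_of_conj_mem hD hL hv (by
        rw [h1]; exact borel_conj_posU hD (Subgroup.inv_mem _ hb) hxU)
      have h5 := posU_conj_Ui hD hp (Subgroup.inv_mem _ huU) h4
      have h6 : u⁻¹ * (u * xG hD F (D.simple p) 1 * u⁻¹) * u⁻¹⁻¹ = xG hD F (D.simple p) 1 := by group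
      rw [h6] at h5
      exact xG_simple_not_mem_Ui hD hp one_ne_zero h5
  have hn0 : n0 hD F * g * (n0 hD F)⁻¹ = g := by
    have := hnR (w0Of D) (w0_lt hD)
    rw [Subgroup.mem_centralizer_singleton_iff] at this
    have h' : n0 hD F * g = g * n0 hD F := this
    rw [h']; group
  have hH : g ∈ D.diagonalSubgroup F := by
    rw [← borel_inf_negBorel hD]
    refine ⟨hB, ?_⟩
    rw [← hn0]
    exact conj_n0_borel hD hB
  rw [diag_eq_torus hD, mem_torus] at hH
  obtain ⟨c, rfl⟩ := hH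
  apply tG_eq_one_of_chi hD
  intro s hs
  have h1 := conj_tG_x (F := F) hD c hs 1
  rw [hc s hs, mul_inv_cancel_right] at h1
  have h2 := xG_inj hD hs h1
  rw [mul_one] at h2
  exact Units.ext h2.symm

end

end Cfsg.Agent.Lib.Helper8
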