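import Cfsg.Prelude.Def_ChevStructure
import Cfsg.Prelude.Def_LieTypes
import Cfsg.Prelude.Def_ChevB2

set_option autoImplicit false
set_option linter.unusedSimpArgs false

namespace Cfsg.Agent.Lib.Helper8

open Cfsg Cfsg.Lie

/-- The seven tabulated data. -/
def allData : List ChevalleyDatum := [chevG2, chevB2, chevD4, chevF4, chevE6, chevE7, chevE8]

/-- `neg` is in range and moves every root. -/
def negOK (D : ChevalleyDatum) : Bool :=
  (List.range D.nroots).all fun r =>
    decide (D.negIdx.getD r 0 < D.nroots) && !(decide (D.negIdx.getD r 0 = r))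

theorem negOK_all : ∀ D ∈ allData, negOK D = true := by decide +kernel

theorem neg_lt {D : ChevalleyDatum} (hD : D ∈ allData) {r : ℕ} (hr : r < D.nroots) :
    D.negIdx.getD r 0 < D.nroots := by
  have h := negOK_all D hD
  simp only [negOK, List.all_eq_true, List.mem_range, Bool.and_eq_true, decide_eq_true_eq] at h
  exact (h r hr).1

theorem neg_ne {D : ChevalleyDatum} (hD : D ∈ allData) {r : ℕ} (hr : r < D.nroots) :
    D.negIdx.getD r 0 ≠ r := by
  have h := negOK_all D hD
  simp only [negOK, List.all_eq_true, List.mem_range, Bool.and_eq_true, decide_eq_true_eq,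
    Bool.not_eq_true', decide_eq_false_iff_not] at h
  exact (h r hr).2

theorem chainCoeff_pos (D : ChevalleyDatum) (r s u : ℕ) : ∀ km ∈ D.chainCoeff r s u, 1 ≤ km.1 := by
  intro km hkm
  simp only [ChevalleyDatum.chainCoeff, List.mem_flatMap, List.mem_map] at hkm
  obtain ⟨e, -, q, -, rfl⟩ := hkm
  simp

theorem xMat_zero (D : ChevalleyDatum) (F : Type*) [Field F] (r : Fin D.nroots) :
    D.xMat F r 0 = 1 := by
  ext row col
  rcases col with i | s
  · rcases row with i' | u
    · simp [ChevalleyDatum.xMat, Matrix.one_apply]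
    · simp [ChevalleyDatum.xMat, Matrix.one_apply]
  · by_cases hsr : s = r
    · subst hsr
      rcases row with i' | u
      · simp [ChevalleyDatum.xMat, Matrix.one_apply]
      · simp [ChevalleyDatum.xMat, Matrix.one_apply]
    · by_cases hneg : s.val = D.negIdx.getD r.val 0
      · rcases row with i' | u
        · simp [ChevalleyDatum.xMat, Matrix.one_apply, hsr, hneg]
        · simp [ChevalleyDatum.xMat, Matrix.one_apply, hsr, hneg]
      · rcases row with i' | u
        · simp [ChevalleyDatum.xMat, Matrix.one_apply, hsr, hneg]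
        · have hz : ((D.chainCoeff r.val s.val u.val).map
              fun km => ((km.2 : ℤ) : F) * (0 : F) ^ km.1).sum = 0 := by
            apply List.sum_eq_zero
            intro x hx
            simp only [List.mem_map] at hx
            obtain ⟨km, hkm, rfl⟩ := hx
            have := chainCoeff_pos D _ _ _ km hkm
            rw [zero_pow (by omega), mul_zero]
          simp [ChevalleyDatum.xMat, Matrix.one_apply, hsr, hneg, hz]

theorem x_eq_one_iff {D : ChevalleyDatum} (hD : D ∈ allData) (F : Type*) [Field F]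
    {r : ℕ} (hr : r < D.nroots) (t : F) : D.x F r t = 1 ↔ t = 0 := by
  constructor
  · intro h
    have hlt := neg_lt hD hr
    have hne := neg_ne hD hr
    have h1 := congrFun (congrFun h (Sum.inr ⟨r, hr⟩)) (Sum.inr ⟨D.negIdx.getD r 0, hlt⟩)
    have hne' : (⟨D.negIdx.getD r 0, hlt⟩ : Fin D.nroots) ≠ ⟨r, hr⟩ := by
      intro hh; exact hne (Fin.mk.inj_iff.mp hh)
    rw [ChevalleyDatum.x, dif_pos hr, Matrix.one_apply, if_neg (by
      intro hh; exact hne'.symm (Sum.inr.inj hh))] at h1
    simp only [ChevalleyDatum.xMat, Matrix.of_apply] at h1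
    rw [if_neg hne', if_pos trivial, if_neg hne'.symm, if_pos trivial] at h1
    simpa using h1
  · rintro rfl
    simp [ChevalleyDatum.x, hr, xMat_zero]

/-- every root is positive or negative -/
def posNegOK (D : ChevalleyDatum) : Bool :=
  (List.range D.nroots).all fun r => decide (D.IsPosRoot r) || decide (D.IsNegRoot r)

theorem posNegOK_all : ∀ D ∈ allData, posNegOK D = true := by decide +kernel

theorem pos_or_neg {D : ChevalleyDatum} (hD : D ∈ allData) {r : ℕ} (hr : r < D.nroots) :
    D.IsPosRoot r ∨ D.IsNegRoot r := by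
  have h := posNegOK_all D hD
  simp only [posNegOK, List.all_eq_true, List.mem_range, Bool.or_eq_true, decide_eq_true_eq] at h
  exact h r hr

theorem pos_sup_neg {D : ChevalleyDatum} (hD : D ∈ allData) (F : Type*) [Field F] :
    D.posUnipotent F ⊔ D.negUnipotent F = D.group F := by
  rw [ChevalleyDatum.posUnipotent, ChevalleyDatum.negUnipotent, ChevalleyDatum.group,
    ← Subgroup.closure_union]
  congr 1
  ext g
  simp only [Set.mem_union, Set.mem_setOf_eq]
  constructor
  · rintro (⟨r, t, hr, hg⟩ | ⟨r, t, hr, hg⟩)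
    · refine ⟨⟨r, hr.1⟩, t, ?_⟩
      rw [hg, ChevalleyDatum.x, dif_pos hr.1]
    · refine ⟨⟨r, hr.1⟩, t, ?_⟩
      rw [hg, ChevalleyDatum.x, dif_pos hr.1]
  · rintro ⟨r, t, hg⟩
    rcases pos_or_neg hD r.2 with h | h
    · left
      refine ⟨r.1, t, h, ?_⟩
      rw [hg, ChevalleyDatum.x, dif_pos r.2]
    · right
      refine ⟨r.1, t, h, ?_⟩
      rw [hg, ChevalleyDatum.x, dif_pos r.2]

end Cfsg.Agent.Lib.Helper8
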