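import Cfsg.Agent.Lib.Helper8.Fast
import Cfsg.Prelude.Def_ChevB2

set_option autoImplicit false

namespace Cfsg.Agent.Lib.Helper8

def recB2_0 : RootRec := ⟨0xc0c00000a0400000000000000000000000000000000000000000, 7, [(2, 2, -1), (0, 1, (-1)), (1, 1, (-1))], [2, 0]⟩
def recB2_1 : RootRec := ⟨0x1411830000000000000040800280d03000000000000018040000000000000000, 6, [(3, 2, -1), (0, 1, (-1)), (1, 1, (-2))], [0, 1]⟩
def recB2_2 : RootRec := ⟨0xc16838000008140000000000000000000c06810000000000000040200000000, 5, [(4, 2, -1), (0, 1, (-1)), (1, 1, 0)], [2, (-1)]⟩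
def recB2_3 : RootRec := ⟨0x1418000000000000000000000000000000c080000000000000000, 4, [(5, 2, -1), (0, 1, 0), (1, 1, (-1))], [(-2), 2]⟩
def recB2_4 : RootRec := ⟨0xa0e00000000000000000000000000000060600000000, 3, [(6, 2, -1), (0, 1, 0), (1, 1, 1)], [2, (-2)]⟩
def recB2_5 : RootRec := ⟨0x182000000000001843070000000000000000000000c0800182302, 2, [(7, 2, -1), (0, 1, 1), (1, 1, 0)], [(-2), 1]⟩
def recB2_6 : RootRec := ⟨0x41000000000001421830000018140000000000282d03, 1, [(8, 2, -1), (0, 1, 1), (1, 1, 2)], [0, (-1)]⟩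
def recB2_7 : RootRec := ⟨0xc1c00000a0c00000000, 0, [(9, 2, -1), (0, 1, 1), (1, 1, 1)], [(-2), 0]⟩

def treeB2 : RTree := (.node (.node (.node (.leaf recB2_0) (.leaf recB2_1)) (.node (.leaf recB2_2) (.leaf recB2_3))) (.node (.node (.leaf recB2_4) (.leaf recB2_5)) (.node (.leaf recB2_6) (.leaf recB2_7))))

theorem treeB2_ok : fastOK Cfsg.Lie.chevB2 treeB2 4 = true := by decide +kernel

end Cfsg.Agent.Lib.Helper8
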