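import Cfsg.Agent.Lib.Helper8.IdW
import Cfsg.Agent.Lib.Helper8.TabB2

set_option autoImplicit false

namespace Cfsg.Agent.Lib.Helper8

def nrowB2_0 : ℕ := 0x8241a0507804160303
def nrowB2_1 : ℕ := 0x3c140d03820060400

def nrowB2 (i : ℕ) : ℕ := [nrowB2_0, nrowB2_1].getD i 0

theorem nrowB2_ok_0 : chkNT Cfsg.Lie.chevB2.rank Cfsg.Lie.chevB2.nroots nrowB2_0
    (opN1 Cfsg.Lie.chevB2.rank Cfsg.Lie.chevB2.nroots (fun r => treeB2.get r 4) 5) = true := by
  decide +kernel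

theorem nrowB2_ok_1 : chkNT Cfsg.Lie.chevB2.rank Cfsg.Lie.chevB2.nroots nrowB2_1
    (opN1 Cfsg.Lie.chevB2.rank Cfsg.Lie.chevB2.nroots (fun r => treeB2.get r 4) 4) = true := by
  decide +kernel

theorem nrowB2_w_0 : chkW Cfsg.Lie.chevB2 (fun r => treeB2.get r 4) nrowB2_0 0 = true := by
  decide +kernel

theorem nrowB2_w_1 : chkW Cfsg.Lie.chevB2 (fun r => treeB2.get r 4) nrowB2_1 1 = true := by
  decide +kernel

theorem cW_B2 : WOK Cfsg.Lie.chevB2 (fun r => treeB2.get r 4) nrowB2 := by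
  intro i hi
  by_cases h0 : i = 0
  · subst h0; exact nrowB2_w_0
  have h1 : i = 1 := by have : Cfsg.Lie.chevB2.rank = 2 := rfl; omega
  subst h1; exact nrowB2_w_1

end Cfsg.Agent.Lib.Helper8
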