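import Cfsg.Agent.Lib.Helper8.IdW
import Cfsg.Agent.Lib.Helper8.TabD4

set_option autoImplicit false

namespace Cfsg.Agent.Lib.Helper8

def nrowD4_0 : ℕ := 0xb844200f074162d158a44c1a0c0582a09038140624090401c0c00
def nrowD4_1 : ℕ := 0x8b05c2a148904c220d06426210f8441e1c0b050180905018080101
def nrowD4_2 : ℕ := 0xbc5226160a84a1f0e08842140c05c340e0684c200a0200c120600
def nrowD4_3 : ℕ := 0xbc542d130a04a20118703c1b0b8602811090341c0a03820060400

def nrowD4 (i : ℕ) : ℕ := [nrowD4_0, nrowD4_1, nrowD4_2, nrowD4_3].getD i 0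

theorem nrowD4_ok_0 : chkNT Cfsg.Lie.chevD4.rank Cfsg.Lie.chevD4.nroots nrowD4_0
    (opN1 Cfsg.Lie.chevD4.rank Cfsg.Lie.chevD4.nroots (fun r => treeD4.get r 16) 18) = true := by
  decide +kernel

theorem nrowD4_ok_1 : chkNT Cfsg.Lie.chevD4.rank Cfsg.Lie.chevD4.nroots nrowD4_1
    (opN1 Cfsg.Lie.chevD4.rank Cfsg.Lie.chevD4.nroots (fun r => treeD4.get r 16) 14) = true := by
  decide +kernel

theorem nrowD4_ok_2 : chkNT Cfsg.Lie.chevD4.rank Cfsg.Lie.chevD4.nroots nrowD4_2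
    (opN1 Cfsg.Lie.chevD4.rank Cfsg.Lie.chevD4.nroots (fun r => treeD4.get r 16) 13) = true := by
  decide +kernel

theorem nrowD4_ok_3 : chkNT Cfsg.Lie.chevD4.rank Cfsg.Lie.chevD4.nroots nrowD4_3
    (opN1 Cfsg.Lie.chevD4.rank Cfsg.Lie.chevD4.nroots (fun r => treeD4.get r 16) 12) = true := by
  decide +kernel

theorem nrowD4_w_0 : chkW Cfsg.Lie.chevD4 (fun r => treeD4.get r 16) nrowD4_0 0 = true := by
  decide +kernel

theorem nrowD4_w_1 : chkW Cfsg.Lie.chevD4 (fun r => treeD4.get r 16) nrowD4_1 1 = true := by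
  decide +kernel

theorem nrowD4_w_2 : chkW Cfsg.Lie.chevD4 (fun r => treeD4.get r 16) nrowD4_2 2 = true := by
  decide +kernel

theorem nrowD4_w_3 : chkW Cfsg.Lie.chevD4 (fun r => treeD4.get r 16) nrowD4_3 3 = true := by
  decide +kernel

theorem cW_D4 : WOK Cfsg.Lie.chevD4 (fun r => treeD4.get r 16) nrowD4 := by
  intro i hi
  by_cases h0 : i = 0
  · subst h0; exact nrowD4_w_0
  by_cases h1 : i = 1
  · subst h1; exact nrowD4_w_1
  by_cases h2 : i = 2
  · subst h2; exact nrowD4_w_2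
  have h3 : i = 3 := by have : Cfsg.Lie.chevD4.rank = 4 := rfl; omega
  subst h3; exact nrowD4_w_3

end Cfsg.Agent.Lib.Helper8
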