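import Cfsg.Agent.Lib.Helper8.IdW
import Cfsg.Agent.Lib.Helper8.TabE6

set_option autoImplicit false

namespace Cfsg.Agent.Lib.Helper8

def nrowE6_0 : ℕ := 0x239188a44218dc6c351a0cc642d160ac550fa1506813f9f4f46230178ba793b9d4e45228138984a241188842200f87a1d0d8642c32180b85a15098441e0d059c074381b0d0542813090442004018080200
def nrowE6_1 : ℕ := 0xa311c8a442190882409e4ee743f1f0f472381b8d86b2d964ac522813c646833190aa6330978984a241188843188bc583a150a04e5c200f87a391b8d048221007838140904436190b038180a04018080101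
def nrowE6_2 : ℕ := 0x2391a8541a011488431f8f87a3c1d8ea70391b8d86b31984bc6833190b8522813c765b2c958984a2411888431c8dc6a54200f87832150a04e31178b04822100743c1a0c0582812080200c0507834140200
def nrowE6_3 : ℕ := 0x23d148c442190a7f3e209007a3c1dce474381bcd266361a8c86230970bc5a2c950ac4c25904a6502411c7e3d2711084391d0d86831190b8582a1208c522610078361c0c058280e0684c200a04018060400
def nrowE6_4 : ℕ := 0x2391a884521d0484401fcf47c3c9d0ec72389b0dc6a34990cc632f180b85b2b160a8532714092452690c94461f900783a1b8e06832178c058291509848211107838190d058261408038160c040140c0200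
def nrowE6_5 : ℕ := 0x239188b432210a80419f0fc7b3b1e0e872381bcd46d331a0ca6031178ba582d158aa502913c944d239208644200f47c3a1c0d46c32180b45c2a138a0462410078381a0b8602811090341c0a03820080200

def nrowE6 (i : ℕ) : ℕ := [nrowE6_0, nrowE6_1, nrowE6_2, nrowE6_3, nrowE6_4, nrowE6_5].getD i 0

theorem nrowE6_ok_0 : chkNT Cfsg.Lie.chevE6.rank Cfsg.Lie.chevE6.nroots nrowE6_0
    (opN1 Cfsg.Lie.chevE6.rank Cfsg.Lie.chevE6.nroots (fun r => treeE6.get r 64) 56) = true := by
  decide +kernel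

theorem nrowE6_ok_1 : chkNT Cfsg.Lie.chevE6.rank Cfsg.Lie.chevE6.nroots nrowE6_1
    (opN1 Cfsg.Lie.chevE6.rank Cfsg.Lie.chevE6.nroots (fun r => treeE6.get r 64) 46) = true := by
  decide +kernel

theorem nrowE6_ok_2 : chkNT Cfsg.Lie.chevE6.rank Cfsg.Lie.chevE6.nroots nrowE6_2
    (opN1 Cfsg.Lie.chevE6.rank Cfsg.Lie.chevE6.nroots (fun r => treeE6.get r 64) 42) = true := by
  decide +kernel

theorem nrowE6_ok_3 : chkNT Cfsg.Lie.chevE6.rank Cfsg.Lie.chevE6.nroots nrowE6_3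
    (opN1 Cfsg.Lie.chevE6.rank Cfsg.Lie.chevE6.nroots (fun r => treeE6.get r 64) 39) = true := by
  decide +kernel

theorem nrowE6_ok_4 : chkNT Cfsg.Lie.chevE6.rank Cfsg.Lie.chevE6.nroots nrowE6_4
    (opN1 Cfsg.Lie.chevE6.rank Cfsg.Lie.chevE6.nroots (fun r => treeE6.get r 64) 37) = true := by
  decide +kernel

theorem nrowE6_ok_5 : chkNT Cfsg.Lie.chevE6.rank Cfsg.Lie.chevE6.nroots nrowE6_5
    (opN1 Cfsg.Lie.chevE6.rank Cfsg.Lie.chevE6.nroots (fun r => treeE6.get r 64) 36) = true := by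
  decide +kernel

theorem nrowE6_w_0 : chkW Cfsg.Lie.chevE6 (fun r => treeE6.get r 64) nrowE6_0 0 = true := by
  decide +kernel

theorem nrowE6_w_1 : chkW Cfsg.Lie.chevE6 (fun r => treeE6.get r 64) nrowE6_1 1 = true := by
  decide +kernel

theorem nrowE6_w_2 : chkW Cfsg.Lie.chevE6 (fun r => treeE6.get r 64) nrowE6_2 2 = true := by
  decide +kernel

theorem nrowE6_w_3 : chkW Cfsg.Lie.chevE6 (fun r => treeE6.get r 64) nrowE6_3 3 = true := by
  decide +kernel

theorem nrowE6_w_4 : chkW Cfsg.Lie.chevE6 (fun r => treeE6.get r 64) nrowE6_4 4 = true := by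
  decide +kernel

theorem nrowE6_w_5 : chkW Cfsg.Lie.chevE6 (fun r => treeE6.get r 64) nrowE6_5 5 = true := by
  decide +kernel

theorem cW_E6 : WOK Cfsg.Lie.chevE6 (fun r => treeE6.get r 64) nrowE6 := by
  intro i hi
  by_cases h0 : i = 0
  · subst h0; exact nrowE6_w_0
  by_cases h1 : i = 1
  · subst h1; exact nrowE6_w_1
  by_cases h2 : i = 2
  · subst h2; exact nrowE6_w_2
  by_cases h3 : i = 3
  · subst h3; exact nrowE6_w_3
  by_cases h4 : i = 4
  · subst h4; exact nrowE6_w_4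
  have h5 : i = 5 := by have : Cfsg.Lie.chevE6.rank = 6 := rfl; omega
  subst h5; exact nrowE6_w_5

end Cfsg.Agent.Lib.Helper8
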