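import Cfsg.Agent.Lib.Helper8.IdW
import Cfsg.Agent.Lib.Helper8.TabE7

set_option autoImplicit false

namespace Cfsg.Agent.Lib.Helper8

def nrowE7_0 : ℕ := 0x2f87d3d9e8f2783b9d8ea74399c8e270379b8da5c2d968b2582b958aa5429934984b25126416cb5daad368b3d9acb64b1948a2502793ac561b057ebc48239188a442190882401f8f87a3c1d8e872381b8d86b1f8f476391b178b85a2c15c6a33188bc5a2b1489c4a235d1a0cc6431180a85228138984a24118884210078381a0c058281208038180a04018080101
def nrowE7_1 : ℕ := 0xfa7c3dddaeb74b99e8f2783b9c8e270379b8da6c359a8d26833d8ac360af998ca6431978ba5c2d968b2582bd36994ba51208e4622cbcac552a14c9352a8d429e442190882401f8f87a3c1d8e8732e96cb25634150a45027a70e06e361acce6531980984a241188842200f86832180bc7a3b1c8d8582a14098482210078381a0c058180a0401c2a1308838080200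
def nrowE7_2 : ℕ := 0xfb7b3e1e8f2783b9d8ea7439db2d76ab4da2ce72389c0de6e36998ca6431988c2602fd74bc5c2d968b2582bd4aa350a7958aa5429938904723116694da652e94442190882401f8f87a3c1d8e87333994c661491c0dc6c35178a8522813cba5b2c958984a2411888421f900783a1c0d86832180b8401e0e0683017168ac522712888281208038180a04018060400
def nrowE7_3 : ℕ := 0xfa7cbd1ecf2783b9dae571b81d4e873379b8da6c359aacd65b21a4d06731988c260af17cba5c2d96aad55aa164b05729948a250a713c9a4c25d2494442190a7148a3d1882401f8f87a3c9bcda6b451d8e872339a0c86230174bc5a2c158a84c25124a651271188842200f47c3a1c0d8682c150a466311709848221007838140904436190b038180a040140c0200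
def nrowE7_4 : ℕ := 0xfa7c3dde4f4783bdd4ec74399cadf6e389c0da6cb4da0d66a33998cb6332188c35f30178ba5cacd60b65a2b958ab532a148a34f281389a4ca512c924823d148c41204ee89431f8fa7539a10f478379c0d86a34194cc6230178b65c2c158a6542813898462292c9042200f8763c1c0d86634180b85826128ac502210068321f0e058281207840180a03820080200
def nrowE7_5 : ℕ := 0xfa7c3d9eaf0793b9dae87539dc4e47037db4dd6b361a8d3673419ac8653198ac0612f978bb5b2e168b3572c15aa8552994aa051279389b4b261289248a311c8a44a110c7f3da0cf2803e1d4ec72381b4dc6a34198c66430178b8592d158a85129138964c241188644200f878391d0d86831190b8562c1409846240f880381a0b860281109038180905018080200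
def nrowE7_6 : ℕ := 0xfa7c3d9e8f3773c1d8eb733a1cae071b71bcda6cb51aed06933d94cc6431d84c4602f978ba5cad16eb0592bd54ac5429d44a4502793a984d259289347241188b432210a80419f4fc793d1d8e674381b8d66c34198c86131178b85a2b960a852279409849251148c42200f8783a1b8e06832178c05829150944c22100743c190d058261408038160c04018080200

def nrowE7 (i : ℕ) : ℕ := [nrowE7_0, nrowE7_1, nrowE7_2, nrowE7_3, nrowE7_4, nrowE7_5, nrowE7_6].getD i 0

theorem nrowE7_ok_0 : chkNT Cfsg.Lie.chevE7.rank Cfsg.Lie.chevE7.nroots nrowE7_0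
    (opN1 Cfsg.Lie.chevE7.rank Cfsg.Lie.chevE7.nroots (fun r => treeE7.get r 64) 93) = true := by
  decide +kernel

theorem nrowE7_ok_1 : chkNT Cfsg.Lie.chevE7.rank Cfsg.Lie.chevE7.nroots nrowE7_1
    (opN1 Cfsg.Lie.chevE7.rank Cfsg.Lie.chevE7.nroots (fun r => treeE7.get r 64) 78) = true := by
  decide +kernel

theorem nrowE7_ok_2 : chkNT Cfsg.Lie.chevE7.rank Cfsg.Lie.chevE7.nroots nrowE7_2
    (opN1 Cfsg.Lie.chevE7.rank Cfsg.Lie.chevE7.nroots (fun r => treeE7.get r 64) 73) = true := by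
  decide +kernel

theorem nrowE7_ok_3 : chkNT Cfsg.Lie.chevE7.rank Cfsg.Lie.chevE7.nroots nrowE7_3
    (opN1 Cfsg.Lie.chevE7.rank Cfsg.Lie.chevE7.nroots (fun r => treeE7.get r 64) 69) = true := by
  decide +kernel

theorem nrowE7_ok_4 : chkNT Cfsg.Lie.chevE7.rank Cfsg.Lie.chevE7.nroots nrowE7_4
    (opN1 Cfsg.Lie.chevE7.rank Cfsg.Lie.chevE7.nroots (fun r => treeE7.get r 64) 66) = true := by
  decide +kernel

theorem nrowE7_ok_5 : chkNT Cfsg.Lie.chevE7.rank Cfsg.Lie.chevE7.nroots nrowE7_5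
    (opN1 Cfsg.Lie.chevE7.rank Cfsg.Lie.chevE7.nroots (fun r => treeE7.get r 64) 64) = true := by
  decide +kernel

theorem nrowE7_ok_6 : chkNT Cfsg.Lie.chevE7.rank Cfsg.Lie.chevE7.nroots nrowE7_6
    (opN1 Cfsg.Lie.chevE7.rank Cfsg.Lie.chevE7.nroots (fun r => treeE7.get r 64) 63) = true := by
  decide +kernel

theorem nrowE7_w_0 : chkW Cfsg.Lie.chevE7 (fun r => treeE7.get r 64) nrowE7_0 0 = true := by
  decide +kernel

theorem nrowE7_w_1 : chkW Cfsg.Lie.chevE7 (fun r => treeE7.get r 64) nrowE7_1 1 = true := by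
  decide +kernel

theorem nrowE7_w_2 : chkW Cfsg.Lie.chevE7 (fun r => treeE7.get r 64) nrowE7_2 2 = true := by
  decide +kernel

theorem nrowE7_w_3 : chkW Cfsg.Lie.chevE7 (fun r => treeE7.get r 64) nrowE7_3 3 = true := by
  decide +kernel

theorem nrowE7_w_4 : chkW Cfsg.Lie.chevE7 (fun r => treeE7.get r 64) nrowE7_4 4 = true := by
  decide +kernel

theorem nrowE7_w_5 : chkW Cfsg.Lie.chevE7 (fun r => treeE7.get r 64) nrowE7_5 5 = true := by
  decide +kernel

theorem nrowE7_w_6 : chkW Cfsg.Lie.chevE7 (fun r => treeE7.get r 64) nrowE7_6 6 = true := by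
  decide +kernel

theorem cW_E7 : WOK Cfsg.Lie.chevE7 (fun r => treeE7.get r 64) nrowE7 := by
  intro i hi
  by_cases h0 : i = 0
  · subst h0; exact nrowE7_w_0
  by_cases h1 : i = 1
  · subst h1; exact nrowE7_w_1
  by_cases h2 : i = 2
  · subst h2; exact nrowE7_w_2
  by_cases h3 : i = 3
  · subst h3; exact nrowE7_w_3
  by_cases h4 : i = 4
  · subst h4; exact nrowE7_w_4
  by_cases h5 : i = 5
  · subst h5; exact nrowE7_w_5
  have h6 : i = 6 := by have : Cfsg.Lie.chevE7.rank = 7 := rfl; omega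
  subst h6; exact nrowE7_w_6

end Cfsg.Agent.Lib.Helper8
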