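import Cfsg.Agent.Lib.Helper8.IdW
import Cfsg.Agent.Lib.Helper8.TabF4

set_option autoImplicit false

namespace Cfsg.Agent.Lib.Helper8

def nrowF4_0 : ℕ := 0x178b85b289047e3c2c93c9a4a1d0e06e1d2b954a649239106832180b8582b0d8642e0d058248428130942a130801c46210f838080200
def nrowF4_1 : ℕ := 0x178b8572c168a8532714492462612c8444208d4663b1c8a47e3c180bc46211b89c4a2d15078361c0a04c321607840180a02818100200
def nrowF4_2 : ℕ := 0x17cb45c2c950ac52289309c4a249108c431f100783b1b0e0622d1a8ac642e138a048220f88038190d058281109038180905018060400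
def nrowF4_3 : ℕ := 0x970bc5a2c15ca4542813c944d231208842208f07e381d0dc6435178c0562c140944c2111078381a0b860261408038160c04018080101

def nrowF4 (i : ℕ) : ℕ := [nrowF4_0, nrowF4_1, nrowF4_2, nrowF4_3].getD i 0

theorem nrowF4_ok_0 : chkNT Cfsg.Lie.chevF4.rank Cfsg.Lie.chevF4.nroots nrowF4_0
    (opN1 Cfsg.Lie.chevF4.rank Cfsg.Lie.chevF4.nroots (fun r => treeF4.get r 32) 33) = true := by
  decide +kernel

theorem nrowF4_ok_1 : chkNT Cfsg.Lie.chevF4.rank Cfsg.Lie.chevF4.nroots nrowF4_1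
    (opN1 Cfsg.Lie.chevF4.rank Cfsg.Lie.chevF4.nroots (fun r => treeF4.get r 32) 27) = true := by
  decide +kernel

theorem nrowF4_ok_2 : chkNT Cfsg.Lie.chevF4.rank Cfsg.Lie.chevF4.nroots nrowF4_2
    (opN1 Cfsg.Lie.chevF4.rank Cfsg.Lie.chevF4.nroots (fun r => treeF4.get r 32) 25) = true := by
  decide +kernel

theorem nrowF4_ok_3 : chkNT Cfsg.Lie.chevF4.rank Cfsg.Lie.chevF4.nroots nrowF4_3
    (opN1 Cfsg.Lie.chevF4.rank Cfsg.Lie.chevF4.nroots (fun r => treeF4.get r 32) 24) = true := by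
  decide +kernel

theorem nrowF4_w_0 : chkW Cfsg.Lie.chevF4 (fun r => treeF4.get r 32) nrowF4_0 0 = true := by
  decide +kernel

theorem nrowF4_w_1 : chkW Cfsg.Lie.chevF4 (fun r => treeF4.get r 32) nrowF4_1 1 = true := by
  decide +kernel

theorem nrowF4_w_2 : chkW Cfsg.Lie.chevF4 (fun r => treeF4.get r 32) nrowF4_2 2 = true := by
  decide +kernel

theorem nrowF4_w_3 : chkW Cfsg.Lie.chevF4 (fun r => treeF4.get r 32) nrowF4_3 3 = true := by
  decide +kernel

theorem cW_F4 : WOK Cfsg.Lie.chevF4 (fun r => treeF4.get r 32) nrowF4 := by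
  intro i hi
  by_cases h0 : i = 0
  · subst h0; exact nrowF4_w_0
  by_cases h1 : i = 1
  · subst h1; exact nrowF4_w_1
  by_cases h2 : i = 2
  · subst h2; exact nrowF4_w_2
  have h3 : i = 3 := by have : Cfsg.Lie.chevF4.rank = 4 := rfl; omega
  subst h3; exact nrowF4_w_3

end Cfsg.Agent.Lib.Helper8
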