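import Cfsg.Agent.Lib.Helper8.Fast
import Cfsg.Prelude.Def_ChevG2

set_option autoImplicit false

namespace Cfsg.Agent.Lib.Helper8

def recG2_0 : RootRec := ⟨0xc180000060800000503000000000000014080000000000000000000000000000000000000000000000000, 11, [(2, 2, -1), (0, 1, (-1)), (1, 1, (-2))], [0, 1]⟩
def recG2_1 : RootRec := ⟨0x1838000000000000060a000000000000028180000000000000a0200000000000000000000000000000000000000000, 10, [(3, 2, -1), (0, 1, (-1)), (1, 1, (-1))], [3, (-1)]⟩
def recG2_2 : RootRec := ⟨0x604c1584d01a08c200000000000381605000405020000000000000000000000702000003808000000000000000000000000, 9, [(4, 2, -1), (0, 1, (-2)), (1, 1, (-3))], [1, 0]⟩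
def recG2_3 : RootRec := ⟨0x60d4228500000000000106c1000000000000000835016074140000000000380a03000000000000004040000000000000000, 8, [(5, 2, -1), (0, 1, (-1)), (1, 1, (-3))], [(-1), 1]⟩
def recG2_4 : RootRec := ⟨0x50761342800707412000001070000000000000000181503a080000000000040b018000004080000000000000000, 7, [(6, 2, -1), (0, 1, (-1)), (1, 1, 0)], [2, (-1)]⟩
def recG2_5 : RootRec := ⟨0x2858000000000000000000000508000000000000000000000000000000304000000000000000000000060200000000, 6, [(7, 2, -1), (0, 1, 0), (1, 1, (-1))], [(-3), 2]⟩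
def recG2_6 : RootRec := ⟨0x14300000000000000000000002848000000000000000000000000000001828000000000000000000000302, 5, [(8, 2, -1), (0, 1, 0), (1, 1, 1)], [3, (-2)]⟩
def recG2_7 : RootRec := ⟨0xe1600085a0a0000000050ba14c24000000000000000000000383000e0d8118330460600000000, 4, [(9, 2, -1), (0, 1, 1), (1, 1, 0)], [(-2), 1]⟩
def recG2_8 : RootRec := ⟨0xe1800000000001c33050000000018630a610000007070000000000020e8140000000141e82b03, 3, [(10, 2, -1), (0, 1, 1), (1, 1, 3)], [1, (-1)]⟩
def recG2_9 : RootRec := ⟨0x10c000000858000000000000000000086609001c2d0400000000186509a0b42d84504, 2, [(11, 2, -1), (0, 1, 2), (1, 1, 3)], [(-1), 0]⟩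
def recG2_10 : RootRec := ⟨0xc30000000000000030a000000000000014200000000000000506, 1, [(12, 2, -1), (0, 1, 1), (1, 1, 1)], [(-3), 1]⟩
def recG2_11 : RootRec := ⟨0x616000000000000018500000142400000a0e00000000, 0, [(13, 2, -1), (0, 1, 1), (1, 1, 2)], [0, (-1)]⟩

def treeG2 : RTree := (.node (.node (.node (.node (.leaf recG2_0) (.leaf recG2_1)) (.node (.leaf recG2_2) (.leaf recG2_3))) (.node (.node (.leaf recG2_4) (.leaf recG2_5)) (.node (.leaf recG2_6) (.leaf recG2_7)))) (.node (.node (.node (.leaf recG2_8) (.leaf recG2_9)) (.node (.leaf recG2_10) (.leaf recG2_11))) (.leaf ⟨0, 0, [], []⟩)))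

theorem treeG2_ok : fastOK Cfsg.Lie.chevG2 treeG2 8 = true := by decide +kernel

end Cfsg.Agent.Lib.Helper8
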