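import Cfsg.Agent.Lib.Helper8.IdW
import Cfsg.Agent.Lib.Helper8.TabG2

set_option autoImplicit false

namespace Cfsg.Agent.Lib.Helper8

def nrowG2_0 : ℕ := 0x5c1a10098202803070140e0a00
def nrowG2_1 : ℕ := 0x8502c1307044160c03820080101

def nrowG2 (i : ℕ) : ℕ := [nrowG2_0, nrowG2_1].getD i 0

theorem nrowG2_ok_0 : chkNT Cfsg.Lie.chevG2.rank Cfsg.Lie.chevG2.nroots nrowG2_0
    (opN1 Cfsg.Lie.chevG2.rank Cfsg.Lie.chevG2.nroots (fun r => treeG2.get r 8) 7) = true := by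
  decide +kernel

theorem nrowG2_ok_1 : chkNT Cfsg.Lie.chevG2.rank Cfsg.Lie.chevG2.nroots nrowG2_1
    (opN1 Cfsg.Lie.chevG2.rank Cfsg.Lie.chevG2.nroots (fun r => treeG2.get r 8) 6) = true := by
  decide +kernel

theorem nrowG2_w_0 : chkW Cfsg.Lie.chevG2 (fun r => treeG2.get r 8) nrowG2_0 0 = true := by
  decide +kernel

theorem nrowG2_w_1 : chkW Cfsg.Lie.chevG2 (fun r => treeG2.get r 8) nrowG2_1 1 = true := by
  decide +kernel

theorem cW_G2 : WOK Cfsg.Lie.chevG2 (fun r => treeG2.get r 8) nrowG2 := by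
  intro i hi
  by_cases h0 : i = 0
  · subst h0; exact nrowG2_w_0
  have h1 : i = 1 := by have : Cfsg.Lie.chevG2.rank = 2 := rfl; omega
  subst h1; exact nrowG2_w_1

end Cfsg.Agent.Lib.Helper8
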