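import Cfsg.Agent.Lib.Helper8.Engine
import Cfsg.Prelude.Def_ChevStructure

set_option autoImplicit false
set_option linter.unusedSimpArgs false
set_option linter.unusedVariables false

namespace Cfsg.Agent.Lib.Helper8

open Cfsg Cfsg.Lie

/-- the part of the column `e_s` of `x_r(t)` read off the chain table: (row code, power, coefficient) -/
def chainSpec (D : ChevalleyDatum) (r s : ℕ) : List (ℕ × ℕ × ℤ) :=
  ((D.chain.getD r #[]).toList.filter (fun e => e.1 = s)).flatMap fun e =>
    e.2.toList.zipIdx.map fun q => (D.rank + q.1.1, q.2 + 1, q.1.2)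

/-- column `j` of `x_r(t)`: list of (row code, power of `t`, integer coefficient) -/
def colSpec (D : ChevalleyDatum) (r j : ℕ) : List (ℕ × ℕ × ℤ) :=
  if j < D.rank then [(j, 0, 1), (D.rank + r, 1, -((D.cartanSR.getD j #[]).getD r 0))]
  else if D.rank + D.nroots ≤ j then []
  else if j - D.rank = r then [(j, 0, 1)]
  else if j - D.rank = D.negIdx.getD r 0 then
    (j, 0, 1) :: (D.rank + r, 2, -1) ::
      (List.range D.rank).map fun i => (i, 1, (D.coroot.getD r #[]).getD i 0)
  else (j, 0, 1) :: chainSpec D r (j - D.rank)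

theorem sum_filter_map {α : Type*} {M : Type*} [AddMonoid M] (p : α → Bool) (f : α → M) (L : List α) :
    ((L.filter p).map f).sum = (L.map fun a => if p a = true then f a else 0).sum := by
  induction L with
  | nil => rfl
  | cons a L ih =>
    by_cases h : p a = true
    · simp [List.filter_cons, h, ih]
    · simp [List.filter_cons, h, ih]

theorem chainSpec_sum (D : ChevalleyDatum) {F : Type*} [Field F] (r s u : ℕ) (t : F) :
    ((chainSpec D r s).map fun e => if e.1 = D.rank + u then ((e.2.2 : ℤ) : F) * t ^ e.2.1 else 0).sum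
      = ((D.chainCoeff r s u).map fun km => ((km.2 : ℤ) : F) * t ^ km.1).sum := by
  unfold chainSpec ChevalleyDatum.chainCoeff
  generalize ((D.chain.getD r #[]).toList.filter (fun e => e.1 = s)) = L
  induction L with
  | nil => rfl
  | cons e L ih =>
    rw [List.flatMap_cons, List.flatMap_cons, List.map_append, List.map_append, List.sum_append,
      List.sum_append, ih]
    congr 1
    rw [List.map_map, List.map_map, sum_filter_map]
    congr 1
    apply List.map_congr_left
    intro q _
    simp only [Function.comp, decide_eq_true_eq, Nat.add_left_cancel_iff]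

theorem chainSpec_sum_inl (D : ChevalleyDatum) {F : Type*} [Field F] (r s i : ℕ) (hi : i < D.rank) (t : F) :
    ((chainSpec D r s).map fun e => if e.1 = i then ((e.2.2 : ℤ) : F) * t ^ e.2.1 else 0).sum = 0 := by
  apply List.sum_eq_zero
  intro v hv
  simp only [List.mem_map] at hv
  obtain ⟨e, he, rfl⟩ := hv
  rw [if_neg]
  simp only [chainSpec, List.mem_flatMap, List.mem_map] at he
  obtain ⟨e', -, q, -, rfl⟩ := he
  simp only
  omega

theorem range_sum_ite {M : Type*} [AddCommMonoid M] (l i : ℕ) (hi : i < l) (f : ℕ → M) :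
    ((List.range l).map fun k => if k = i then f k else 0).sum = f i := by
  induction l with
  | zero => omega
  | succ l ih =>
    rw [List.range_succ, List.map_append, List.sum_append]
    by_cases h : i < l
    · rw [ih h]
      have : l ≠ i := by omega
      simp [this]
    · have : i = l := by omega
      subst this
      have : ((List.range i).map fun k => if k = i then f k else 0).sum = 0 := by
        apply List.sum_eq_zero
        intro v hv
        simp only [List.mem_map, List.mem_range] at hv
        obtain ⟨k, hk, rfl⟩ := hv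
        rw [if_neg (by omega)]
      rw [this]
      simp

theorem range_sum_ite_ne {M : Type*} [AddCommMonoid M] (l i : ℕ) (hi : l ≤ i) (f : ℕ → M) :
    ((List.range l).map fun k => if k = i then f k else 0).sum = 0 := by
  apply List.sum_eq_zero
  intro v hv
  simp only [List.mem_map, List.mem_range] at hv
  obtain ⟨k, hk, rfl⟩ := hv
  rw [if_neg (by omega)]

/-- the entry in row `c` of a column given as a list -/
def colVal {F : Type*} [Field F] (t : F) (c : ℕ) (C : List (ℕ × ℕ × ℤ)) : F :=
  (C.map fun e => if e.1 = c then ((e.2.2 : ℤ) : F) * t ^ e.2.1 else 0).sum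

theorem colVal_nil {F : Type*} [Field F] (t : F) (c : ℕ) : colVal t c [] = 0 := rfl

theorem colVal_cons {F : Type*} [Field F] (t : F) (c a k : ℕ) (z : ℤ) (C : List (ℕ × ℕ × ℤ)) :
    colVal t c ((a, k, z) :: C) = (if a = c then ((z : ℤ) : F) * t ^ k else 0) + colVal t c C := by
  simp [colVal]

theorem colVal_cons_ne {F : Type*} [Field F] (t : F) {c a : ℕ} (k : ℕ) (z : ℤ) (C : List (ℕ × ℕ × ℤ))
    (h : a ≠ c) : colVal t c ((a, k, z) :: C) = colVal t c C := by
  rw [colVal_cons, if_neg h, zero_add]

theorem colVal_cons_eq {F : Type*} [Field F] (t : F) (c : ℕ) (k : ℕ) (z : ℤ) (C : List (ℕ × ℕ × ℤ)) :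
    colVal t c ((c, k, z) :: C) = ((z : ℤ) : F) * t ^ k + colVal t c C := by
  rw [colVal_cons, if_pos rfl]

/-- the entries of `x_r(t)` in terms of `colSpec` -/
theorem xMat_colSpec (D : ChevalleyDatum) {F : Type*} [Field F] (r : Fin D.nroots) (t : F) (i j : D.Idx) :
    D.xMat F r t i j = colVal t (code i) (colSpec D r.val (code j)) := by
  rcases j with i0 | s
  · have h0 : (i0 : ℕ) < D.rank := i0.2
    rw [code_inl, colSpec, if_pos h0]
    rcases i with i' | u
    · have h1 : (i' : ℕ) < D.rank := i'.2
      have h2 : D.rank + r.val ≠ i'.val := by omega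
      rw [code_inl]
      simp only [ChevalleyDatum.xMat, Matrix.of_apply]
      by_cases h : i' = i0
      · subst h
        rw [colVal_cons_eq, colVal_cons_ne _ _ _ _ h2, colVal_nil]; simp
      · have : (i0 : ℕ) ≠ i' := fun hh => h (Fin.ext hh.symm)
        rw [colVal_cons_ne _ _ _ _ this, colVal_cons_ne _ _ _ _ h2, colVal_nil, if_neg h]
    · have h2 : (i0 : ℕ) ≠ D.rank + u.val := by omega
      rw [code_inr, colVal_cons_ne _ _ _ _ h2]
      simp only [ChevalleyDatum.xMat, Matrix.of_apply]
      by_cases h : u = r
      · subst h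
        rw [colVal_cons_eq, colVal_nil, if_pos rfl]; simp
      · have : D.rank + r.val ≠ D.rank + u.val := fun hh => h (Fin.ext (by omega))
        rw [colVal_cons_ne _ _ _ _ this, colVal_nil, if_neg h]
  · have h0 : ¬ (D.rank + s.val < D.rank) := by omega
    have h1 : ¬ (D.rank + D.nroots ≤ D.rank + s.val) := by have := s.2; omega
    have h2 : D.rank + s.val - D.rank = s.val := by omega
    rw [code_inr, colSpec, if_neg h0, if_neg h1, h2]
    by_cases hsr : s = r
    · subst hsr
      rw [if_pos rfl]
      simp only [ChevalleyDatum.xMat, Matrix.of_apply, if_true]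
      rcases i with i' | u
      · have : D.rank + s.val ≠ i'.val := by have := i'.2; omega
        rw [code_inl, colVal_cons_ne _ _ _ _ this, colVal_nil]
      · rw [code_inr]
        by_cases h : u = s
        · subst h
          rw [colVal_cons_eq, colVal_nil]; simp
        · have : D.rank + s.val ≠ D.rank + u.val := fun hh => h (Fin.ext (by omega))
          rw [colVal_cons_ne _ _ _ _ this, colVal_nil]; simp [h]
    · have hsr' : s.val ≠ r.val := fun hh => hsr (Fin.ext hh)
      rw [if_neg hsr']
      by_cases hneg : s.val = D.negIdx.getD r.val 0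
      · rw [if_pos hneg]
        simp only [ChevalleyDatum.xMat, Matrix.of_apply, if_neg hsr, if_pos hneg]
        rcases i with i' | u
        · have h3 : D.rank + s.val ≠ i'.val := by have := i'.2; omega
          have h4 : D.rank + r.val ≠ i'.val := by have := i'.2; omega
          rw [code_inl, colVal_cons_ne _ _ _ _ h3, colVal_cons_ne _ _ _ _ h4, colVal, List.map_map]
          have := range_sum_ite D.rank i'.val i'.2
            (fun k => (((D.coroot.getD r.val #[]).getD k 0 : ℤ) : F) * t ^ 1)
          simp only [Function.comp_def]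
          rw [this, pow_one]
        · have h7 : colVal t (D.rank + u.val)
              ((List.range D.rank).map fun i => (i, 1, (D.coroot.getD r.val #[]).getD i 0)) = 0 := by
            rw [colVal, List.map_map]
            simp only [Function.comp_def]
            exact range_sum_ite_ne D.rank (D.rank + u.val) (by omega)
              (fun k => (((D.coroot.getD r.val #[]).getD k 0 : ℤ) : F) * t ^ 1)
          rw [code_inr]
          by_cases h : u = s
          · subst h
            have : D.rank + r.val ≠ D.rank + u.val := by omega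
            rw [colVal_cons_eq, colVal_cons_ne _ _ _ _ this, h7]; simp
          · have h5 : D.rank + s.val ≠ D.rank + u.val := fun hh => h (Fin.ext (by omega))
            rw [colVal_cons_ne _ _ _ _ h5]
            by_cases h' : u = r
            · subst h'
              rw [colVal_cons_eq, h7]; simp [h]
            · have h6 : D.rank + r.val ≠ D.rank + u.val := fun hh => h' (Fin.ext (by omega))
              rw [colVal_cons_ne _ _ _ _ h6, h7]; simp [h, h']
      · rw [if_neg hneg]
        simp only [ChevalleyDatum.xMat, Matrix.of_apply, if_neg hsr, if_neg hneg]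
        rcases i with i' | u
        · have h3 : D.rank + s.val ≠ i'.val := by have := i'.2; omega
          rw [code_inl, colVal_cons_ne _ _ _ _ h3, colVal, chainSpec_sum_inl D _ _ _ i'.2]
        · rw [code_inr, colVal_cons, colVal, chainSpec_sum]
          show (if u = s then (1 : F) else 0) + _ = _
          congr 1
          by_cases h : u = s
          · subst h; simp
          · have h5 : D.rank + s.val ≠ D.rank + u.val := fun hh => h (Fin.ext (by omega))
            rw [if_neg h, if_neg h5]

/-! ### the operator of `x_r(t)` -/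

def mkT (e : ℕ × ℕ × ℤ) (m : Term) : Term := ⟨e.1, m.a, m.b, e.2.2 * m.z⟩

noncomputable def opC (C : List (ℕ × ℕ × ℤ)) (pw : ℕ → List Term) : List Term :=
  List.rec [] (fun e _ ih => pushMap (mkT e) (pw e.2.1) ih) C

theorem opC_nil (pw : ℕ → List Term) : opC [] pw = [] := rfl
theorem opC_cons (e : ℕ × ℕ × ℤ) (C : List (ℕ × ℕ × ℤ)) (pw : ℕ → List Term) :
    opC (e :: C) pw = (pw e.2.1).map (mkT e) ++ opC C pw := by
  show pushMap (mkT e) (pw e.2.1) (opC C pw) = _
  rw [pushMap_eq]

section sem
variable {F : Type*} [Field F] (x y : F) {l n : ℕ}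

/-- value of a polynomial (a list of terms whose index is ignored) -/
def pval (p : List Term) : F := (p.map (Term.val x y)).sum

theorem ev_map_mkT (e : ℕ × ℕ × ℤ) (p : List Term) (i : Fin l ⊕ Fin n) :
    ev x y (p.map (mkT e)) i = if e.1 = code i then ((e.2.2 : ℤ) : F) * pval x y p else 0 := by
  induction p with
  | nil => simp [ev, pval]
  | cons m p ih =>
    have h1 : ev x y ((m :: p).map (mkT e)) i = ev x y [mkT e m] i + ev x y (p.map (mkT e)) i := by
      rw [List.map_cons, ev_cons]; rfl
    rw [h1, ih]
    simp only [ev, List.map_cons, List.map_nil, List.sum_cons, List.sum_nil, add_zero, pval, mkT, Term.val]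
    split_ifs
    · push_cast; ring
    · simp

theorem ev_opC (C : List (ℕ × ℕ × ℤ)) (pw : ℕ → List Term) (t : F) (hpw : ∀ k, pval x y (pw k) = t ^ k)
    (i : Fin l ⊕ Fin n) :
    ev x y (opC C pw) i = colVal t (code i) C := by
  induction C with
  | nil => simp [opC_nil, ev, colVal]
  | cons e C ih =>
    rw [opC_cons, ev_append, Pi.add_apply, ih, ev_map_mkT, hpw]
    simp [colVal]

end sem

/-- a column function agreeing with the specification -/
def ColOK (D : ChevalleyDatum) (col : ℕ → ℕ → List (ℕ × ℕ × ℤ)) : Prop :=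
  ∀ r < D.nroots, ∀ j, col r j = colSpec D r j

noncomputable def xOp (col : ℕ → ℕ → List (ℕ × ℕ × ℤ)) (r : ℕ) (pw : ℕ → List Term) (j : ℕ) : List Term :=
  opC (col r j) pw

theorem xOp_rep {D : ChevalleyDatum} {col : ℕ → ℕ → List (ℕ × ℕ × ℤ)} (hcol : ColOK D col)
    {F : Type*} [Field F] (x y : F) {r : ℕ} (hr : r < D.nroots) {pw : ℕ → List Term} {t : F}
    (hpw : ∀ k, pval x y (pw k) = t ^ k) :
    RepOp (l := D.rank) (n := D.nroots) x y (xOp col r pw) (D.x F r t) := by
  constructor
  · intro j i
    rw [xOp, hcol r hr, ev_opC x y _ pw t hpw, ChevalleyDatum.x, dif_pos hr]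
    exact (xMat_colSpec D ⟨r, hr⟩ t i j).symm
  · intro j hj
    have : colSpec D r j = [] := by
      rw [colSpec, if_neg (by omega), if_pos hj]
    rw [xOp, hcol r hr, this, opC_nil, ev_nil]

/-! ### powers of the parameter -/

def pwMono (P : Term) (k : ℕ) : List Term := [⟨0, k * P.a, k * P.b, P.z ^ k⟩]

theorem pval_pwMono {F : Type*} [Field F] (x y : F) (P : Term) (k : ℕ) :
    pval x y (pwMono P k) = (P.val x y) ^ k := by
  simp only [pval, pwMono, List.map_cons, List.map_nil, List.sum_cons, List.sum_nil, add_zero, Term.val,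
    Int.cast_pow, mul_pow, ← pow_mul]
  rw [mul_comm k P.a, mul_comm k P.b]

def pwSumGen (k : ℕ) : List Term := (List.range (k + 1)).map fun i => ⟨0, i, k - i, (Nat.choose k i : ℤ)⟩

def pwSum (k : ℕ) : List Term :=
  bif Nat.beq k 0 then [⟨0, 0, 0, 1⟩]
  else bif Nat.beq k 1 then [⟨0, 1, 0, 1⟩, ⟨0, 0, 1, 1⟩]
  else bif Nat.beq k 2 then [⟨0, 2, 0, 1⟩, ⟨0, 1, 1, 2⟩, ⟨0, 0, 2, 1⟩]
  else bif Nat.beq k 3 then [⟨0, 3, 0, 1⟩, ⟨0, 2, 1, 3⟩, ⟨0, 1, 2, 3⟩, ⟨0, 0, 3, 1⟩]
  else pwSumGen k

theorem pval_pwSumGen {F : Type*} [Field F] (x y : F) (k : ℕ) :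
    pval x y (pwSumGen k) = (x + y) ^ k := by
  rw [add_pow, pval, pwSumGen, List.map_map, ← List.sum_toFinset _ (List.nodup_range), List.toFinset_range]
  apply Finset.sum_congr rfl
  intro i _
  simp only [Function.comp, Term.val, Int.cast_natCast]
  ring

theorem pval_pwSum {F : Type*} [Field F] (x y : F) (k : ℕ) :
    pval x y (pwSum k) = (x + y) ^ k := by
  unfold pwSum
  rcases k with _ | _ | _ | _ | k
  · simp [pval, Term.val, Nat.beq]
  · simp [pval, Term.val, Nat.beq]
  · simp [pval, Term.val, Nat.beq]; ring
  · simp [pval, Term.val, Nat.beq]; ring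
  · have h0 : Nat.beq (k + 4) 0 = false := rfl
    have h1 : Nat.beq (k + 4) 1 = false := rfl
    have h2 : Nat.beq (k + 4) 2 = false := rfl
    have h3 : Nat.beq (k + 4) 3 = false := rfl
    simp only [h0, h1, h2, h3, cond_false]
    exact pval_pwSumGen x y _

end Cfsg.Agent.Lib.Helper8
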