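import Mathlib

set_option autoImplicit false

/-! Monomial endomorphisms of a power of a commutative group, and the size of their kernels. -/

namespace Cfsg.Agent.Lib.Helper8

section
variable {G : Type*} [CommGroup G] {l : ℕ}

/-- `c ↦ (∏_i c_i ^ M i j)_j` -/
def powM (M : Matrix (Fin l) (Fin l) ℤ) : (Fin l → G) →* (Fin l → G) where
  toFun c j := ∏ i, c i ^ M i j
  map_one' := by ext j; simp
  map_mul' c c' := by ext j; simp [mul_zpow, Finset.prod_mul_distrib]

theorem powM_apply (M : Matrix (Fin l) (Fin l) ℤ) (c : Fin l → G) (j : Fin l) :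
    powM M c j = ∏ i, c i ^ M i j := rfl

theorem prod_zpow_sum {ι : Type*} (s : Finset ι) (a : G) (f : ι → ℤ) : ∏ k ∈ s, a ^ f k = a ^ ∑ k ∈ s, f k := by
  classical
  induction s using Finset.induction_on with
  | empty => simp
  | insert a' s h ih => rw [Finset.prod_insert h, Finset.sum_insert h, ih, zpow_add]

theorem powM_mul (M N : Matrix (Fin l) (Fin l) ℤ) (c : Fin l → G) : powM N (powM M c) = powM (M * N) c := by
  ext j
  simp only [powM_apply, Matrix.mul_apply]
  have : ∀ k : Fin l, (∏ i, c i ^ M i k) ^ N k j = ∏ i, c i ^ (M i k * N k j) := by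
    intro k
    rw [← Finset.prod_zpow]
    apply Finset.prod_congr rfl
    intro i _
    rw [zpow_mul]
  rw [Finset.prod_congr rfl (fun k _ => this k), Finset.prod_comm]
  apply Finset.prod_congr rfl
  intro i _
  rw [prod_zpow_sum]

theorem powM_one (c : Fin l → G) : powM (1 : Matrix (Fin l) (Fin l) ℤ) c = c := by
  ext j
  rw [powM_apply, Finset.prod_eq_single j]
  · simp
  · intro b _ hb
    rw [Matrix.one_apply_ne hb, zpow_zero]
  · intro h; exact absurd (Finset.mem_univ j) h

theorem powM_diagonal (e : Fin l → ℕ) (c : Fin l → G) (j : Fin l) :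
    powM (Matrix.diagonal (fun i => (e i : ℤ))) c j = c j ^ e j := by
  rw [powM_apply, Finset.prod_eq_single j]
  · simp
  · intro b _ hb
    rw [Matrix.diagonal_apply_ne _ hb, zpow_zero]
  · intro h; exact absurd (Finset.mem_univ j) h

theorem card_ker_powM_diagonal [Finite G] [IsCyclic G] (e : Fin l → ℕ) :
    Nat.card (powM (G := G) (Matrix.diagonal (fun i => (e i : ℤ)))).ker = ∏ i, (Nat.card G).gcd (e i) := by
  have e1 : ↥(powM (G := G) (Matrix.diagonal (fun i => (e i : ℤ)))).ker ≃
      ((i : Fin l) → ↥(powMonoidHom (e i) : G →* G).ker) :=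
    { toFun := fun c i => ⟨c.1 i, by
        have := congrFun (MonoidHom.mem_ker.mp c.2) i
        rw [powM_diagonal] at this
        exact this⟩
      invFun := fun c => ⟨fun i => (c i).1, by
        rw [MonoidHom.mem_ker]
        ext i
        rw [powM_diagonal]
        exact (c i).2⟩
      left_inv := fun c => rfl
      right_inv := fun c => rfl }
  rw [Nat.card_congr e1, Nat.card_pi]
  apply Finset.prod_congr rfl
  intro i _
  exact IsCyclic.card_powMonoidHom_ker G (e i)

theorem card_ker_powM [Finite G] [IsCyclic G] (A P P' Q Q' : Matrix (Fin l) (Fin l) ℤ) (e : Fin l → ℕ)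
    (h1 : P * A * Q = Matrix.diagonal (fun i => (e i : ℤ))) (h2 : P * P' = 1) (h3 : P' * P = 1)
    (h4 : Q * Q' = 1) :
    Nat.card (powM (G := G) A).ker = ∏ i, (Nat.card G).gcd (e i) := by
  rw [← card_ker_powM_diagonal e]
  symm
  refine Nat.card_congr
    { toFun := fun c => ⟨powM P c.1, ?_⟩
      invFun := fun d => ⟨powM P' d.1, ?_⟩
      left_inv := fun c => ?_
      right_inv := fun d => ?_ }
  · rw [MonoidHom.mem_ker]
    obtain ⟨c, hc⟩ := c
    have := MonoidHom.mem_ker.mp hc
    rw [← h1, ← powM_mul, ← powM_mul] at this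
    have h5 := congrArg (powM Q') this
    rwa [powM_mul, h4, powM_one, map_one] at h5
  · rw [MonoidHom.mem_ker, ← h1, ← powM_mul, ← powM_mul, powM_mul P' P, h3, powM_one,
      MonoidHom.mem_ker.mp d.2, map_one]
  · apply Subtype.ext
    show powM P' (powM P c.1) = c.1
    rw [powM_mul, h2, powM_one]
  · apply Subtype.ext
    show powM P (powM P' d.1) = d.1
    rw [powM_mul, h3, powM_one]

end

end Cfsg.Agent.Lib.Helper8
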