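import Cfsg.Agent.Lib.Helper8.Longest
import Cfsg.Agent.Lib.Helper8.SmithPow

set_option autoImplicit false
set_option linter.unusedSectionVars false

namespace Cfsg.Agent.Lib.Helper8

open Cfsg Cfsg.Lie

/-- extension of a finite family by `1` -/
def extC {l : ℕ} {G : Type*} [One G] (c : Fin l → G) (i : ℕ) : G := if h : i < l then c ⟨i, h⟩ else 1

theorem extC_coe {l : ℕ} {G : Type*} [One G] (c : Fin l → G) (i : Fin l) : extC c (i : ℕ) = c i := by
  unfold extC
  rw [dif_pos i.2]

/-- the Cartan matrix -/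
def cartanMat (D : ChevalleyDatum) : Matrix (Fin D.rank) (Fin D.rank) ℤ :=
  Matrix.of fun i j => D.cartan i (D.simple j)

section
variable (D : ChevalleyDatum) (F : Type*) [Field F]

noncomputable def tauHom : (Fin D.rank → Fˣ) →* GL D.Idx F where
  toFun c := tG D (extC c)
  map_one' := by
    rw [← tG_one D]
    congr 1
    funext i
    unfold extC
    split_ifs <;> rfl
  map_mul' c c' := by
    rw [tG_mul]
    congr 1
    funext i
    unfold extC
    rw [Pi.mul_apply]
    split_ifs
    · rfl
    · simp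

variable {D F}

theorem chi_extC (c : Fin D.rank → Fˣ) (s : ℕ) : chi D (extC c) s = ∏ i : Fin D.rank, c i ^ D.cartan i s := by
  unfold chi
  rw [Finset.prod_range]
  apply Finset.prod_congr rfl
  intro i _
  rw [extC_coe]

end

section
variable {D : ChevalleyDatum} (hD : D ∈ allData) {F : Type*} [Field F]
include hD

theorem tauHom_range : (tauHom D F).range = D.diagonalSubgroup F := by
  rw [diag_eq_torus hD]
  ext g
  constructor
  · rintro ⟨c, rfl⟩
    exact ⟨extC c, rfl⟩
  · rintro ⟨c, rfl⟩
    refine ⟨fun i => c i, ?_⟩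
    apply Units.ext
    show tMat D (extC fun i : Fin D.rank => c i) = tMat D c
    apply tMat_congr
    intro i hi
    unfold extC
    rw [dif_pos hi]

theorem chi_eq_one_of_tG {c : ℕ → Fˣ} (h : tG D c = 1) {s : ℕ} (hs : s < D.nroots) : chi D c s = 1 := by
  have h1 : tMat D c = 1 := congrArg Units.val h
  have h2 := congrFun (congrFun h1 (Sum.inr ⟨s, hs⟩)) (Sum.inr ⟨s, hs⟩)
  rw [tMat, Matrix.diagonal_apply_eq, Matrix.one_apply_eq, code_inr, chiC_inr] at h2
  exact Units.ext h2

theorem chi_eq_one_of_simple {c : ℕ → Fˣ} (h : ∀ i < D.rank, chi D c (D.simple i) = 1) :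
    ∀ s < D.nroots, chi D c s = 1 := by
  refine root_induction hD (P := fun s => chi D c s = 1) h ?_
  intro i hi r hr h1
  rw [chi_reflect hD c hi hr, h i hi, one_zpow, mul_one] at h1
  exact h1

theorem tauHom_ker : (tauHom D F).ker = (powM (G := Fˣ) (cartanMat D)).ker := by
  ext c
  rw [MonoidHom.mem_ker, MonoidHom.mem_ker]
  constructor
  · intro h
    ext1 j
    rw [powM_apply]
    have := chi_eq_one_of_tG hD h (simple_lt hD j.2)
    rw [chi_extC] at this
    exact this
  · intro h
    apply tG_eq_one_of_chi hD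
    apply chi_eq_one_of_simple hD
    intro j hj
    rw [chi_extC]
    exact congrFun h ⟨j, hj⟩

theorem card_diag_of_smith [Fintype F] (P P' Q Q' : Matrix (Fin D.rank) (Fin D.rank) ℤ) (e : Fin D.rank → ℕ)
    (h1 : P * cartanMat D * Q = Matrix.diagonal (fun i => (e i : ℤ))) (h2 : P * P' = 1) (h3 : P' * P = 1)
    (h4 : Q * Q' = 1) :
    (∏ i, (Fintype.card F - 1).gcd (e i)) * Nat.card ↥(D.diagonalSubgroup F) =
      (Fintype.card F - 1) ^ D.rank := by
  classical
  have hc : Nat.card Fˣ = Fintype.card F - 1 := by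
    rw [Nat.card_eq_fintype_card, Fintype.card_units]
  have h5 := card_ker_powM (G := Fˣ) (cartanMat D) P P' Q Q' e h1 h2 h3 h4
  rw [← tauHom_ker hD, hc] at h5
  rw [← h5, ← tauHom_range hD, ← Subgroup.index_ker, Subgroup.card_mul_index, Nat.card_fun, hc]
  simp

end

end Cfsg.Agent.Lib.Helper8
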