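import Cfsg.Agent.Lib.Helper8.DiagCard

set_option autoImplicit false

namespace Cfsg.Agent.Lib.Helper8

open Cfsg Cfsg.Lie

/-- a square integer matrix from a list of rows -/
def matL (l : ℕ) (M : List (List ℤ)) : Matrix (Fin l) (Fin l) ℤ := Matrix.of fun i j => (M.getD i []).getD j 0

theorem card_diag_of_smith' {D : ChevalleyDatum} (hD : D ∈ allData) {F : Type*} [Field F] [Fintype F]
    (P P' Q Q' : List (List ℤ)) (E : List ℕ)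
    (h : matL D.rank P * cartanMat D * matL D.rank Q = Matrix.diagonal (fun i : Fin D.rank => ((E.getD i 1 : ℕ) : ℤ)) ∧
      matL D.rank P * matL D.rank P' = 1 ∧ matL D.rank P' * matL D.rank P = 1 ∧ matL D.rank Q * matL D.rank Q' = 1) :
    (∏ i ∈ Finset.range D.rank, (Fintype.card F - 1).gcd (E.getD i 1)) * Nat.card ↥(D.diagonalSubgroup F) =
      (Fintype.card F - 1) ^ D.rank := by
  rw [← card_diag_of_smith hD _ _ _ _ (fun i : Fin D.rank => E.getD i 1) h.1 h.2.1 h.2.2.1 h.2.2.2,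
    Finset.prod_range]

theorem smith_G2 : matL chevG2.rank [[0, -1], [1, 2]] * cartanMat chevG2 * matL chevG2.rank [[1, 2], [0, 1]] =
      Matrix.diagonal (fun i : Fin chevG2.rank => ((([1, 1] : List ℕ).getD i 1 : ℕ) : ℤ)) ∧
    matL chevG2.rank [[0, -1], [1, 2]] * matL chevG2.rank [[2, 1], [-1, 0]] = 1 ∧
    matL chevG2.rank [[2, 1], [-1, 0]] * matL chevG2.rank [[0, -1], [1, 2]] = 1 ∧
    matL chevG2.rank [[1, 2], [0, 1]] * matL chevG2.rank [[1, -2], [0, 1]] = 1 := by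
  decide +kernel

theorem card_diag_G2 {F : Type*} [Field F] [Fintype F] :
    1 * Nat.card ↥(chevG2.diagonalSubgroup F) = (Fintype.card F - 1) ^ chevG2.rank := by
  rw [← card_diag_of_smith' (D := chevG2) (by simp [allData]) _ _ _ _ _ smith_G2]
  congr 1
  have : chevG2.rank = 2 := rfl
  rw [this]
  simp [Finset.prod_range_succ, Nat.gcd_comm, pow_two]

theorem smith_B2 : matL chevB2.rank [[0, -1], [1, 2]] * cartanMat chevB2 * matL chevB2.rank [[1, 2], [0, 1]] =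
      Matrix.diagonal (fun i : Fin chevB2.rank => ((([1, 2] : List ℕ).getD i 1 : ℕ) : ℤ)) ∧
    matL chevB2.rank [[0, -1], [1, 2]] * matL chevB2.rank [[2, 1], [-1, 0]] = 1 ∧
    matL chevB2.rank [[2, 1], [-1, 0]] * matL chevB2.rank [[0, -1], [1, 2]] = 1 ∧
    matL chevB2.rank [[1, 2], [0, 1]] * matL chevB2.rank [[1, -2], [0, 1]] = 1 := by
  decide +kernel

theorem card_diag_B2 {F : Type*} [Field F] [Fintype F] :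
    Nat.gcd 2 (Fintype.card F - 1) * Nat.card ↥(chevB2.diagonalSubgroup F) = (Fintype.card F - 1) ^ chevB2.rank := by
  rw [← card_diag_of_smith' (D := chevB2) (by simp [allData]) _ _ _ _ _ smith_B2]
  congr 1
  have : chevB2.rank = 2 := rfl
  rw [this]
  simp [Finset.prod_range_succ, Nat.gcd_comm, pow_two]

theorem smith_D4 : matL chevD4.rank [[-1, 0, 0, 0], [-2, -1, 0, 0], [-3, -2, -1, 0], [2, 2, 1, 1]] * cartanMat chevD4 * matL chevD4.rank [[0, 0, 0, 1], [1, 0, 0, 2], [0, 1, -1, 1], [0, 0, 1, 2]] =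
      Matrix.diagonal (fun i : Fin chevD4.rank => ((([1, 1, 2, 2] : List ℕ).getD i 1 : ℕ) : ℤ)) ∧
    matL chevD4.rank [[-1, 0, 0, 0], [-2, -1, 0, 0], [-3, -2, -1, 0], [2, 2, 1, 1]] * matL chevD4.rank [[-1, 0, 0, 0], [2, -1, 0, 0], [-1, 2, -1, 0], [-1, 0, 1, 1]] = 1 ∧
    matL chevD4.rank [[-1, 0, 0, 0], [2, -1, 0, 0], [-1, 2, -1, 0], [-1, 0, 1, 1]] * matL chevD4.rank [[-1, 0, 0, 0], [-2, -1, 0, 0], [-3, -2, -1, 0], [2, 2, 1, 1]] = 1 ∧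
    matL chevD4.rank [[0, 0, 0, 1], [1, 0, 0, 2], [0, 1, -1, 1], [0, 0, 1, 2]] * matL chevD4.rank [[-2, 1, 0, 0], [-3, 0, 1, 1], [-2, 0, 0, 1], [1, 0, 0, 0]] = 1 := by
  decide +kernel

theorem card_diag_D4 {F : Type*} [Field F] [Fintype F] :
    Nat.gcd 2 (Fintype.card F - 1) ^ 2 * Nat.card ↥(chevD4.diagonalSubgroup F) = (Fintype.card F - 1) ^ chevD4.rank := by
  rw [← card_diag_of_smith' (D := chevD4) (by simp [allData]) _ _ _ _ _ smith_D4]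
  congr 1
  have : chevD4.rank = 4 := rfl
  rw [this]
  simp [Finset.prod_range_succ, Nat.gcd_comm, pow_two]

theorem smith_F4 : matL chevF4.rank [[-1, 0, 0, 0], [1, 0, -1, 0], [-2, -1, 0, 0], [-2, -2, -2, -1]] * cartanMat chevF4 * matL chevF4.rank [[0, 0, 1, -2], [1, 0, 2, -4], [0, 0, 2, -3], [0, 1, 2, -2]] =
      Matrix.diagonal (fun i : Fin chevF4.rank => ((([1, 1, 1, 1] : List ℕ).getD i 1 : ℕ) : ℤ)) ∧
    matL chevF4.rank [[-1, 0, 0, 0], [1, 0, -1, 0], [-2, -1, 0, 0], [-2, -2, -2, -1]] * matL chevF4.rank [[-1, 0, 0, 0], [2, 0, -1, 0], [-1, -1, 0, 0], [0, 2, 2, -1]] = 1 ∧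
    matL chevF4.rank [[-1, 0, 0, 0], [2, 0, -1, 0], [-1, -1, 0, 0], [0, 2, 2, -1]] * matL chevF4.rank [[-1, 0, 0, 0], [1, 0, -1, 0], [-2, -1, 0, 0], [-2, -2, -2, -1]] = 1 ∧
    matL chevF4.rank [[0, 0, 1, -2], [1, 0, 2, -4], [0, 0, 2, -3], [0, 1, 2, -2]] * matL chevF4.rank [[-2, 1, 0, 0], [2, 0, -2, 1], [-3, 0, 2, 0], [-2, 0, 1, 0]] = 1 := by
  decide +kernel

theorem card_diag_F4 {F : Type*} [Field F] [Fintype F] :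
    1 * Nat.card ↥(chevF4.diagonalSubgroup F) = (Fintype.card F - 1) ^ chevF4.rank := by
  rw [← card_diag_of_smith' (D := chevF4) (by simp [allData]) _ _ _ _ _ smith_F4]
  congr 1
  have : chevF4.rank = 4 := rfl
  rw [this]
  simp [Finset.prod_range_succ, Nat.gcd_comm, pow_two]

theorem smith_E6 : matL chevE6.rank [[-1, 0, 0, 0, 0, 0], [0, -1, 0, 0, 0, 0], [1, -2, 0, -1, 0, 0], [2, -3, 0, -2, -1, 0], [-2, 1, -1, 0, 0, 0], [-5, 0, -4, -3, -2, -1]] * cartanMat chevE6 * matL chevE6.rank [[0, 0, 0, 0, 1, -2], [0, 0, 0, 0, 2, -3], [1, 0, 0, 0, 2, -4], [0, 1, 0, 0, 4, -6], [0, 0, 1, 0, 4, -5], [0, 0, 0, 1, 4, -4]] =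
      Matrix.diagonal (fun i : Fin chevE6.rank => ((([1, 1, 1, 1, 1, 3] : List ℕ).getD i 1 : ℕ) : ℤ)) ∧
    matL chevE6.rank [[-1, 0, 0, 0, 0, 0], [0, -1, 0, 0, 0, 0], [1, -2, 0, -1, 0, 0], [2, -3, 0, -2, -1, 0], [-2, 1, -1, 0, 0, 0], [-5, 0, -4, -3, -2, -1]] * matL chevE6.rank [[-1, 0, 0, 0, 0, 0], [0, -1, 0, 0, 0, 0], [2, -1, 0, 0, -1, 0], [-1, 2, -1, 0, 0, 0], [0, -1, 2, -1, 0, 0], [0, 0, -1, 2, 4, -1]] = 1 ∧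
    matL chevE6.rank [[-1, 0, 0, 0, 0, 0], [0, -1, 0, 0, 0, 0], [2, -1, 0, 0, -1, 0], [-1, 2, -1, 0, 0, 0], [0, -1, 2, -1, 0, 0], [0, 0, -1, 2, 4, -1]] * matL chevE6.rank [[-1, 0, 0, 0, 0, 0], [0, -1, 0, 0, 0, 0], [1, -2, 0, -1, 0, 0], [2, -3, 0, -2, -1, 0], [-2, 1, -1, 0, 0, 0], [-5, 0, -4, -3, -2, -1]] = 1 ∧
    matL chevE6.rank [[0, 0, 0, 0, 1, -2], [0, 0, 0, 0, 2, -3], [1, 0, 0, 0, 2, -4], [0, 1, 0, 0, 4, -6], [0, 0, 1, 0, 4, -5], [0, 0, 0, 1, 4, -4]] * matL chevE6.rank [[-2, 0, 1, 0, 0, 0], [0, -2, 0, 1, 0, 0], [2, -3, 0, 0, 1, 0], [4, -4, 0, 0, 0, 1], [-3, 2, 0, 0, 0, 0], [-2, 1, 0, 0, 0, 0]] = 1 := by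
  decide +kernel

theorem card_diag_E6 {F : Type*} [Field F] [Fintype F] :
    Nat.gcd 3 (Fintype.card F - 1) * Nat.card ↥(chevE6.diagonalSubgroup F) = (Fintype.card F - 1) ^ chevE6.rank := by
  rw [← card_diag_of_smith' (D := chevE6) (by simp [allData]) _ _ _ _ _ smith_E6]
  congr 1
  have : chevE6.rank = 6 := rfl
  rw [this]
  simp [Finset.prod_range_succ, Nat.gcd_comm, pow_two]

theorem smith_E7 : matL chevE7.rank [[-1, 0, 0, 0, 0, 0, 0], [0, -1, 0, 0, 0, 0, 0], [1, -2, 0, -1, 0, 0, 0], [2, -3, 0, -2, -1, 0, 0], [3, -4, 0, -3, -2, -1, 0], [-2, 1, -1, 0, 0, 0, 0], [-4, -1, -4, -4, -3, -2, -1]] * cartanMat chevE7 * matL chevE7.rank [[0, 0, 0, 0, 0, 1, -2], [0, 0, 0, 0, 0, 2, -3], [1, 0, 0, 0, 0, 2, -4], [0, 1, 0, 0, 0, 4, -6], [0, 0, 1, 0, 0, 4, -5], [0, 0, 0, 1, 0, 4, -4], [0, 0, 0, 0, 1, 4, -3]] =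
      Matrix.diagonal (fun i : Fin chevE7.rank => ((([1, 1, 1, 1, 1, 1, 2] : List ℕ).getD i 1 : ℕ) : ℤ)) ∧
    matL chevE7.rank [[-1, 0, 0, 0, 0, 0, 0], [0, -1, 0, 0, 0, 0, 0], [1, -2, 0, -1, 0, 0, 0], [2, -3, 0, -2, -1, 0, 0], [3, -4, 0, -3, -2, -1, 0], [-2, 1, -1, 0, 0, 0, 0], [-4, -1, -4, -4, -3, -2, -1]] * matL chevE7.rank [[-1, 0, 0, 0, 0, 0, 0], [0, -1, 0, 0, 0, 0, 0], [2, -1, 0, 0, 0, -1, 0], [-1, 2, -1, 0, 0, 0, 0], [0, -1, 2, -1, 0, 0, 0], [0, 0, -1, 2, -1, 0, 0], [0, 0, 0, -1, 2, 4, -1]] = 1 ∧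
    matL chevE7.rank [[-1, 0, 0, 0, 0, 0, 0], [0, -1, 0, 0, 0, 0, 0], [2, -1, 0, 0, 0, -1, 0], [-1, 2, -1, 0, 0, 0, 0], [0, -1, 2, -1, 0, 0, 0], [0, 0, -1, 2, -1, 0, 0], [0, 0, 0, -1, 2, 4, -1]] * matL chevE7.rank [[-1, 0, 0, 0, 0, 0, 0], [0, -1, 0, 0, 0, 0, 0], [1, -2, 0, -1, 0, 0, 0], [2, -3, 0, -2, -1, 0, 0], [3, -4, 0, -3, -2, -1, 0], [-2, 1, -1, 0, 0, 0, 0], [-4, -1, -4, -4, -3, -2, -1]] = 1 ∧
    matL chevE7.rank [[0, 0, 0, 0, 0, 1, -2], [0, 0, 0, 0, 0, 2, -3], [1, 0, 0, 0, 0, 2, -4], [0, 1, 0, 0, 0, 4, -6], [0, 0, 1, 0, 0, 4, -5], [0, 0, 0, 1, 0, 4, -4], [0, 0, 0, 0, 1, 4, -3]] * matL chevE7.rank [[-2, 0, 1, 0, 0, 0, 0], [0, -2, 0, 1, 0, 0, 0], [2, -3, 0, 0, 1, 0, 0], [4, -4, 0, 0, 0, 1, 0], [6, -5, 0, 0, 0, 0, 1], [-3, 2, 0, 0, 0, 0, 0], [-2, 1, 0, 0, 0, 0, 0]] = 1 := by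
  decide +kernel

theorem card_diag_E7 {F : Type*} [Field F] [Fintype F] :
    Nat.gcd 2 (Fintype.card F - 1) * Nat.card ↥(chevE7.diagonalSubgroup F) = (Fintype.card F - 1) ^ chevE7.rank := by
  rw [← card_diag_of_smith' (D := chevE7) (by simp [allData]) _ _ _ _ _ smith_E7]
  congr 1
  have : chevE7.rank = 7 := rfl
  rw [this]
  simp [Finset.prod_range_succ, Nat.gcd_comm, pow_two]

theorem smith_E8 : matL chevE8.rank [[-1, 0, 0, 0, 0, 0, 0, 0], [0, -1, 0, 0, 0, 0, 0, 0], [1, -2, 0, -1, 0, 0, 0, 0], [2, -3, 0, -2, -1, 0, 0, 0], [3, -4, 0, -3, -2, -1, 0, 0], [4, -5, 0, -4, -3, -2, -1, 0], [-2, 1, -1, 0, 0, 0, 0, 0], [-3, -2, -4, -5, -4, -3, -2, -1]] * cartanMat chevE8 * matL chevE8.rank [[0, 0, 0, 0, 0, 0, 1, -2], [0, 0, 0, 0, 0, 0, 2, -3], [1, 0, 0, 0, 0, 0, 2, -4], [0, 1, 0, 0, 0, 0, 4, -6], [0, 0, 1, 0, 0, 0, 4,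 -5], [0, 0, 0, 1, 0, 0, 4, -4], [0, 0, 0, 0, 1, 0, 4, -3], [0, 0, 0, 0, 0, 1, 4, -2]] =
      Matrix.diagonal (fun i : Fin chevE8.rank => ((([1, 1, 1, 1, 1, 1, 1, 1] : List ℕ).getD i 1 : ℕ) : ℤ)) ∧
    matL chevE8.rank [[-1, 0, 0, 0, 0, 0, 0, 0], [0, -1, 0, 0, 0, 0, 0, 0], [1, -2, 0, -1, 0, 0, 0, 0], [2, -3, 0, -2, -1, 0, 0, 0], [3, -4, 0, -3, -2, -1, 0, 0], [4, -5, 0, -4, -3, -2, -1, 0], [-2, 1, -1, 0, 0, 0, 0, 0], [-3, -2, -4, -5, -4, -3, -2, -1]] * matL chevE8.rank [[-1, 0, 0, 0, 0, 0, 0, 0], [0, -1, 0, 0, 0, 0, 0, 0], [2, -1, 0, 0, 0, 0, -1, 0], [-1, 2, -1, 0, 0, 0, 0, 0], [0, -1, 2, -1, 0, 0, 0, 0], [0, 0, -1, 2, -1, 0, 0, 0], [0, 0, 0, -1, 2, -1, 0, 0], [0, 0, 0, 0, -1, 2, 4, -1]] = 1 ∧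
    matL chevE8.rank [[-1, 0, 0, 0, 0, 0, 0, 0], [0, -1, 0, 0, 0, 0, 0, 0], [2, -1, 0, 0, 0, 0, -1, 0], [-1, 2, -1, 0, 0, 0, 0, 0], [0, -1, 2, -1, 0, 0, 0, 0], [0, 0, -1, 2, -1, 0, 0, 0], [0, 0, 0, -1, 2, -1, 0, 0], [0, 0, 0, 0, -1, 2, 4, -1]] * matL chevE8.rank [[-1, 0, 0, 0, 0, 0, 0, 0], [0, -1, 0, 0, 0, 0, 0, 0], [1, -2, 0, -1, 0, 0, 0, 0], [2, -3, 0, -2, -1, 0, 0, 0], [3, -4, 0, -3, -2, -1, 0, 0], [4, -5, 0, -4, -3, -2, -1, 0], [-2, 1, -1, 0, 0, 0, 0, 0], [-3, -2, -4, -5, -4, -3, -2, -1]] = 1 ∧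
    matL chevE8.rank [[0, 0, 0, 0, 0, 0, 1, -2], [0, 0, 0, 0, 0, 0, 2, -3], [1, 0, 0, 0, 0, 0, 2, -4], [0, 1, 0, 0, 0, 0, 4, -6], [0, 0, 1, 0, 0, 0, 4, -5], [0, 0, 0, 1, 0, 0, 4, -4], [0, 0, 0, 0, 1, 0, 4, -3], [0, 0, 0, 0, 0, 1, 4, -2]] * matL chevE8.rank [[-2, 0, 1, 0, 0, 0, 0, 0], [0, -2, 0, 1, 0, 0, 0, 0], [2, -3, 0, 0, 1, 0, 0, 0], [4, -4, 0, 0, 0, 1, 0, 0], [6, -5, 0, 0, 0, 0, 1, 0], [8, -6, 0, 0, 0, 0, 0, 1], [-3, 2, 0, 0, 0, 0, 0, 0], [-2, 1, 0, 0, 0, 0, 0, 0]] = 1 := by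
  decide +kernel

theorem card_diag_E8 {F : Type*} [Field F] [Fintype F] :
    1 * Nat.card ↥(chevE8.diagonalSubgroup F) = (Fintype.card F - 1) ^ chevE8.rank := by
  rw [← card_diag_of_smith' (D := chevE8) (by simp [allData]) _ _ _ _ _ smith_E8]
  congr 1
  have : chevE8.rank = 8 := rfl
  rw [this]
  simp [Finset.prod_range_succ, Nat.gcd_comm, pow_two]

end Cfsg.Agent.Lib.Helper8
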