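import Mathlib

set_option autoImplicit false
set_option linter.unusedSimpArgs false
set_option linter.unusedVariables false

/-!
A small verified engine for sparse vectors with coefficients `z * x^a * y^b` (`z : ℤ`), meant to be
evaluated by the kernel (all recursions are written with recursors).
-/

namespace Cfsg.Agent.Lib.Helper8

/-- the term `z * x^a * y^b * e_j` -/
structure Term where
  j : ℕ
  a : ℕ
  b : ℕ
  z : ℤ

noncomputable def pushMap {α β : Type} (f : α → β) (L : List α) (acc : List β) : List β :=
  List.rec acc (fun a _ ih => f a :: ih) L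

theorem pushMap_eq {α β : Type} (f : α → β) (L : List α) (acc : List β) :
    pushMap f L acc = L.map f ++ acc := by
  induction L with
  | nil => rfl
  | cons a L ih =>
    show f a :: pushMap f L acc = _
    rw [ih]; rfl

def Term.mul (τ σ : Term) : Term := ⟨σ.j, τ.a + σ.a, τ.b + σ.b, τ.z * σ.z⟩

noncomputable def applyOp (op : ℕ → List Term) (L : List Term) : List Term :=
  List.rec [] (fun τ _ ih => pushMap τ.mul (op τ.j) ih) L

theorem applyOp_nil (op : ℕ → List Term) : applyOp op [] = [] := rfl

theorem applyOp_cons (op : ℕ → List Term) (τ : Term) (L : List Term) :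
    applyOp op (τ :: L) = (op τ.j).map τ.mul ++ applyOp op L := by
  show pushMap τ.mul (op τ.j) (applyOp op L) = _
  rw [pushMap_eq]

def same (σ τ : Term) : Bool := Nat.beq σ.j τ.j && (Nat.beq σ.a τ.a && Nat.beq σ.b τ.b)

theorem same_iff (σ τ : Term) : same σ τ = true ↔ σ.j = τ.j ∧ σ.a = τ.a ∧ σ.b = τ.b := by
  simp [same, Nat.beq_eq]

noncomputable def addTerm (τ : Term) (L : List Term) : List Term :=
  List.rec [τ] (fun σ L' ih => bif same σ τ then ⟨σ.j, σ.a, σ.b, σ.z + τ.z⟩ :: L' else σ :: ih) L

theorem addTerm_nil (τ : Term) : addTerm τ [] = [τ] := rfl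
theorem addTerm_cons (τ σ : Term) (L : List Term) :
    addTerm τ (σ :: L) = bif same σ τ then ⟨σ.j, σ.a, σ.b, σ.z + τ.z⟩ :: L else σ :: addTerm τ L := rfl

noncomputable def collect (L : List Term) : List Term := List.rec [] (fun τ _ ih => addTerm τ ih) L

theorem collect_nil : collect [] = [] := rfl
theorem collect_cons (τ : Term) (L : List Term) : collect (τ :: L) = addTerm τ (collect L) := rfl

noncomputable def allZ (L : List Term) : Bool :=
  List.rec true (fun σ _ ih => Nat.beq σ.z.natAbs 0 && ih) L

theorem allZ_nil : allZ [] = true := rfl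
theorem allZ_cons (σ : Term) (L : List Term) : allZ (σ :: L) = (Nat.beq σ.z.natAbs 0 && allZ L) := rfl

def Term.neg (τ : Term) : Term := ⟨τ.j, τ.a, τ.b, -τ.z⟩

/-- reduction of a monomial modulo `x * y = 1` -/
def Term.red (τ : Term) : Term := ⟨τ.j, τ.a - τ.b, τ.b - τ.a, τ.z⟩

/-- equality test of two sparse vectors -/
noncomputable def eqVec (L1 L2 : List Term) : Bool := allZ (collect (pushMap Term.neg L2 L1))

/-- equality test of two sparse vectors modulo `x * y = 1` -/
noncomputable def eqVecR (L1 L2 : List Term) : Bool :=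
  allZ (collect (pushMap (fun τ => τ.neg.red) L2 (pushMap Term.red L1 [])))

noncomputable def allR (f : ℕ → Bool) (n : ℕ) : Bool := Nat.rec true (fun k ih => f k && ih) n

theorem allR_iff (f : ℕ → Bool) (n : ℕ) : allR f n = true ↔ ∀ k < n, f k = true := by
  induction n with
  | zero => simp [allR]
  | succ n ih =>
    have : allR f (n + 1) = (f n && allR f n) := rfl
    rw [this, Bool.and_eq_true, ih]
    constructor
    · rintro ⟨h1, h2⟩ k hk
      rcases Nat.lt_succ_iff_lt_or_eq.mp hk with h | rfl
      · exact h2 k h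
      · exact h1
    · intro h
      exact ⟨h n (Nat.lt_succ_self n), fun k hk => h k (Nat.lt_succ_of_lt hk)⟩

noncomputable def allL {α : Type} (f : α → Bool) (L : List α) : Bool :=
  List.rec true (fun a _ ih => f a && ih) L

theorem allL_iff {α : Type} (f : α → Bool) (L : List α) : allL f L = true ↔ ∀ a ∈ L, f a = true := by
  induction L with
  | nil => simp [allL]
  | cons a L ih =>
    have : allL f (a :: L) = (f a && allL f L) := rfl
    rw [this, Bool.and_eq_true, ih]
    simp

/-! ### semantics -/

section sem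

variable {F : Type*} [Field F] (x y : F) {l n : ℕ}

def code : Fin l ⊕ Fin n → ℕ := Sum.elim (fun i => i.val) (fun s => l + s.val)

@[simp] theorem code_inl (i : Fin l) : code (Sum.inl i : Fin l ⊕ Fin n) = i.val := rfl
@[simp] theorem code_inr (s : Fin n) : code (Sum.inr s : Fin l ⊕ Fin n) = l + s.val := rfl

theorem code_inj : Function.Injective (code (l := l) (n := n)) := by
  rintro (i | s) (i' | s') h
  · simp only [code_inl] at h; exact congrArg _ (Fin.ext h)
  · simp only [code_inl, code_inr] at h; have := i.2; omega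
  · simp only [code_inl, code_inr] at h; have := i'.2; omega
  · simp only [code_inr] at h; exact congrArg _ (Fin.ext (by omega))

theorem code_lt (i : Fin l ⊕ Fin n) : code i < l + n := by
  rcases i with i | s
  · have := i.2; simp only [code_inl]; omega
  · have := s.2; simp only [code_inr]; omega

theorem exists_code {j : ℕ} (h : j < l + n) : ∃ i : Fin l ⊕ Fin n, code i = j := by
  by_cases hj : j < l
  · exact ⟨Sum.inl ⟨j, hj⟩, rfl⟩
  · exact ⟨Sum.inr ⟨j - l, by omega⟩, by simp only [code_inr]; omega⟩

def Term.val (τ : Term) : F := (τ.z : F) * x ^ τ.a * y ^ τ.b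

def ev (L : List Term) (i : Fin l ⊕ Fin n) : F :=
  (L.map fun τ => if τ.j = code i then τ.val x y else 0).sum

theorem ev_nil : ev x y ([] : List Term) = (0 : Fin l ⊕ Fin n → F) := by
  funext i; simp [ev]

theorem ev_cons (τ : Term) (L : List Term) :
    (ev x y (τ :: L) : Fin l ⊕ Fin n → F) = ev x y [τ] + ev x y L := by
  funext i; simp [ev]

theorem ev_append (L1 L2 : List Term) :
    (ev x y (L1 ++ L2) : Fin l ⊕ Fin n → F) = ev x y L1 + ev x y L2 := by
  funext i; simp [ev]

theorem val_mul (τ σ : Term) : (τ.mul σ).val x y = τ.val x y * σ.val x y := by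
  simp only [Term.val, Term.mul, Int.cast_mul, pow_add]; ring

theorem ev_map_mul (τ : Term) (L : List Term) :
    (ev x y (L.map τ.mul) : Fin l ⊕ Fin n → F) = τ.val x y • ev x y L := by
  induction L with
  | nil => simp [ev_nil]
  | cons σ L ih =>
    rw [List.map_cons, ev_cons, ih, ev_cons x y σ L, smul_add]
    congr 1
    funext i
    simp only [ev, List.map_cons, List.map_nil, List.sum_cons, List.sum_nil, add_zero, Pi.smul_apply,
      smul_eq_mul, val_mul]
    have : (τ.mul σ).j = σ.j := rfl
    rw [this]
    split_ifs <;> simp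

theorem ev_single (j : Fin l ⊕ Fin n) (τ : Term) (h : τ.j = code j) :
    (ev x y [τ] : Fin l ⊕ Fin n → F) = Pi.single j (τ.val x y) := by
  funext i
  simp only [ev, List.map_cons, List.map_nil, List.sum_cons, List.sum_nil, add_zero, h]
  by_cases hij : i = j
  · subst hij; simp
  · rw [if_neg (fun hh => hij (code_inj hh).symm), Pi.single_eq_of_ne hij]

theorem ev_single_out (τ : Term) (h : l + n ≤ τ.j) :
    (ev x y [τ] : Fin l ⊕ Fin n → F) = 0 := by
  funext i
  simp only [ev, List.map_cons, List.map_nil, List.sum_cons, List.sum_nil, add_zero, Pi.zero_apply]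
  rw [if_neg]
  intro hh
  have := code_lt i
  omega

/-- `op` computes the columns of the matrix `M` -/
def RepOp (op : ℕ → List Term) (M : Matrix (Fin l ⊕ Fin n) (Fin l ⊕ Fin n) F) : Prop :=
  (∀ j i, ev x y (op (code j)) i = M i j) ∧ (∀ j, l + n ≤ j → (ev x y (op j) : Fin l ⊕ Fin n → F) = 0)

theorem applyOp_sound {op : ℕ → List Term} {M : Matrix (Fin l ⊕ Fin n) (Fin l ⊕ Fin n) F}
    (h : RepOp x y op M) (L : List Term) :
    (ev x y (applyOp op L) : Fin l ⊕ Fin n → F) = M.mulVec (ev x y L) := by
  induction L with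
  | nil => simp [applyOp_nil, ev_nil]
  | cons τ L ih =>
    rw [applyOp_cons, ev_append, ih, ev_cons x y τ L, Matrix.mulVec_add, ev_map_mul]
    congr 1
    by_cases hj : τ.j < l + n
    · obtain ⟨j, hj⟩ := exists_code hj
      rw [ev_single x y j τ hj.symm, Matrix.mulVec_single]
      funext i
      simp only [Pi.smul_apply, smul_eq_mul, MulOpposite.smul_eq_mul_unop, MulOpposite.unop_op,
        Matrix.col_apply]
      rw [← hj, h.1 j i, mul_comm]
    · rw [ev_single_out x y τ (by omega), h.2 _ (by omega)]
      simp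

theorem ev_addTerm (τ : Term) (L : List Term) :
    (ev x y (addTerm τ L) : Fin l ⊕ Fin n → F) = ev x y [τ] + ev x y L := by
  induction L with
  | nil => simp [addTerm_nil, ev_nil]
  | cons σ L ih =>
    rw [addTerm_cons]
    cases hs : same σ τ with
    | true =>
      obtain ⟨h1, h2, h3⟩ := (same_iff σ τ).mp hs
      simp only [cond_true]
      rw [ev_cons, ev_cons x y σ L, ← add_assoc]
      congr 1
      funext i
      simp only [ev, List.map_cons, List.map_nil, List.sum_cons, List.sum_nil, add_zero, Pi.add_apply,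
        Term.val, h1, h2, h3]
      split_ifs <;> simp; ring
    | false =>
      simp only [cond_false]
      rw [ev_cons, ih, ev_cons x y σ L]
      abel

theorem ev_collect (L : List Term) :
    (ev x y (collect L) : Fin l ⊕ Fin n → F) = ev x y L := by
  induction L with
  | nil => rfl
  | cons τ L ih => rw [collect_cons, ev_addTerm, ih, ← ev_cons]

theorem ev_allZ {L : List Term} (h : allZ L = true) : (ev x y L : Fin l ⊕ Fin n → F) = 0 := by
  induction L with
  | nil => exact ev_nil x y
  | cons σ L ih =>
    rw [allZ_cons, Bool.and_eq_true] at h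
    rw [ev_cons, ih h.2, add_zero]
    have hz : σ.z = 0 := by
      have := Nat.eq_of_beq_eq_true h.1
      exact Int.natAbs_eq_zero.mp this
    funext i
    simp [ev, Term.val, hz]

theorem ev_map_neg (L : List Term) :
    (ev x y (L.map Term.neg) : Fin l ⊕ Fin n → F) = - ev x y L := by
  induction L with
  | nil => simp [ev_nil]
  | cons σ L ih =>
    rw [List.map_cons, ev_cons, ih, ev_cons x y σ L, neg_add]
    congr 1
    funext i
    simp only [ev, List.map_cons, List.map_nil, List.sum_cons, List.sum_nil, add_zero, Pi.neg_apply,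
      Term.neg, Term.val]
    split_ifs <;> simp

theorem eqVec_sound {L1 L2 : List Term} (h : eqVec L1 L2 = true) :
    (ev x y L1 : Fin l ⊕ Fin n → F) = ev x y L2 := by
  have h1 := ev_allZ x y (l := l) (n := n) h
  rw [ev_collect, pushMap_eq, ev_append, ev_map_neg] at h1
  have : ev x y L1 - ev x y L2 = (0 : Fin l ⊕ Fin n → F) := by rw [← h1]; abel
  exact sub_eq_zero.mp this

theorem val_red (hxy : x * y = 1) (τ : Term) : τ.red.val x y = τ.val x y := by
  simp only [Term.val, Term.red]
  rcases le_total τ.a τ.b with h | h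
  · obtain ⟨c, hc⟩ := Nat.exists_eq_add_of_le h
    rw [hc]
    simp only [Nat.sub_eq_zero_of_le (Nat.le_add_right _ _), Nat.add_sub_cancel_left, pow_zero, mul_one]
    rw [pow_add, mul_assoc, ← mul_assoc (x ^ τ.a), ← mul_pow, hxy, one_pow, one_mul]
  · obtain ⟨c, hc⟩ := Nat.exists_eq_add_of_le h
    rw [hc]
    simp only [Nat.sub_eq_zero_of_le (Nat.le_add_right _ _), Nat.add_sub_cancel_left, pow_zero, mul_one]
    rw [pow_add, mul_assoc, mul_assoc, mul_comm (x ^ c), ← mul_assoc (x ^ τ.b), ← mul_pow, hxy, one_pow,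
      one_mul]

theorem ev_map_red (hxy : x * y = 1) (L : List Term) :
    (ev x y (L.map Term.red) : Fin l ⊕ Fin n → F) = ev x y L := by
  induction L with
  | nil => rfl
  | cons σ L ih =>
    rw [List.map_cons, ev_cons, ih, ev_cons x y σ L]
    congr 1
    funext i
    simp only [ev, List.map_cons, List.map_nil, List.sum_cons, List.sum_nil, add_zero, val_red x y hxy]
    rfl

theorem eqVecR_sound (hxy : x * y = 1) {L1 L2 : List Term} (h : eqVecR L1 L2 = true) :
    (ev x y L1 : Fin l ⊕ Fin n → F) = ev x y L2 := by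
  have h1 := ev_allZ x y (l := l) (n := n) h
  rw [ev_collect, pushMap_eq, pushMap_eq, ev_append, List.append_nil, ev_map_red x y hxy] at h1
  have h2 : (L2.map fun τ => τ.neg.red) = (L2.map Term.neg).map Term.red := by simp
  rw [h2, ev_map_red x y hxy, ev_map_neg] at h1
  have : ev x y L1 - ev x y L2 = (0 : Fin l ⊕ Fin n → F) := by rw [← h1]; abel
  exact sub_eq_zero.mp this

/-- the basis vector `e_j` -/
def unit (j : ℕ) : List Term := [⟨j, 0, 0, 1⟩]

theorem ev_unit (j : Fin l ⊕ Fin n) : (ev x y (unit (code j)) : Fin l ⊕ Fin n → F) = Pi.single j 1 := by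
  rw [unit, ev_single x y j _ rfl]
  simp [Term.val]

/-- successive application of a list of operators (the head is applied last) -/
noncomputable def applyOps (ops : List (ℕ → List Term)) (L : List Term) : List Term :=
  List.rec L (fun op _ ih => applyOp op ih) ops

theorem applyOps_nil (L : List Term) : applyOps [] L = L := rfl
theorem applyOps_cons (op : ℕ → List Term) (ops : List (ℕ → List Term)) (L : List Term) :
    applyOps (op :: ops) L = applyOp op (applyOps ops L) := rfl

theorem applyOps_sound {ops : List (ℕ → List Term)}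
    {Ms : List (Matrix (Fin l ⊕ Fin n) (Fin l ⊕ Fin n) F)}
    (h : List.Forall₂ (RepOp x y) ops Ms) (L : List Term) :
    (ev x y (applyOps ops L) : Fin l ⊕ Fin n → F) = Ms.prod.mulVec (ev x y L) := by
  induction h with
  | nil => simp [applyOps_nil]
  | cons h1 _ ih =>
    rw [applyOps_cons, applyOp_sound x y h1, ih, List.prod_cons, Matrix.mulVec_mulVec]

theorem mat_ext {M1 M2 : Matrix (Fin l ⊕ Fin n) (Fin l ⊕ Fin n) F}
    (h : ∀ j, M1.mulVec (Pi.single j 1) = M2.mulVec (Pi.single j 1)) : M1 = M2 := by
  ext i j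
  have := congrFun (h j) i
  simpa [Matrix.mulVec_single] using this

/-- matrix identity from a column by column check -/
theorem prod_eq_of_check {ops1 ops2 : List (ℕ → List Term)}
    {Ms1 Ms2 : List (Matrix (Fin l ⊕ Fin n) (Fin l ⊕ Fin n) F)}
    (h1 : List.Forall₂ (RepOp x y) ops1 Ms1) (h2 : List.Forall₂ (RepOp x y) ops2 Ms2)
    (hc : ∀ j < l + n, eqVec (applyOps ops1 (unit j)) (applyOps ops2 (unit j)) = true) :
    Ms1.prod = Ms2.prod := by
  apply mat_ext
  intro j
  rw [← ev_unit x y j, ← applyOps_sound x y h1, ← applyOps_sound x y h2]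
  exact eqVec_sound x y (hc _ (code_lt j))

theorem prod_eq_of_checkR (hxy : x * y = 1) {ops1 ops2 : List (ℕ → List Term)}
    {Ms1 Ms2 : List (Matrix (Fin l ⊕ Fin n) (Fin l ⊕ Fin n) F)}
    (h1 : List.Forall₂ (RepOp x y) ops1 Ms1) (h2 : List.Forall₂ (RepOp x y) ops2 Ms2)
    (hc : ∀ j < l + n, eqVecR (applyOps ops1 (unit j)) (applyOps ops2 (unit j)) = true) :
    Ms1.prod = Ms2.prod := by
  apply mat_ext
  intro j
  rw [← ev_unit x y j, ← applyOps_sound x y h1, ← applyOps_sound x y h2]
  exact eqVecR_sound x y hxy (hc _ (code_lt j))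

end sem

end Cfsg.Agent.Lib.Helper8
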