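import Cfsg.Agent.Lib.Helper8.IdW

set_option autoImplicit false
set_option linter.unusedSimpArgs false
set_option linter.unusedVariables false

namespace Cfsg.Agent.Lib.Helper8

open Cfsg Cfsg.Lie

/-! ### the chain table read off the packed rows -/

def entryF (l n : ℕ) (get : ℕ → RootRec) (r s : ℕ) : List (ℕ × ℤ) :=
  bif Nat.blt r n then (decode l (look (get r).row s)).map (fun q => (q.1 - l, q.2.2)) else []

theorem specOf_back (l : ℕ) (e : ℕ × Array (ℕ × ℤ)) :
    (specOf l e).map (fun q => (q.1 - l, q.2.2)) = e.2.toList := by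
  unfold specOf
  rw [List.map_map]
  have : ((fun q : ℕ × ℕ × ℤ => (q.1 - l, q.2.2)) ∘ fun q : (ℕ × ℤ) × ℕ => (l + q.1.1, q.2 + 1, q.1.2))
      = Prod.fst := by
    funext q
    simp
  rw [this, List.zipIdx_map_fst]

theorem find_filter (l s : ℕ) (es : List (ℕ × Array (ℕ × ℤ)))
    (hk : es.Pairwise (fun a b => a.1 ≠ b.1)) :
    (match es.find? (fun e => e.1 = s) with
      | none => []
      | some e => e.2.toList) =
    ((es.filter (fun e => e.1 = s)).flatMap (specOf l)).map (fun q => (q.1 - l, q.2.2)) := by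
  induction es with
  | nil => rfl
  | cons e es ih =>
    rw [List.pairwise_cons] at hk
    by_cases h : e.1 = s
    · have hnone : ∀ e' ∈ es, e'.1 ≠ s := fun e' he' hh => hk.1 e' he' (by rw [h, hh])
      have hf : es.filter (fun e => decide (e.1 = s)) = [] := by
        rw [List.filter_eq_nil_iff]
        intro a ha
        simpa using hnone a ha
      rw [List.find?_cons_of_pos (by simpa using h), List.filter_cons_of_pos (by simpa using h), hf]
      simp only [List.flatMap_cons, List.flatMap_nil, List.append_nil]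
      rw [specOf_back]
    · rw [List.find?_cons_of_neg (by simpa using h), List.filter_cons_of_neg (by simpa using h)]
      exact ih hk.2

theorem chainEntry_eq {D : ChevalleyDatum} {T : RTree} {h : ℕ} (hok : fastOK D T h = true)
    (hsz : D.chain.size ≤ D.nroots) (r s : ℕ) :
    D.chainEntry r s = entryF D.rank D.nroots (fun r => T.get r h) r s := by
  unfold entryF ChevalleyDatum.chainEntry
  by_cases hr : r < D.nroots
  · have hb : Nat.blt r D.nroots = true := by rw [Nat.blt_eq]; exact hr
    rw [hb, cond_true]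
    have h1 := (allR_iff _ _).mp hok r hr
    simp only [chkRec, Bool.and_eq_true, decide_eq_true_eq, List.all_eq_true] at h1
    obtain ⟨hneg, hnegCol, hhco, hrow, hincr, hall⟩ := h1
    have hrow' := Nat.eq_of_beq_eq_true hrow
    simp only
    rw [hrow', decode_look D.rank (specOf D.rank) _ (incr_spec _ _ hincr).2
            (fun e he => by
              have := (hall e he).1
              rw [Nat.blt_eq] at this
              exact this)
            (fun e he => (hall e he).2)]
    exact find_filter D.rank s _ (incr_spec _ _ hincr).2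
  · have hb : Nat.blt r D.nroots = false := by rw [← Bool.not_eq_true, Nat.blt_eq]; exact hr
    rw [hb, cond_false]
    have : D.chain.getD r #[] = #[] := by
      rw [Array.getD_eq_getD_getElem?, Array.getElem?_eq_none (by omega)]
      rfl
    rw [this]
    rfl

/-! ### the terms of the commutator formula -/

def chainRootF (E : ℕ → ℕ → List (ℕ × ℤ)) (r s i : ℕ) : Option ℕ := ((E r s)[i - 1]?).map Prod.fst
def chainMF (E : ℕ → ℕ → List (ℕ × ℤ)) (r s i : ℕ) : ℤ := (((E r s)[i - 1]?).map Prod.snd).getD 0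

def commTermsF (E : ℕ → ℕ → List (ℕ × ℤ)) (r s : ℕ) : List (ℕ × ℤ × ℕ × ℕ) :=
  let rs := chainRootF E r s 1
  let cands : List (Option ℕ × ℤ × ℕ × ℕ) :=
    [ (chainRootF E r s 1, chainMF E r s 1, 1, 1),
      (chainRootF E r s 2, chainMF E r s 2, 2, 1),
      (chainRootF E s r 2, chainMF E s r 2, 1, 2),
      (chainRootF E r s 3, chainMF E r s 3, 3, 1),
      (chainRootF E s r 3, - chainMF E s r 3, 1, 3),
      ((chainRootF E r s 3).bind fun k => chainRootF E k s 1, (rs.map fun k => chainMF E k r 2 / 3).getD 0, 3, 2),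
      ((chainRootF E s r 3).bind fun k => chainRootF E k r 1, (rs.map fun k => -2 * chainMF E k s 2 / 3).getD 0, 2, 3) ]
  cands.filterMap fun c => c.1.map fun k => (k, c.2)

theorem commTerms_eq (D : ChevalleyDatum) (E : ℕ → ℕ → List (ℕ × ℤ))
    (hE : ∀ r s, D.chainEntry r s = E r s) (r s : ℕ) : D.commTerms r s = commTermsF E r s := by
  have h : D.chainEntry = E := by funext r s; exact hE r s
  subst h
  rfl

/-! ### transport of the commutator formula by a monomial element -/

section transport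
variable {D : ChevalleyDatum} {F : Type*} [Field F]

/-- the commutator formula for the pair `(r, s)` -/
def CommOK (D : ChevalleyDatum) (F : Type*) [Field F] (r s : ℕ) : Prop :=
  ∀ t u : F, D.x F s u * D.x F r t = D.x F r t * D.x F s u * D.wordMat F (D.commWord F r s t u)

theorem wordMat_nil : D.wordMat F [] = 1 := rfl

theorem wordMat_cons (p : ℕ × F) (L : List (ℕ × F)) :
    D.wordMat F (p :: L) = D.x F p.1 p.2 * D.wordMat F L := by
  simp [ChevalleyDatum.wordMat]

theorem wordMat_append (L1 L2 : List (ℕ × F)) :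
    D.wordMat F (L1 ++ L2) = D.wordMat F L1 * D.wordMat F L2 := by
  simp [ChevalleyDatum.wordMat]

theorem conj_wordMat {N : Matrix D.Idx D.Idx F} {w : ℕ → ℕ} {η : ℕ → ℤ}
    (hN : ∀ a < D.nroots, ∀ t : F, N * D.x F a t = D.x F (w a) ((η a : F) * t) * N)
    (L : List (ℕ × F)) (hL : ∀ p ∈ L, p.1 < D.nroots) :
    N * D.wordMat F L = D.wordMat F (L.map fun p => (w p.1, (η p.1 : F) * p.2)) * N := by
  induction L with
  | nil => simp [wordMat_nil]
  | cons p L ih =>
    rw [wordMat_cons, List.map_cons, wordMat_cons, ← mul_assoc, hN p.1 (hL p (by simp)), mul_assoc,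
      ih (fun q hq => hL q (by simp [hq])), mul_assoc]

theorem comm_transport {N N' : Matrix D.Idx D.Idx F} (hNN' : N * N' = 1) {w : ℕ → ℕ} {η : ℕ → ℤ}
    (hN : ∀ a < D.nroots, ∀ t : F, N * D.x F a t = D.x F (w a) ((η a : F) * t) * N)
    (hη : ∀ a, η a = 1 ∨ η a = -1) {r s r' s' : ℕ} (hr' : r' < D.nroots) (hs' : s' < D.nroots)
    (hwr : w r' = r) (hws : w s' = s) (hlt : ∀ c ∈ D.commTerms r' s', c.1 < D.nroots)
    (hT : D.commTerms r s = (D.commTerms r' s').map
      (fun c => (w c.1, η c.1 * η r' ^ c.2.2.1 * η s' ^ c.2.2.2 * c.2.1, c.2.2.1, c.2.2.2)))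
    (h : CommOK D F r' s') : CommOK D F r s := by
  intro t u
  have hsq : ∀ a, ((η a : ℤ) : F) * ((η a : ℤ) : F) = 1 := by
    intro a
    rcases hη a with h | h <;> simp [h]
  have h1 := h ((η r' : F) * t) ((η s' : F) * u)
  have h2 : N * _ = N * _ := congrArg (fun M => N * M) h1
  have hL : ∀ p ∈ D.commWord F r' s' ((η r' : F) * t) ((η s' : F) * u), p.1 < D.nroots := by
    intro p hp
    simp only [ChevalleyDatum.commWord, List.mem_map] at hp
    obtain ⟨c, hc, rfl⟩ := hp
    exact hlt c hc
  rw [← mul_assoc, hN s' hs', mul_assoc, hN r' hr', ← mul_assoc N, ← mul_assoc N, hN r' hr',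
    mul_assoc (D.x F (w r') _), hN s' hs', mul_assoc, mul_assoc, conj_wordMat hN _ hL, hwr, hws,
    ← mul_assoc (η s' : F), ← mul_assoc (η r' : F), hsq, hsq, one_mul, one_mul] at h2
  have hW : (D.commWord F r' s' ((η r' : F) * t) ((η s' : F) * u)).map
      (fun p => (w p.1, (η p.1 : F) * p.2)) = D.commWord F r s t u := by
    simp only [ChevalleyDatum.commWord]
    rw [hT, List.map_map, List.map_map]
    apply List.map_congr_left
    intro c _
    simp only [Function.comp, Prod.mk.injEq, true_and]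
    push_cast
    rw [neg_mul_eq_mul_neg, mul_pow, mul_pow]
    ring
  rw [hW] at h2
  have h3 : _ * N' = _ * N' := congrArg (fun M => M * N') h2
  simp only [mul_assoc, hNN', mul_one] at h3
  rw [h3, mul_assoc]

end transport

/-! ### brute force check of the formula for a given pair -/

noncomputable def applyW (col : ℕ → ℕ → List (ℕ × ℕ × ℤ)) (terms : List (ℕ × ℤ × ℕ × ℕ)) (v : List Term) :
    List Term :=
  List.rec v (fun c _ ih => applyX col c.1 (pwMono ⟨0, c.2.2.1, c.2.2.2, c.2.1 * sgnPow c.2.2.1⟩) ih) terms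

theorem applyW_nil (col : ℕ → ℕ → List (ℕ × ℕ × ℤ)) (v : List Term) : applyW col [] v = v := rfl
theorem applyW_cons (col : ℕ → ℕ → List (ℕ × ℕ × ℤ)) (c : ℕ × ℤ × ℕ × ℕ) (terms : List (ℕ × ℤ × ℕ × ℕ))
    (v : List Term) : applyW col (c :: terms) v =
      applyX col c.1 (pwMono ⟨0, c.2.2.1, c.2.2.2, c.2.1 * sgnPow c.2.2.1⟩) (applyW col terms v) := rfl

theorem applyW_rep {D : ChevalleyDatum} {col : ℕ → ℕ → List (ℕ × ℕ × ℤ)} (hcol : ColOK D col)
    {F : Type*} [Field F] (t u : F) (terms : List (ℕ × ℤ × ℕ × ℕ)) (hlt : ∀ c ∈ terms, c.1 < D.nroots) :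
    RepV (l := D.rank) (n := D.nroots) t u (applyW col terms)
      (D.wordMat F (terms.map fun c => (c.1, (c.2.1 : F) * (-t) ^ c.2.2.1 * u ^ c.2.2.2))) := by
  induction terms with
  | nil =>
    intro L
    rw [applyW_nil, List.map_nil, wordMat_nil, Matrix.one_mulVec]
  | cons c terms ih =>
    rw [List.map_cons, wordMat_cons]
    have h1 := applyX_rep hcol t u (hlt c (by simp))
      (pw := pwMono ⟨0, c.2.2.1, c.2.2.2, c.2.1 * sgnPow c.2.2.1⟩)
      (t := (c.2.1 : F) * (-t) ^ c.2.2.1 * u ^ c.2.2.2) (fun k => by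
        rw [pval_pwMono]
        congr 1
        simp only [Term.val, sgnPow_eq, Int.cast_mul, Int.cast_pow, Int.cast_neg, Int.cast_one]
        rw [neg_pow t]
        ring)
    exact h1.comp t u (ih (fun c' hc' => hlt c' (by simp [hc'])))

noncomputable def chkCommCol (col : ℕ → ℕ → List (ℕ × ℕ × ℤ)) (terms : List (ℕ × ℤ × ℕ × ℕ)) (r s j : ℕ) :
    Bool :=
  eqVec (applyX col s (pwMono mY) (applyX col r (pwMono mX) (unit j)))
    (applyX col r (pwMono mX) (applyX col s (pwMono mY) (applyW col terms (unit j))))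

noncomputable def chkBase (l n : ℕ) (get : ℕ → RootRec) (r s : ℕ) : Bool :=
  (commTermsF (entryF l n get) r s).all (fun c => Nat.blt c.1 n) &&
    allR (fun j => chkCommCol (colFast l n get) (commTermsF (entryF l n get) r s) r s j) (l + n)

theorem comm_of_base {D : ChevalleyDatum} {T : RTree} {h : ℕ} (hok : fastOK D T h = true)
    (hsz : D.chain.size ≤ D.nroots) {F : Type*} [Field F] {r s : ℕ} (hr : r < D.nroots) (hs : s < D.nroots)
    (hc : chkBase D.rank D.nroots (fun r => T.get r h) r s = true) : CommOK D F r s := by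
  intro t u
  have hcol := colFast_ok hok
  rw [chkBase, Bool.and_eq_true, allR_iff, List.all_eq_true] at hc
  have hT := commTerms_eq D _ (chainEntry_eq hok hsz) r s
  have hlt : ∀ c ∈ commTermsF (entryF D.rank D.nroots (fun r => T.get r h)) r s, c.1 < D.nroots := by
    intro c hc'
    have := hc.1 c hc'
    rwa [Nat.blt_eq] at this
  rw [ChevalleyDatum.commWord, hT, mul_assoc]
  have hX := applyX_rep hcol t u hr (pw := pwMono mX) (t := t) (fun k => by rw [pval_pwMono, mX_val])
  have hY := applyX_rep hcol t u hs (pw := pwMono mY) (t := u) (fun k => by rw [pval_pwMono, mY_val])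
  exact eq_of_checkV (l := D.rank) (n := D.nroots) t u (hY.comp t u hX)
    (hX.comp t u (hY.comp t u (applyW_rep hcol t u _ hlt))) hc.2

/-! ### the check of all pairs -/

noncomputable def trTerm (row r' s' : ℕ) (c : ℕ × ℤ × ℕ × ℕ) : ℕ × ℤ × ℕ × ℕ :=
  (w9 row c.1, e9 row c.1 * e9 row r' ^ c.2.2.1 * e9 row s' ^ c.2.2.2 * c.2.1, c.2.2.1, c.2.2.2)

noncomputable def chkTr (n : ℕ) (E : ℕ → ℕ → List (ℕ × ℤ)) (row r s : ℕ) : Bool :=
  Nat.blt (r * n + s) (w9 row r * n + w9 row s) &&
  ((commTermsF E (w9 row r) (w9 row s)).all (fun c => Nat.blt c.1 n) &&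
   decide (commTermsF E r s = (commTermsF E (w9 row r) (w9 row s)).map (trTerm row (w9 row r) (w9 row s))))

noncomputable def anyR (f : ℕ → Bool) (n : ℕ) : Bool := Nat.rec false (fun k ih => f k || ih) n

theorem anyR_iff (f : ℕ → Bool) (n : ℕ) : anyR f n = true ↔ ∃ k < n, f k = true := by
  induction n with
  | zero => simp [anyR]
  | succ n ih =>
    have : anyR f (n + 1) = (f n || anyR f n) := rfl
    rw [this, Bool.or_eq_true, ih]
    constructor
    · rintro (h | ⟨k, hk, h⟩)
      · exact ⟨n, Nat.lt_succ_self n, h⟩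
      · exact ⟨k, Nat.lt_succ_of_lt hk, h⟩
    · rintro ⟨k, hk, h⟩
      rcases Nat.lt_succ_iff_lt_or_eq.mp hk with h' | rfl
      · exact Or.inr ⟨k, h', h⟩
      · exact Or.inl h

noncomputable def chkPair (l n : ℕ) (E : ℕ → ℕ → List (ℕ × ℤ)) (nrow : ℕ → ℕ) (base : List (ℕ × ℕ))
    (r s : ℕ) : Bool :=
  Nat.beq s r || (Nat.beq s (n - 1 - r) || (base.any (fun p => Nat.beq p.1 r && Nat.beq p.2 s) ||
    anyR (fun i => chkTr n E (nrow i) r s) l))

noncomputable def chkPairs (l n : ℕ) (get : ℕ → RootRec) (nrow : ℕ → ℕ) (base : List (ℕ × ℕ))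
    (lo len : ℕ) : Bool :=
  allR (fun k => allR (fun s => chkPair l n (entryF l n get) nrow base (lo + k) s) n) len

theorem chkPairs_spec {l n : ℕ} {get : ℕ → RootRec} {nrow : ℕ → ℕ} {base : List (ℕ × ℕ)} {lo len : ℕ}
    (h : chkPairs l n get nrow base lo len = true)
    {r : ℕ} (h1 : lo ≤ r) (h2 : r < lo + len) {s : ℕ} (hs : s < n) :
    chkPair l n (entryF l n get) nrow base r s = true := by
  have := (allR_iff _ _).mp ((allR_iff _ _).mp h (r - lo) (by omega)) s hs
  rwa [Nat.add_sub_cancel' h1] at this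

theorem comm_all {D : ChevalleyDatum} {T : RTree} {h : ℕ} (hok : fastOK D T h = true)
    (hsz : D.chain.size ≤ D.nroots) {nrow : ℕ → ℕ} (hW : WOK D (fun r => T.get r h) nrow)
    (hpos : chkPos D = true) {F : Type*} [Field F]
    (hN : ∀ i < D.rank, ∃ N N' : Matrix D.Idx D.Idx F, N * N' = 1 ∧ ∀ a < D.nroots, ∀ t : F,
      N * D.x F a t = D.x F (w9 (nrow i) a) ((e9 (nrow i) a : F) * t) * N)
    {base : List (ℕ × ℕ)} (hbase : ∀ p ∈ base, CommOK D F p.1 p.2)
    (hpairs : ∀ r < D.nroots, ∀ s < D.nroots,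
      chkPair D.rank D.nroots (entryF D.rank D.nroots (fun r => T.get r h)) nrow base r s = true) :
    ∀ r s, r < D.nroots → s < D.nroots → s ≠ r → s ≠ D.neg r → CommOK D F r s := by
  have key : ∀ m r s, D.nroots * D.nroots - (r * D.nroots + s) = m → r < D.nroots → s < D.nroots →
      s ≠ r → s ≠ D.neg r → CommOK D F r s := by
    intro m
    induction m using Nat.strong_induction_on with
    | _ m ih =>
      intro r s hm hr hs hsr hsn
      have hp := hpairs r hr s hs
      rw [((chkPos_spec hpos).2 r hr).1] at hsn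
      simp only [chkPair, Bool.or_eq_true, Nat.beq_eq, List.any_eq_true, Bool.and_eq_true, anyR_iff] at hp
      rcases hp with hp | hp | ⟨p, hp, hp1, hp2⟩ | ⟨i, hi, hp⟩
      · exact absurd hp hsr
      · exact absurd hp hsn
      · have := hbase p hp
        rwa [hp1, hp2] at this
      · simp only [chkTr, Bool.and_eq_true, Nat.blt_eq, List.all_eq_true, decide_eq_true_eq] at hp
        obtain ⟨hmeas, hlt, hT⟩ := hp
        obtain ⟨N, N', hNN', hNx⟩ := hN i hi
        have sr := chkW_spec1 (hW i hi) hr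
        have ss := chkW_spec1 (hW i hi) hs
        have sr' := chkW_spec1 (hW i hi) sr.2.1
        have hE := commTerms_eq D _ (chainEntry_eq hok hsz)
        have hlt2 : w9 (nrow i) r * D.nroots + w9 (nrow i) s < D.nroots * D.nroots := by
          have h1 := sr.2.1
          have h2 := ss.2.1
          calc w9 (nrow i) r * D.nroots + w9 (nrow i) s < w9 (nrow i) r * D.nroots + D.nroots := by omega
            _ = (w9 (nrow i) r + 1) * D.nroots := by ring
            _ ≤ D.nroots * D.nroots := Nat.mul_le_mul_right _ h1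
        refine comm_transport hNN' hNx (fun a => sgn9_cases _) sr.2.1 ss.2.1 sr.2.2.2.2.1 ss.2.2.2.2.1
          (by rw [hE]; exact hlt) (by rw [hE, hE, hT]; rfl)
          (ih _ (by omega) _ _ rfl sr.2.1 ss.2.1 ?_ ?_)
        · intro hh
          apply hsr
          rw [← ss.2.2.2.2.1, hh, sr.2.2.2.2.1]
        · intro hh
          apply hsn
          rw [← ((chkPos_spec hpos).2 r hr).1, ← ss.2.2.2.2.1, hh, sr'.2.2.2.2.2.1, sr.2.2.2.2.1]
  intro r s hr hs h1 h2
  exact key _ r s rfl hr hs h1 h2

/-- all the checks needed for the commutator formula -/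
def CmOK (D : ChevalleyDatum) (get : ℕ → RootRec) (nrow : ℕ → ℕ) (base : List (ℕ × ℕ)) : Prop :=
  D.chain.size ≤ D.nroots ∧
  (∀ p ∈ base, p.1 < D.nroots ∧ p.2 < D.nroots ∧ chkBase D.rank D.nroots get p.1 p.2 = true) ∧
  ∀ r < D.nroots, ∀ s < D.nroots, chkPair D.rank D.nroots (entryF D.rank D.nroots get) nrow base r s = true

end Cfsg.Agent.Lib.Helper8
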