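import Cfsg.Agent.Lib.Helper8.UStruct
import Cfsg.Agent.Lib.Helper8.IdComm

set_option autoImplicit false
set_option linter.unusedSectionVars false
set_option linter.unusedVariables false

/-! Identities between words with integer parameters, in characteristic `c`. -/

namespace Cfsg.Agent.Lib.Helper8

open Cfsg Cfsg.Lie

noncomputable def allZc (c : ℕ) (L : List Term) : Bool :=
  List.rec true (fun σ _ ih => Nat.beq (σ.z.natAbs % c) 0 && ih) L

theorem allZc_cons (c : ℕ) (σ : Term) (L : List Term) :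
    allZc c (σ :: L) = (Nat.beq (σ.z.natAbs % c) 0 && allZc c L) := rfl

theorem ev_allZc {F : Type*} [Field F] (x y : F) {l n : ℕ} (c : ℕ) [CharP F c] {L : List Term}
    (h : allZc c L = true) : (ev x y L : Fin l ⊕ Fin n → F) = 0 := by
  induction L with
  | nil => exact ev_nil x y
  | cons σ L ih =>
    rw [allZc_cons, Bool.and_eq_true] at h
    rw [ev_cons, ih h.2, add_zero]
    have hz : ((σ.z : ℤ) : F) = 0 := by
      have h1 := Nat.eq_of_beq_eq_true h.1
      rw [CharP.intCast_eq_zero_iff F c]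
      exact Int.natCast_dvd.mpr (Nat.dvd_of_mod_eq_zero h1)
    funext i
    simp [ev, Term.val, hz]

noncomputable def eqVecC (c : ℕ) (L1 L2 : List Term) : Bool := allZc c (collect (pushMap Term.neg L2 L1))

theorem eqVecC_sound {F : Type*} [Field F] (x y : F) {l n : ℕ} (c : ℕ) [CharP F c] {L1 L2 : List Term}
    (h : eqVecC c L1 L2 = true) : (ev x y L1 : Fin l ⊕ Fin n → F) = ev x y L2 := by
  have h1 := ev_allZc x y (l := l) (n := n) c h
  rw [ev_collect, pushMap_eq, ev_append, ev_map_neg] at h1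
  have : ev x y L1 - ev x y L2 = (0 : Fin l ⊕ Fin n → F) := by rw [← h1]; abel
  exact sub_eq_zero.mp this

noncomputable def applyWC (col : ℕ → ℕ → List (ℕ × ℕ × ℤ)) (w : List (ℕ × ℤ)) (v : List Term) : List Term :=
  List.rec v (fun p _ ih => collect (applyX col p.1 (pwMono ⟨0, 0, 0, p.2⟩) ih)) w

theorem applyWC_nil (col : ℕ → ℕ → List (ℕ × ℕ × ℤ)) (v : List Term) : applyWC col [] v = v := rfl
theorem applyWC_cons (col : ℕ → ℕ → List (ℕ × ℕ × ℤ)) (p : ℕ × ℤ) (w : List (ℕ × ℤ)) (v : List Term) :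
    applyWC col (p :: w) v = collect (applyX col p.1 (pwMono ⟨0, 0, 0, p.2⟩) (applyWC col w v)) := rfl

/-- the word with parameters in `F` -/
def castW (F : Type*) [Field F] (w : List (ℕ × ℤ)) : List (ℕ × F) := w.map fun p => (p.1, (p.2 : F))

theorem applyWC_rep {D : ChevalleyDatum} {col : ℕ → ℕ → List (ℕ × ℕ × ℤ)} (hcol : ColOK D col)
    {F : Type*} [Field F] (w : List (ℕ × ℤ)) (hlt : ∀ p ∈ w, p.1 < D.nroots) :
    RepV (l := D.rank) (n := D.nroots) (0 : F) 0 (applyWC col w) (D.wordMat F (castW F w)) := by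
  induction w with
  | nil =>
    intro L
    rw [applyWC_nil, castW, List.map_nil, wordMat_nil, Matrix.one_mulVec]
  | cons p w ih =>
    rw [castW, List.map_cons, wordMat_cons]
    have h1 := applyX_rep hcol (0 : F) 0 (hlt p (by simp)) (pw := pwMono ⟨0, 0, 0, p.2⟩) (t := (p.2 : F))
      (fun k => by rw [pval_pwMono]; simp [Term.val])
    have h2 := h1.comp 0 0 (ih (fun c' hc' => hlt c' (by simp [hc'])))
    intro L
    rw [applyWC_cons, ev_collect]
    exact h2 L

noncomputable def chkWC (c l n : ℕ) (get : ℕ → RootRec) (w1 w2 : List (ℕ × ℤ)) : Bool :=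
  w1.all (fun p => Nat.blt p.1 n) && (w2.all (fun p => Nat.blt p.1 n) &&
    allR (fun j => eqVecC c (applyWC (colFast l n get) w1 (unit j)) (applyWC (colFast l n get) w2 (unit j))) (l + n))

theorem wG_eq_of_chkWC {D : ChevalleyDatum} (hD : D ∈ allData) {F : Type*} [Field F] (c : ℕ) [CharP F c]
    {w1 w2 : List (ℕ × ℤ)} (h : chkWC c D.rank D.nroots (getOf D) w1 w2 = true) :
    wG hD (castW F w1) = wG hD (castW F w2) := by
  have hcol := colFast_ok (treeOf_ok hD)
  rw [chkWC, Bool.and_eq_true, Bool.and_eq_true, allR_iff, List.all_eq_true, List.all_eq_true] at h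
  apply Units.ext
  rw [wG_coe, wG_coe]
  have h1 := applyWC_rep hcol (F := F) w1 (fun p hp => by have := h.1 p hp; rwa [Nat.blt_eq] at this)
  have h2 := applyWC_rep hcol (F := F) w2 (fun p hp => by have := h.2.1 p hp; rwa [Nat.blt_eq] at this)
  apply mat_ext
  intro j
  rw [← ev_unit (0 : F) 0 j, ← h1, ← h2]
  exact eqVecC_sound 0 0 c (h.2.2 _ (code_lt j))

end Cfsg.Agent.Lib.Helper8
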