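import Cfsg.Agent.Lib.Helper8.Fast

set_option autoImplicit false
set_option linter.unusedSimpArgs false
set_option linter.unusedVariables false

namespace Cfsg.Agent.Lib.Helper8

open Cfsg Cfsg.Lie

/-! ### operators on sparse vectors, with a fast path for the columns fixed by `x_r(t)` -/

section sem
variable {F : Type*} [Field F] (x y : F) {l n : ℕ}

/-- `f` computes the action of the matrix `M` on sparse vectors -/
def RepV (f : List Term → List Term) (M : Matrix (Fin l ⊕ Fin n) (Fin l ⊕ Fin n) F) : Prop :=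
  ∀ L, (ev x y (f L) : Fin l ⊕ Fin n → F) = M.mulVec (ev x y L)

theorem RepOp.toV {op : ℕ → List Term} {M : Matrix (Fin l ⊕ Fin n) (Fin l ⊕ Fin n) F}
    (h : RepOp x y op M) : RepV x y (applyOp op) M := fun L => applyOp_sound x y h L

theorem RepV.comp {f g : List Term → List Term} {M N : Matrix (Fin l ⊕ Fin n) (Fin l ⊕ Fin n) F}
    (hf : RepV x y f M) (hg : RepV x y g N) : RepV x y (fun L => f (g L)) (M * N) := by
  intro L
  rw [hf, hg, Matrix.mulVec_mulVec]

theorem eq_of_checkV {f g : List Term → List Term} {M N : Matrix (Fin l ⊕ Fin n) (Fin l ⊕ Fin n) F}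
    (hf : RepV x y f M) (hg : RepV x y g N)
    (hc : ∀ j < l + n, eqVec (f (unit j)) (g (unit j)) = true) : M = N := by
  apply mat_ext
  intro j
  rw [← ev_unit x y j, ← hf, ← hg]
  exact eqVec_sound x y (hc _ (code_lt j))

theorem eq_of_checkVR (hxy : x * y = 1) {f g : List Term → List Term}
    {M N : Matrix (Fin l ⊕ Fin n) (Fin l ⊕ Fin n) F}
    (hf : RepV x y f M) (hg : RepV x y g N)
    (hc : ∀ j < l + n, eqVecR (f (unit j)) (g (unit j)) = true) : M = N := by
  apply mat_ext
  intro j
  rw [← ev_unit x y j, ← hf, ← hg]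
  exact eqVecR_sound x y hxy (hc _ (code_lt j))

theorem mulVec_single_one (M : Matrix (Fin l ⊕ Fin n) (Fin l ⊕ Fin n) F) (j i : Fin l ⊕ Fin n) :
    M.mulVec (Pi.single j 1) i = M i j := by
  simp [Matrix.mulVec_single]

/-- an operator which agrees column by column with a represented vector operator -/
theorem repOp_of_checkVR (hxy : x * y = 1) {f : List Term → List Term}
    {M : Matrix (Fin l ⊕ Fin n) (Fin l ⊕ Fin n) F} (h : RepV x y f M)
    {op : ℕ → List Term} (hc : ∀ j < l + n, eqVecR (f (unit j)) (op j) = true)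
    (hout : ∀ j, l + n ≤ j → op j = []) : RepOp x y op M := by
  constructor
  · intro j i
    rw [← eqVecR_sound x y hxy (hc _ (code_lt j)), h, ev_unit, mulVec_single_one]
  · intro j hj
    rw [hout j hj, ev_nil]

end sem

def isSingle (C : List (ℕ × ℕ × ℤ)) : Bool :=
  match C with
  | [_] => true
  | _ => false

theorem colSpec_single {D : ChevalleyDatum} {r j : ℕ} (h : isSingle (colSpec D r j) = true) :
    colSpec D r j = [(j, 0, 1)] := by
  unfold colSpec at h ⊢
  split_ifs at h ⊢ with h1 h2 h3 h4
  · simp [isSingle] at h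
  · simp [isSingle] at h
  · rfl
  · simp [isSingle] at h
  · cases hc : chainSpec D r (j - D.rank) with
    | nil => rfl
    | cons a b => rw [hc] at h; simp [isSingle] at h

noncomputable def applyX (col : ℕ → ℕ → List (ℕ × ℕ × ℤ)) (r : ℕ) (pw : ℕ → List Term) (L : List Term) :
    List Term :=
  List.rec [] (fun σ _ ih => bif isSingle (col r σ.j) then σ :: ih
    else pushMap σ.mul (opC (col r σ.j) pw) ih) L

theorem applyX_nil (col : ℕ → ℕ → List (ℕ × ℕ × ℤ)) (r : ℕ) (pw : ℕ → List Term) :
    applyX col r pw [] = [] := rfl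

theorem applyX_cons (col : ℕ → ℕ → List (ℕ × ℕ × ℤ)) (r : ℕ) (pw : ℕ → List Term) (σ : Term)
    (L : List Term) : applyX col r pw (σ :: L) =
      bif isSingle (col r σ.j) then σ :: applyX col r pw L
      else pushMap σ.mul (opC (col r σ.j) pw) (applyX col r pw L) := rfl

theorem applyX_rep {D : ChevalleyDatum} {col : ℕ → ℕ → List (ℕ × ℕ × ℤ)} (hcol : ColOK D col)
    {F : Type*} [Field F] (x y : F) {r : ℕ} (hr : r < D.nroots) {pw : ℕ → List Term} {t : F}
    (hpw : ∀ k, pval x y (pw k) = t ^ k) :
    RepV (l := D.rank) (n := D.nroots) x y (applyX col r pw) (D.x F r t) := by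
  have hrep := xOp_rep hcol x y hr hpw
  intro L
  rw [← applyOp_sound x y hrep]
  induction L with
  | nil => rfl
  | cons σ L ih =>
    rw [applyX_cons, applyOp_cons, ev_append, ← ih]
    cases hs : isSingle (col r σ.j) with
    | false =>
      rw [cond_false, pushMap_eq, ev_append]; rfl
    | true =>
      rw [cond_true, ev_cons]
      congr 1
      rw [hcol r hr] at hs
      rw [ev_map_mul, xOp, hcol r hr, colSpec_single hs]
      funext i
      rw [Pi.smul_apply, ev_opC x y _ pw t hpw, colVal_cons, colVal_nil]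
      simp only [ev, List.map_cons, List.map_nil, List.sum_cons, List.sum_nil, add_zero, smul_eq_mul]
      split_ifs <;> simp

end Cfsg.Agent.Lib.Helper8
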