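import Cfsg.Agent.Lib.Helper8.FactR3
import Cfsg.Agent.Lib.Helper8.Chk.Cm_G2
import Cfsg.Agent.Lib.Helper8.Chk.Cm_B2
import Cfsg.Agent.Lib.Helper8.Chk.Cm_D4
import Cfsg.Agent.Lib.Helper8.Chk.Cm_F4
import Cfsg.Agent.Lib.Helper8.Chk.Cm_E6
import Cfsg.Agent.Lib.Helper8.Chk.Cm_E7
import Cfsg.Agent.Lib.Helper8.Chk.Cm_E8

set_option autoImplicit false

namespace Cfsg.Agent.Lib.Helper8

open Cfsg Cfsg.Lie

theorem cCm_all {D : ChevalleyDatum} (hD : D ∈ allData) :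
    ∃ base, CmOK D (getOf D) (nrowOf D) base :=
  all_of (P := fun D => ∃ base, CmOK D (getOf D) (nrowOf D) base) ⟨_, cCm_G2⟩ ⟨_, cCm_B2⟩ ⟨_, cCm_D4⟩
    ⟨_, cCm_F4⟩ ⟨_, cCm_E6⟩ ⟨_, cCm_E7⟩ ⟨_, cCm_E8⟩ D hD

theorem nMat_mul_neg {D : ChevalleyDatum} (hD : D ∈ allData) {F : Type*} [Field F] (r : ℕ) (t : F) :
    D.nMat F r t * D.nMat F r (-t) = 1 := by
  rw [nMat_eq, nMat_eq]
  have h1 : -(-t)⁻¹ = -(-t⁻¹) := by rw [inv_neg]
  rw [h1]
  calc D.x F r t * (D.x F (D.neg r) (-t⁻¹) * D.x F r t) *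
        (D.x F r (-t) * (D.x F (D.neg r) (-(-t⁻¹)) * D.x F r (-t)))
      = D.x F r t * (D.x F (D.neg r) (-t⁻¹) * (D.x F r t * D.x F r (-t)) * D.x F (D.neg r) (-(-t⁻¹))) *
          D.x F r (-t) := by simp only [mul_assoc]
    _ = 1 := by rw [x_mul_neg hD, mul_one, x_mul_neg hD, mul_one, x_mul_neg hD]

/-- Chevalley's commutator formula -/
theorem comm_formula {D : ChevalleyDatum} (hD : D ∈ allData) {F : Type*} [Field F] {r s : ℕ}
    (hr : r < D.nroots) (hs : s < D.nroots) (hrs : s ≠ r) (hneg : s ≠ D.neg r) (t u : F) :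
    D.x F s u * D.x F r t = D.x F r t * D.x F s u * D.wordMat F (D.commWord F r s t u) := by
  obtain ⟨base, hsz, hbase, hpairs⟩ := cCm_all hD
  refine comm_all (treeOf_ok hD) hsz (cW_all hD) (chkPos_all D hD) (F := F) ?_
    (fun p hp => comm_of_base (treeOf_ok hD) hsz (hbase p hp).1 (hbase p hp).2.1 (hbase p hp).2.2)
    hpairs r s hr hs hrs hneg t u
  intro i hi
  refine ⟨D.nMat F (D.simple i) 1, D.nMat F (D.simple i) (-1), nMat_mul_neg hD _ _, ?_⟩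
  intro a ha t
  rw [w9_eq hD hi ha]
  exact n_simple_x hD hi ha t

end Cfsg.Agent.Lib.Helper8
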