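import Cfsg.Agent.Lib.Helper8.FactN
import Cfsg.Agent.Lib.Helper8.Chk.Gr_G2
import Cfsg.Agent.Lib.Helper8.Chk.Gr_B2
import Cfsg.Agent.Lib.Helper8.Chk.Gr_D4
import Cfsg.Agent.Lib.Helper8.Chk.Gr_F4
import Cfsg.Agent.Lib.Helper8.Chk.Gr_E6
import Cfsg.Agent.Lib.Helper8.Chk.Gr_E7
import Cfsg.Agent.Lib.Helper8.Chk.Gr_E8

set_option autoImplicit false

namespace Cfsg.Agent.Lib.Helper8

open Cfsg Cfsg.Lie

theorem cGr_all {D : ChevalleyDatum} (hD : D ∈ allData) : ∀ r < D.nroots, ∀ j < D.rank + D.nroots,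
    chkGrCol D.rank D.nroots (getOf D) r j = true :=
  all_of (P := fun D => ∀ r < D.nroots, ∀ j < D.rank + D.nroots,
    chkGrCol D.rank D.nroots (getOf D) r j = true)
    cGr_G2 cGr_B2 cGr_D4 cGr_F4 cGr_E6 cGr_E7 cGr_E8 D hD

/-- `A_{p_i, ·}` as a function of the code of a basis vector -/
def cartanC (D : ChevalleyDatum) (i j : ℕ) : ℤ := if j < D.rank then 0 else D.cartan i (j - D.rank)

theorem wtc_eq {D : ChevalleyDatum} (hD : D ∈ allData) {i j : ℕ} (hi : i < D.rank)
    (hj : j < D.rank + D.nroots) : wtc D.rank (getOf D) j i = - cartanC D i j := by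
  unfold wtc cartanC
  by_cases h : j < D.rank
  · have hb : Nat.blt j D.rank = true := by rw [Nat.blt_eq]; exact h
    rw [hb, if_pos h]; rfl
  · have hb : Nat.blt j D.rank = false := by rw [← Bool.not_eq_true, Nat.blt_eq]; exact h
    rw [hb, if_neg h, cond_false]
    exact get_hco (treeOf_ok hD) (by omega) hi

/-- the entries of `x_s(t)` respect the grading by `A_{p_i, ·}` -/
theorem cartanC_entry {D : ChevalleyDatum} (hD : D ∈ allData) {i s j : ℕ} (hi : i < D.rank)
    (hs : s < D.nroots) (hj : j < D.rank + D.nroots) :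
    ∀ e ∈ colSpec D s j, e.1 < D.rank + D.nroots →
      cartanC D i e.1 = e.2.1 * D.cartan i s + cartanC D i j := by
  intro e he he1
  have h := cGr_all hD s hs j hj
  have hcol : colFast D.rank D.nroots (getOf D) s j = colSpec D s j := colFast_ok (treeOf_ok hD) s hs j
  rw [chkGrCol, hcol, Bool.or_eq_true] at h
  rcases h with h | h
  · rw [colSpec_single h] at he
    simp only [List.mem_singleton] at he
    subst he
    simp
  · have h1 := (allR_iff _ _).mp ((allL_iff _ _).mp h e he) i hi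
    simp only [decide_eq_true_eq] at h1
    rw [wtc_eq hD hi he1, wtc_eq hD hi hj, wtc_eq hD hi (by omega)] at h1
    have h2 : cartanC D i (D.rank + s) = D.cartan i s := by
      unfold cartanC
      rw [if_neg (by omega), Nat.add_sub_cancel_left]
    rw [h2] at h1
    linarith

/-- `h_p(c) x_s(t) = x_s(c^{A_{p,s}} t) h_p(c)` -/
theorem h_simple_x {D : ChevalleyDatum} (hD : D ∈ allData) {F : Type*} [Field F] {i s : ℕ}
    (hi : i < D.rank) (hs : s < D.nroots) {c : F} (hc : c ≠ 0) (t : F) :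
    D.hMat F (D.simple i) c * D.x F s t =
      D.x F s (c ^ (D.cartan i s) * t) * D.hMat F (D.simple i) c := by
  have h1 : D.hMat F (D.simple i) c =
      Matrix.diagonal (fun k : D.Idx => (fun j => c ^ cartanC D i j) (code k)) := by
    rw [hMat_simple hD hi hc]
    congr 1
    funext k
    rcases k with k | k
    · simp [cartanC, k.2]
    · simp [cartanC]
  rw [h1]
  apply diag_mul_x D (fun j => c ^ cartanC D i j) (c ^ D.cartan i s) hs
  intro j hj e he he1
  rw [cartanC_entry hD hi hs hj e he he1, zpow_add₀ hc, mul_comm (e.2.1 : ℤ), zpow_mul, zpow_natCast]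

end Cfsg.Agent.Lib.Helper8
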