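import Cfsg.Agent.Lib.Helper8.FactR1
import Cfsg.Agent.Lib.Helper8.Chk.N_G2
import Cfsg.Agent.Lib.Helper8.Chk.N_B2
import Cfsg.Agent.Lib.Helper8.Chk.N_D4
import Cfsg.Agent.Lib.Helper8.Chk.N_F4
import Cfsg.Agent.Lib.Helper8.Chk.N_E6
import Cfsg.Agent.Lib.Helper8.Chk.N_E7
import Cfsg.Agent.Lib.Helper8.Chk.N_E8
import Cfsg.Agent.Lib.Helper8.Chk.H_G2
import Cfsg.Agent.Lib.Helper8.Chk.H_B2
import Cfsg.Agent.Lib.Helper8.Chk.H_D4
import Cfsg.Agent.Lib.Helper8.Chk.H_F4
import Cfsg.Agent.Lib.Helper8.Chk.H_E6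
import Cfsg.Agent.Lib.Helper8.Chk.H_E7
import Cfsg.Agent.Lib.Helper8.Chk.H_E8

set_option autoImplicit false

namespace Cfsg.Agent.Lib.Helper8

open Cfsg Cfsg.Lie

theorem cN_all {D : ChevalleyDatum} (hD : D ∈ allData) : ∀ r < D.nroots, ∀ j < D.rank + D.nroots,
    chkNcol D.rank D.nroots (getOf D) r j = true :=
  all_of (P := fun D => ∀ r < D.nroots, ∀ j < D.rank + D.nroots,
    chkNcol D.rank D.nroots (getOf D) r j = true)
    cN_G2 cN_B2 cN_D4 cN_F4 cN_E6 cN_E7 cN_E8 D hD

theorem cH_all {D : ChevalleyDatum} (hD : D ∈ allData) : ∀ r < D.nroots, ∀ j < D.rank + D.nroots,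
    chkHcol D.rank D.nroots (getOf D) r j = true :=
  all_of (P := fun D => ∀ r < D.nroots, ∀ j < D.rank + D.nroots,
    chkHcol D.rank D.nroots (getOf D) r j = true)
    cH_G2 cH_B2 cH_D4 cH_F4 cH_E6 cH_E7 cH_E8 D hD

/-- the Cartan integer `A_{r,s} = 2(r,s)/(r,r)` for arbitrary roots, read off the packed tables -/
noncomputable def AOf (D : ChevalleyDatum) (r s : ℕ) : ℤ := aInt D.rank (getOf D) r s

/-- `h_r(c) = diag(1; c ^ A_{r,s})` -/
theorem hMat_eq_diag {D : ChevalleyDatum} (hD : D ∈ allData) {F : Type*} [Field F] {r : ℕ}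
    (hr : r < D.nroots) {c : F} (hc : c ≠ 0) :
    D.hMat F r c = Matrix.diagonal (Sum.elim (fun _ => (1 : F))
      (fun s : Fin D.nroots => c ^ (AOf D r s))) :=
  hMat_diag (treeOf_ok hD) (neg_lt' hD) (cN_all hD) (cH_all hD) hr hc

/-- comparison of `AOf` with the table of Cartan integers, and with the coroots -/
noncomputable def chkA (D : ChevalleyDatum) (get : ℕ → RootRec) : Bool :=
  allR (fun i => allR (fun s => decide (aInt D.rank get (D.simple i) s = D.cartan i s)) D.nroots) D.rank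

theorem chkA_all : ∀ D ∈ allData, chkA D (getOf D) = true := by
  apply all_of <;> decide +kernel

theorem AOf_simple {D : ChevalleyDatum} (hD : D ∈ allData) {i s : ℕ} (hi : i < D.rank) (hs : s < D.nroots) :
    AOf D (D.simple i) s = D.cartan i s := by
  have h := chkA_all D hD
  simp only [chkA, allR_iff, decide_eq_true_eq] at h
  exact h i hi s hs

def chkSimple (D : ChevalleyDatum) : Bool :=
  (List.range D.rank).all fun i => decide (D.simple i < D.nroots) && decide (D.IsPosRoot (D.simple i))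

theorem chkSimple_all : ∀ D ∈ allData, chkSimple D = true := by decide +kernel

theorem simple_lt {D : ChevalleyDatum} (hD : D ∈ allData) {i : ℕ} (hi : i < D.rank) :
    D.simple i < D.nroots := by
  have h := chkSimple_all D hD
  simp only [chkSimple, List.all_eq_true, List.mem_range, Bool.and_eq_true, decide_eq_true_eq] at h
  exact (h i hi).1

theorem simple_pos {D : ChevalleyDatum} (hD : D ∈ allData) {i : ℕ} (hi : i < D.rank) :
    D.IsPosRoot (D.simple i) := by
  have h := chkSimple_all D hD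
  simp only [chkSimple, List.all_eq_true, List.mem_range, Bool.and_eq_true, decide_eq_true_eq] at h
  exact (h i hi).2

theorem hMat_simple {D : ChevalleyDatum} (hD : D ∈ allData) {F : Type*} [Field F] {i : ℕ}
    (hi : i < D.rank) {c : F} (hc : c ≠ 0) :
    D.hMat F (D.simple i) c = Matrix.diagonal (Sum.elim (fun _ => (1 : F))
      (fun s : Fin D.nroots => c ^ (D.cartan i s))) := by
  rw [hMat_eq_diag hD (simple_lt hD hi) hc]
  congr 1
  funext j
  rcases j with j | s
  · rfl
  · simp only [Sum.elim_inr]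
    rw [AOf_simple hD hi s.2]

theorem hMat_mul {D : ChevalleyDatum} (hD : D ∈ allData) {F : Type*} [Field F] {r : ℕ}
    (hr : r < D.nroots) {t₁ t₂ : F} (h₁ : t₁ ≠ 0) (h₂ : t₂ ≠ 0) :
    D.hMat F r t₁ * D.hMat F r t₂ = D.hMat F r (t₁ * t₂) := by
  rw [hMat_eq_diag hD hr h₁, hMat_eq_diag hD hr h₂, hMat_eq_diag hD hr (mul_ne_zero h₁ h₂),
    Matrix.diagonal_mul_diagonal]
  congr 1
  funext j
  rcases j with j | s
  · simp
  · simp only [Sum.elim_inr]
    rw [mul_zpow]

end Cfsg.Agent.Lib.Helper8
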