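import Cfsg.Agent.Lib.Helper8.FactR3

set_option autoImplicit false

namespace Cfsg.Agent.Lib.Helper8

open Cfsg Cfsg.Lie

/-- `A_{w_i p_j, w_i s} = A_{p_j, s}` -/
noncomputable def chkA2 (D : ChevalleyDatum) (get : ℕ → RootRec) (nrow : ℕ → ℕ) : Bool :=
  allR (fun i => allR (fun j => allR (fun s =>
    decide (aInt D.rank get (w9 (nrow i) (D.simple j)) (w9 (nrow i) s) = D.cartan j s)) D.nroots) D.rank) D.rank

theorem chkA2_all : ∀ D ∈ allData, chkA2 D (getOf D) (nrowOf D) = true := by
  apply all_of <;> decide +kernel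

theorem AOf_reflect_simple {D : ChevalleyDatum} (hD : D ∈ allData) {i j s : ℕ} (hi : i < D.rank)
    (hj : j < D.rank) (hs : s < D.nroots) :
    AOf D (D.reflectRoot i (D.simple j)) (D.reflectRoot i s) = D.cartan j s := by
  have h := chkA2_all D hD
  simp only [chkA2, allR_iff, decide_eq_true_eq] at h
  have := h i hi j hj s hs
  rwa [w9_eq hD hi hs, w9_eq hD hi (simple_lt hD hj)] at this

theorem mul_diag_eq_diag_mul {ι : Type*} [Fintype ι] [DecidableEq ι] {F : Type*} [Field F]
    (M : Matrix ι ι F) (d d' : ι → F) (h : ∀ i j, M i j ≠ 0 → d j = d' i) :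
    M * Matrix.diagonal d = Matrix.diagonal d' * M := by
  ext i j
  rw [Matrix.mul_diagonal, Matrix.diagonal_mul]
  by_cases h0 : M i j = 0
  · rw [h0, zero_mul, mul_zero]
  · rw [h i j h0, mul_comm]

/-- `n_p h_{p_j}(t) = h_{w_p(p_j)}(t) n_p` -/
theorem n_simple_h_simple {D : ChevalleyDatum} (hD : D ∈ allData) {F : Type*} [Field F] {i j : ℕ}
    (hi : i < D.rank) (hj : j < D.rank) {t : F} (ht : t ≠ 0) :
    D.nMat F (D.simple i) 1 * D.hMat F (D.simple j) t =
      D.hMat F (D.reflectRoot i (D.simple j)) t * D.nMat F (D.simple i) 1 := by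
  rw [hMat_simple hD hj ht, hMat_eq_diag hD (reflect_lt hD hi (simple_lt hD hj)) ht]
  apply mul_diag_eq_diag_mul
  intro row col hne
  rcases col with j0 | s
  · rw [nMat_simple_inl hD hi] at hne
    rcases row with j' | s'
    · rfl
    · exfalso
      apply hne
      have h1 : code (Sum.inr s' : D.Idx) ≠ j0.val := by
        have := j0.2; simp only [code_inr]; omega
      have h2 : code (Sum.inr s' : D.Idx) ≠ i := by
        simp only [code_inr]; omega
      rw [if_neg h1, if_neg h2, sub_zero]
  · rw [nMat_simple_inr hD hi] at hne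
    have h1 : code row = D.rank + D.reflectRoot i s := by
      by_contra hh
      exact hne (if_neg hh)
    rcases row with j' | s'
    · exfalso
      have := j'.2
      simp only [code_inl] at h1
      omega
    · simp only [code_inr, Nat.add_left_cancel_iff] at h1
      simp only [Sum.elim_inr]
      rw [h1, AOf_reflect_simple hD hi hj s.2]

end Cfsg.Agent.Lib.Helper8
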