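import Cfsg.Agent.Lib.Helper8.Tabs
import Cfsg.Agent.Lib.Helper8.Chk.R1_G2
import Cfsg.Agent.Lib.Helper8.Chk.R1_B2
import Cfsg.Agent.Lib.Helper8.Chk.R1_D4
import Cfsg.Agent.Lib.Helper8.Chk.R1_F4
import Cfsg.Agent.Lib.Helper8.Chk.R1_E6
import Cfsg.Agent.Lib.Helper8.Chk.R1_E7
import Cfsg.Agent.Lib.Helper8.Chk.R1_E8

set_option autoImplicit false

namespace Cfsg.Agent.Lib.Helper8

open Cfsg Cfsg.Lie

theorem cR1_all {D : ChevalleyDatum} (hD : D ∈ allData) : ∀ r < D.nroots, ∀ j < D.rank + D.nroots,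
    chkR1col (colFast D.rank D.nroots (getOf D)) r j = true :=
  all_of (P := fun D => ∀ r < D.nroots, ∀ j < D.rank + D.nroots,
    chkR1col (colFast D.rank D.nroots (getOf D)) r j = true)
    cR1_G2 cR1_B2 cR1_D4 cR1_F4 cR1_E6 cR1_E7 cR1_E8 D hD

/-- `x_r(t₁) x_r(t₂) = x_r(t₁ + t₂)` -/
theorem x_add {D : ChevalleyDatum} (hD : D ∈ allData) {F : Type*} [Field F] (r : ℕ) (t₁ t₂ : F) :
    D.x F r t₁ * D.x F r t₂ = D.x F r (t₁ + t₂) := by
  by_cases hr : r < D.nroots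
  · exact x_add_of_chk (treeOf_ok hD) (cR1_all hD) hr t₁ t₂
  · simp [ChevalleyDatum.x, hr]

theorem x_zero (D : ChevalleyDatum) (F : Type*) [Field F] (r : ℕ) : D.x F r 0 = 1 := by
  by_cases hr : r < D.nroots
  · simp [ChevalleyDatum.x, hr, xMat_zero]
  · simp [ChevalleyDatum.x, hr]

theorem x_mul_neg {D : ChevalleyDatum} (hD : D ∈ allData) {F : Type*} [Field F] (r : ℕ) (t : F) :
    D.x F r t * D.x F r (-t) = 1 := by
  rw [x_add hD, add_neg_cancel, x_zero]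

theorem x_neg_mul {D : ChevalleyDatum} (hD : D ∈ allData) {F : Type*} [Field F] (r : ℕ) (t : F) :
    D.x F r (-t) * D.x F r t = 1 := by
  rw [x_add hD, neg_add_cancel, x_zero]

/-- `x_r(t)` as an element of the general linear group -/
def xG {D : ChevalleyDatum} (hD : D ∈ allData) (F : Type*) [Field F] (r : ℕ) (t : F) : GL D.Idx F :=
  ⟨D.x F r t, D.x F r (-t), x_mul_neg hD r t, x_neg_mul hD r t⟩

@[simp] theorem xG_coe {D : ChevalleyDatum} (hD : D ∈ allData) (F : Type*) [Field F] (r : ℕ) (t : F) :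
    ((xG hD F r t : GL D.Idx F) : Matrix D.Idx D.Idx F) = D.x F r t := rfl

theorem xG_mul {D : ChevalleyDatum} (hD : D ∈ allData) {F : Type*} [Field F] (r : ℕ) (t₁ t₂ : F) :
    xG hD F r t₁ * xG hD F r t₂ = xG hD F r (t₁ + t₂) := by
  apply Units.ext
  exact x_add hD r t₁ t₂

theorem xG_zero {D : ChevalleyDatum} (hD : D ∈ allData) {F : Type*} [Field F] (r : ℕ) :
    xG hD F r 0 = 1 := by
  apply Units.ext
  exact x_zero D F r

theorem xG_inv {D : ChevalleyDatum} (hD : D ∈ allData) {F : Type*} [Field F] (r : ℕ) (t : F) :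
    (xG hD F r t)⁻¹ = xG hD F r (-t) := by
  rw [inv_eq_iff_mul_eq_one, xG_mul, add_neg_cancel, xG_zero]

theorem eq_xG {D : ChevalleyDatum} (hD : D ∈ allData) {F : Type*} [Field F] {r : ℕ} {t : F}
    {g : GL D.Idx F} (h : (g : Matrix D.Idx D.Idx F) = D.x F r t) : g = xG hD F r t :=
  Units.ext h

end Cfsg.Agent.Lib.Helper8
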