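import Cfsg.Agent.Lib.Helper8.NTabs
import Cfsg.Agent.Lib.Helper8.FactN
import Cfsg.Agent.Lib.Helper8.Chk.R3_G2
import Cfsg.Agent.Lib.Helper8.Chk.R3_B2
import Cfsg.Agent.Lib.Helper8.Chk.R3_D4
import Cfsg.Agent.Lib.Helper8.Chk.R3_F4
import Cfsg.Agent.Lib.Helper8.Chk.R3_E6
import Cfsg.Agent.Lib.Helper8.Chk.R3_E7
import Cfsg.Agent.Lib.Helper8.Chk.R3_E8

set_option autoImplicit false

namespace Cfsg.Agent.Lib.Helper8

open Cfsg Cfsg.Lie

theorem cR3_all {D : ChevalleyDatum} (hD : D ∈ allData) : R3OK D (getOf D) (nrowOf D) :=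
  all_of (P := fun D => R3OK D (getOf D) (nrowOf D)) cR3_G2 cR3_B2 cR3_D4 cR3_F4 cR3_E6 cR3_E7 cR3_E8 D hD

section
variable {D : ChevalleyDatum} (hD : D ∈ allData) {F : Type*} [Field F]
include hD

theorem nSimple_rep (x y : F) {i : ℕ} (hi : i < D.rank) :
    RepOp (l := D.rank) (n := D.nroots) x y
      (opNT D.rank D.nroots (nrowOf D i) (opN1 D.rank D.nroots (getOf D) (D.simple i)))
      (D.nMat F (D.simple i) 1) :=
  opNT_rep x y (nOp1_rep (treeOf_ok hD) (neg_lt' hD) (cN_all hD) x y (simple_lt hD hi)) (cR3_all hD i hi).1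

/-- `n_p x_s(t) = x_{w_p s}(η t) n_p` -/
theorem n_simple_x {i s : ℕ} (hi : i < D.rank) (hs : s < D.nroots) (t : F) :
    D.nMat F (D.simple i) 1 * D.x F s t =
      D.x F (D.reflectRoot i s) ((etaOf D i s : F) * t) * D.nMat F (D.simple i) 1 := by
  have h := n_mul_x_of_chk (treeOf_ok hD) (fun x y : F => nSimple_rep hD x y hi) hs
    (s' := w9 (nrowOf D i) s) (η := e9 (nrowOf D i) s)
    (by rw [w9_eq hD hi hs]; exact reflect_lt hD hi hs) (sgn9_cases _) ((cR3_all hD i hi).2 s hs) t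
  rw [w9_eq hD hi hs] at h
  exact h

theorem nMat_simple_inr {i : ℕ} (hi : i < D.rank) (row : D.Idx) (s : Fin D.nroots) :
    D.nMat F (D.simple i) 1 row (Sum.inr s) =
      if code row = D.rank + D.reflectRoot i s then ((etaOf D i s : ℤ) : F) else 0 := by
  rw [← (nSimple_rep hD (1 : F) 1 hi).1 (Sum.inr s) row, code_inr]
  have h1 : Nat.ble (Nat.succ (D.rank + s.val)) D.rank = false := by
    rw [← Bool.not_eq_true]; intro h; have := Nat.le_of_ble_eq_true h; omega
  have h2 : Nat.ble (Nat.add D.rank D.nroots) (D.rank + s.val) = false := by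
    rw [← Bool.not_eq_true]; intro h; have := Nat.le_of_ble_eq_true h
    have h3 := s.2
    simp only [Nat.add_eq] at this
    omega
  have h3 : Nat.sub (D.rank + s.val) D.rank = s.val := by simp
  rw [opNT, h1, h2, h3]
  simp only [ev, List.map_cons, List.map_nil, List.sum_cons, List.sum_nil, add_zero, Term.val, pow_zero,
    mul_one]
  have h4 : Nat.land (look9 (nrowOf D i) s.val) 255 = D.reflectRoot i s := w9_eq hD hi s.2
  rw [h4]
  simp only [Nat.add_eq, eq_comm]
  rfl

theorem nMat_simple_inl {i : ℕ} (hi : i < D.rank) (row : D.Idx) (j : Fin D.rank) :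
    D.nMat F (D.simple i) 1 row (Sum.inl j) =
      (if code row = j.val then (1 : F) else 0) -
        (if code row = i then ((D.cartan j (D.simple i) : ℤ) : F) else 0) := by
  rw [← (nSimple_rep hD (1 : F) 1 hi).1 (Sum.inl j) row, code_inl]
  have h1 : Nat.ble (Nat.succ j.val) D.rank = true := Nat.ble_eq_true_of_le j.2
  rw [opNT, h1]
  show ev 1 1 (opN1 D.rank D.nroots (getOf D) (D.simple i) j.val) row = _
  rw [eqVec_sound (1 : F) 1 ((chkW_spec2 (cW_all hD i hi)).2.2.2.2 j.val j.2)]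
  simp only [ev, List.map_cons, List.map_nil, List.sum_cons, List.sum_nil, add_zero, Term.val, pow_zero,
    mul_one, Int.cast_one, Int.cast_neg, eq_comm]
  split_ifs <;> ring

end

end Cfsg.Agent.Lib.Helper8
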