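import Cfsg.Agent.Lib.Helper8.ColSpec

set_option autoImplicit false
set_option linter.unusedSimpArgs false
set_option linter.unusedVariables false

namespace Cfsg.Agent.Lib.Helper8

open Cfsg Cfsg.Lie

/-- packed data of a root `r` -/
structure RootRec where
  /-- chain table of `r`: 33 bits for each `s` -/
  row : ℕ
  neg : ℕ
  /-- the column `e_{-r}` without its diagonal entry -/
  negCol : List (ℕ × ℕ × ℤ)
  /-- `-A_{p_i, r}` -/
  hco : List ℤ

inductive RTree where
  | leaf : RootRec → RTree
  | node : RTree → RTree → RTree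

noncomputable def RTree.get (T : RTree) : ℕ → ℕ → RootRec :=
  RTree.rec (motive := fun _ => ℕ → ℕ → RootRec) (fun R _ _ => R)
    (fun _ _ iha ihb r h => bif Nat.blt r h then iha r (h / 2) else ihb (r - h) (h / 2)) T

def dec1 (l e : ℕ) (k : ℕ) : ℕ × ℕ × ℤ :=
  (l + ((e &&& 255) - 1), k, Int.subNatNat ((e >>> 8) &&& 7) 4)

def decode3 (l e3 : ℕ) : List (ℕ × ℕ × ℤ) := bif Nat.beq e3 0 then [] else [dec1 l e3 3]
def decode2 (l e2 : ℕ) : List (ℕ × ℕ × ℤ) :=
  bif Nat.beq e2 0 then [] else dec1 l e2 2 :: decode3 l (e2 >>> 11)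
def decode (l e : ℕ) : List (ℕ × ℕ × ℤ) :=
  bif Nat.beq e 0 then [] else dec1 l e 1 :: decode2 l (e >>> 11)

def look (row s : ℕ) : ℕ := (row >>> (33 * s)) &&& 8589934591

def colE (l : ℕ) (R : RootRec) (r j s : ℕ) : List (ℕ × ℕ × ℤ) :=
  bif Nat.beq s r then [(j, 0, 1)]
  else bif Nat.beq s R.neg then (j, 0, 1) :: R.negCol
  else (j, 0, 1) :: decode l (look R.row s)

def colFast (l n : ℕ) (get : ℕ → RootRec) (r j : ℕ) : List (ℕ × ℕ × ℤ) :=
  bif Nat.blt j l then [(j, 0, 1), (l + r, 1, (get r).hco.getD j 0)]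
  else bif Nat.ble (l + n) j then [] else colE l (get r) r j (j - l)

/-! ### packing -/

def enc : List (ℕ × ℤ) → ℕ
  | [] => 0
  | (u, M) :: L => ((u + 1) ||| ((M + 4).toNat <<< 8)) ||| (enc L <<< 11)

def rowOf : List (ℕ × Array (ℕ × ℤ)) → ℕ
  | [] => 0
  | e :: es => (enc e.2.toList <<< (33 * e.1)) ||| rowOf es

theorem look_or (a b s : ℕ) : look (a ||| b) s = look a s ||| look b s := by
  simp only [look, Nat.shiftRight_or_distrib, Nat.and_or_distrib_right]

theorem look_zero (s : ℕ) : look 0 s = 0 := by simp [look]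

theorem look_shift (c s' s : ℕ) (hc : c < 2 ^ 33) :
    look (c <<< (33 * s')) s = if s' = s then c else 0 := by
  have hm : (8589934591 : ℕ) = 2 ^ 33 - 1 := by norm_num
  unfold look
  rw [hm, Nat.and_two_pow_sub_one_eq_mod]
  rcases lt_trichotomy s' s with h | h | h
  · rw [if_neg (by omega)]
    obtain ⟨d, rfl⟩ : ∃ d, s = s' + (d + 1) := ⟨s - s' - 1, by omega⟩
    rw [Nat.mul_add, Nat.shiftRight_add, Nat.shiftLeft_shiftRight, Nat.shiftRight_eq_div_pow]
    have : c / 2 ^ (33 * (d + 1)) = 0 := by
      apply Nat.div_eq_of_lt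
      calc c < 2 ^ 33 := hc
        _ ≤ 2 ^ (33 * (d + 1)) := Nat.pow_le_pow_right (by norm_num) (by omega)
    rw [this]
  · subst h
    rw [if_pos rfl, Nat.shiftLeft_shiftRight, Nat.mod_eq_of_lt hc]
  · rw [if_neg (by omega)]
    obtain ⟨d, rfl⟩ : ∃ d, s' = s + (d + 1) := ⟨s' - s - 1, by omega⟩
    have h1 : 33 * (s + (d + 1)) = (33 * d + 33) + 33 * s := by ring
    rw [h1, Nat.shiftLeft_add, Nat.shiftLeft_shiftRight, Nat.shiftLeft_add, Nat.shiftLeft_eq _ 33,
      Nat.mul_mod_left]

theorem look_rowOf_none (es : List (ℕ × Array (ℕ × ℤ))) (s : ℕ)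
    (hb : ∀ e ∈ es, enc e.2.toList < 2 ^ 33) (hs : ∀ e ∈ es, e.1 ≠ s) : look (rowOf es) s = 0 := by
  induction es with
  | nil => exact look_zero s
  | cons e es ih =>
    rw [rowOf, look_or, look_shift _ _ _ (hb e (by simp)), if_neg (hs e (by simp)),
      ih (fun e' he' => hb e' (by simp [he'])) (fun e' he' => hs e' (by simp [he']))]
    rfl

theorem decode_zero (l : ℕ) : decode l 0 = [] := rfl

theorem decode_look (l : ℕ) (g : ℕ × Array (ℕ × ℤ) → List (ℕ × ℕ × ℤ)) (es : List (ℕ × Array (ℕ × ℤ)))
    (hk : es.Pairwise (fun a b => a.1 ≠ b.1)) (hb : ∀ e ∈ es, enc e.2.toList < 2 ^ 33)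
    (hd : ∀ e ∈ es, decode l (enc e.2.toList) = g e) (s : ℕ) :
    decode l (look (rowOf es) s) = (es.filter (fun e => e.1 = s)).flatMap g := by
  induction es with
  | nil => simp [rowOf, look_zero, decode_zero]
  | cons e es ih =>
    rw [List.pairwise_cons] at hk
    have hb' : ∀ e' ∈ es, enc e'.2.toList < 2 ^ 33 := fun e' he' => hb e' (by simp [he'])
    rw [rowOf, look_or, look_shift _ _ _ (hb e (by simp))]
    by_cases h : e.1 = s
    · have hnone : ∀ e' ∈ es, e'.1 ≠ s := fun e' he' hh => hk.1 e' he' (by rw [h, hh])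
      rw [if_pos h, look_rowOf_none es s hb' hnone, Nat.or_zero, hd e (by simp)]
      have hf : es.filter (fun e => decide (e.1 = s)) = [] := by
        rw [List.filter_eq_nil_iff]
        intro a ha
        simpa using hnone a ha
      rw [List.filter_cons_of_pos (by simpa using h), hf]
      simp
    · rw [if_neg h, Nat.zero_or, ih hk.2 hb' (fun e' he' => hd e' (by simp [he']))]
      rw [List.filter_cons_of_neg (by simpa using h)]

/-- keys strictly increasing, starting at least at `lo` -/
def incr (lo : ℕ) : List (ℕ × Array (ℕ × ℤ)) → Bool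
  | [] => true
  | e :: es => Nat.ble lo e.1 && incr (e.1 + 1) es

theorem incr_spec (es : List (ℕ × Array (ℕ × ℤ))) (lo : ℕ) (h : incr lo es = true) :
    (∀ e ∈ es, lo ≤ e.1) ∧ es.Pairwise (fun a b => a.1 ≠ b.1) := by
  induction es generalizing lo with
  | nil => simp
  | cons e es ih =>
    rw [incr, Bool.and_eq_true] at h
    have h1 : lo ≤ e.1 := Nat.le_of_ble_eq_true h.1
    obtain ⟨h2, h3⟩ := ih _ h.2
    constructor
    · intro e' he'
      rcases List.mem_cons.mp he' with rfl | he'
      · exact h1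
      · have := h2 e' he'; omega
    · rw [List.pairwise_cons]
      refine ⟨fun e' he' => ?_, h3⟩
      have := h2 e' he'; omega

def specOf (l : ℕ) (e : ℕ × Array (ℕ × ℤ)) : List (ℕ × ℕ × ℤ) :=
  e.2.toList.zipIdx.map fun q => (l + q.1.1, q.2 + 1, q.1.2)

/-- check of one packed record against the tables -/
def chkRec (D : ChevalleyDatum) (R : RootRec) (r : ℕ) : Bool :=
  let es := (D.chain.getD r #[]).toList
  decide (R.neg = D.negIdx.getD r 0) &&
  (decide (R.negCol = (D.rank + r, 2, -1) ::
      (List.range D.rank).map fun i => (i, 1, (D.coroot.getD r #[]).getD i 0)) &&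
  (decide (R.hco = (List.range D.rank).map fun j => -((D.cartanSR.getD j #[]).getD r 0)) &&
  (Nat.beq R.row (rowOf es) && (incr 0 es &&
    es.all fun e => Nat.blt (enc e.2.toList) 8589934592 &&
      decide (decode D.rank (enc e.2.toList) = specOf D.rank e)))))

noncomputable def fastOK (D : ChevalleyDatum) (T : RTree) (h : ℕ) : Bool :=
  allR (fun r => chkRec D (T.get r h) r) D.nroots

theorem colFast_ok {D : ChevalleyDatum} {T : RTree} {h : ℕ} (hok : fastOK D T h = true) :
    ColOK D (colFast D.rank D.nroots (fun r => T.get r h)) := by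
  intro r hr j
  have h1 := (allR_iff _ _).mp hok r hr
  simp only [chkRec, Bool.and_eq_true, decide_eq_true_eq, List.all_eq_true] at h1
  obtain ⟨hneg, hnegCol, hhco, hrow, hincr, hall⟩ := h1
  have hrow' := Nat.eq_of_beq_eq_true hrow
  unfold colFast colSpec
  by_cases hj : j < D.rank
  · have hb : Nat.blt j D.rank = true := by rw [Nat.blt_eq]; exact hj
    rw [hb, cond_true, if_pos hj, hhco]
    congr 3
    simp [List.getD, hj]
  · have hb : Nat.blt j D.rank = false := by
      rw [← Bool.not_eq_true, Nat.blt_eq]; exact hj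
    rw [hb, cond_false, if_neg hj]
    by_cases hj2 : D.rank + D.nroots ≤ j
    · have hb2 : Nat.ble (D.rank + D.nroots) j = true := Nat.ble_eq_true_of_le hj2
      rw [hb2, cond_true, if_pos hj2]
    · have hb2 : Nat.ble (D.rank + D.nroots) j = false := by
        rw [← Bool.not_eq_true]; intro hh; exact hj2 (Nat.le_of_ble_eq_true hh)
      rw [hb2, cond_false, if_neg hj2]
      unfold colE
      by_cases hs : j - D.rank = r
      · have hb3 : Nat.beq (j - D.rank) r = true := by rw [hs]; exact Nat.beq_refl r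
        rw [hb3, cond_true, if_pos hs]
      · have hb3 : Nat.beq (j - D.rank) r = false := by
          rw [← Bool.not_eq_true]; intro hh; exact hs (Nat.eq_of_beq_eq_true hh)
        rw [hb3, cond_false, if_neg hs, hneg]
        by_cases hs2 : j - D.rank = D.negIdx.getD r 0
        · have hb4 : Nat.beq (j - D.rank) (D.negIdx.getD r 0) = true := by
            rw [← hs2]; exact Nat.beq_refl _
          rw [hb4, cond_true, if_pos hs2, hnegCol]
        · have hb4 : Nat.beq (j - D.rank) (D.negIdx.getD r 0) = false := by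
            rw [← Bool.not_eq_true]; intro hh; exact hs2 (Nat.eq_of_beq_eq_true hh)
          rw [hb4, cond_false, if_neg hs2, hrow']
          congr 1
          rw [decode_look D.rank (specOf D.rank) _ (incr_spec _ _ hincr).2
            (fun e he => by
              have := (hall e he).1
              rw [Nat.blt_eq] at this
              exact this)
            (fun e he => (hall e he).2)]
          rfl

theorem get_neg {D : ChevalleyDatum} {T : RTree} {h : ℕ} (hok : fastOK D T h = true) {r : ℕ}
    (hr : r < D.nroots) : (T.get r h).neg = D.neg r := by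
  have h1 := (allR_iff _ _).mp hok r hr
  simp only [chkRec, Bool.and_eq_true, decide_eq_true_eq, List.all_eq_true] at h1
  exact h1.1

theorem get_hco {D : ChevalleyDatum} {T : RTree} {h : ℕ} (hok : fastOK D T h = true) {r : ℕ}
    (hr : r < D.nroots) {i : ℕ} (hi : i < D.rank) : (T.get r h).hco.getD i 0 = - D.cartan i r := by
  have h1 := (allR_iff _ _).mp hok r hr
  simp only [chkRec, Bool.and_eq_true, decide_eq_true_eq, List.all_eq_true] at h1
  rw [h1.2.2.1]
  simp [List.getD, hi, ChevalleyDatum.cartan]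

end Cfsg.Agent.Lib.Helper8
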