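import Cfsg.Agent.Lib.Helper8.FieldMap
import Cfsg.Agent.Lib.Helper8.DiagCard2
import Cfsg.Prelude.Def_ChevAutomorphisms

set_option autoImplicit false
set_option linter.unusedSectionVars false

namespace Cfsg.Agent.Lib.Helper8

open Cfsg Cfsg.Lie

section
variable {D : ChevalleyDatum} (hD : D ∈ allData) {F : Type*} [Field F]
include hD

theorem xG_inj {r : ℕ} (hr : r < D.nroots) {a b : F} (h : xG hD F r a = xG hD F r b) : a = b := by
  have h1 : xG hD F r (a + -b) = 1 := by
    rw [← xG_mul, ← xG_inv, h, mul_inv_cancel]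
  have := (xG_eq_one_iff hD hr _).mp h1
  rwa [add_neg_eq_zero] at this

/-- an automorphism acting on the root elements through `σ` is the entrywise map -/
theorem fieldAut_eq_glMap {φ : ↥(D.group F) ≃* ↥(D.group F)} {σ : F ≃+* F}
    (hσ : ∀ (g : ↥(D.group F)) (r : ℕ) (t : F), r < D.nroots →
      ((g : GL D.Idx F) : Matrix D.Idx D.Idx F) = D.x F r t →
        ((φ g : GL D.Idx F) : Matrix D.Idx D.Idx F) = D.x F r (σ t)) :
    ∀ (g : GL D.Idx F) (hg : g ∈ D.group F), ((φ ⟨g, hg⟩ : ↥(D.group F)) : GL D.Idx F) =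
      glMap D (σ : F →+* F) g := by
  intro g hg
  induction hg using Subgroup.closure_induction with
  | mem x hx =>
    have hx0 := hx
    obtain ⟨r, t, hx'⟩ := hx
    have h1 : (x : Matrix D.Idx D.Idx F) = D.x F r.1 t := by
      rw [hx', ChevalleyDatum.x, dif_pos r.2]
    have h2 := hσ ⟨x, Subgroup.subset_closure hx0⟩ r.1 t r.2 h1
    rw [eq_xG hD h2]
    have h3 : x = xG hD F r.1 t := eq_xG hD h1
    rw [h3, glMap_xG]
    rfl
  | one =>
    have : (⟨1, Subgroup.one_mem _⟩ : ↥(D.group F)) = 1 := rfl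
    rw [this, map_one, map_one]
    rfl
  | mul x y hx hy ihx ihy =>
    have : (⟨x * y, Subgroup.mul_mem _ hx hy⟩ : ↥(D.group F)) = ⟨x, hx⟩ * ⟨y, hy⟩ := rfl
    rw [this, map_mul, map_mul, Subgroup.coe_mul, ihx, ihy]
  | inv x hx ihx =>
    have : (⟨x⁻¹, Subgroup.inv_mem _ hx⟩ : ↥(D.group F)) = (⟨x, hx⟩ : ↥(D.group F))⁻¹ := rfl
    rw [this, map_inv, map_inv, Subgroup.coe_inv, ihx]

theorem fieldAut_pow {φ : MulAut ↥(D.group F)} {σ : F ≃+* F}
    (h : ∀ (g : GL D.Idx F) (hg : g ∈ D.group F), ((φ ⟨g, hg⟩ : ↥(D.group F)) : GL D.Idx F) =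
      glMap D (σ : F →+* F) g) (n : ℕ) :
    ∀ (g : GL D.Idx F) (hg : g ∈ D.group F), (((φ ^ n) ⟨g, hg⟩ : ↥(D.group F)) : GL D.Idx F) =
      glMap D ((σ ^ n : F ≃+* F) : F →+* F) g := by
  induction n with
  | zero =>
    intro g hg
    rw [pow_zero, pow_zero]
    apply Units.ext
    ext i j
    rfl
  | succ n ih =>
    intro g hg
    rw [pow_succ, pow_succ, MulAut.mul_apply]
    have h1 := ih _ (φ ⟨g, hg⟩).2
    have h2 : (⟨((φ ⟨g, hg⟩ : ↥(D.group F)) : GL D.Idx F), (φ ⟨g, hg⟩).2⟩ : ↥(D.group F)) = φ ⟨g, hg⟩ := rfl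
    rw [h2] at h1
    rw [h1, h g hg]
    apply Units.ext
    ext i j
    rfl

theorem fieldAut_orderOf {φ : MulAut ↥(D.group F)} {σ : F ≃+* F}
    (h : ∀ (g : GL D.Idx F) (hg : g ∈ D.group F), ((φ ⟨g, hg⟩ : ↥(D.group F)) : GL D.Idx F) =
      glMap D (σ : F →+* F) g) : orderOf φ = orderOf σ := by
  rw [orderOf_eq_orderOf_iff]
  intro n
  have hp := fieldAut_pow hD h n
  constructor
  · intro e
    ext t
    have hr := simple_lt hD (rank_pos hD)
    have h1 := hp _ (xG_mem_group hD (D.simple 0) t)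
    rw [e, glMap_xG] at h1
    exact (xG_inj hD hr h1).symm
  · intro e
    ext ⟨g, hg⟩
    rw [hp g hg, e]
    rfl

end

/-- a copy of `Fin n` carrying no algebraic structure -/
structure FinBox (n : ℕ) : Type where
  /-- the underlying element -/
  val : Fin n

/-- the obvious bijection -/
def FinBox.equiv (n : ℕ) : FinBox n ≃ Fin n := ⟨FinBox.val, FinBox.mk, fun _ => rfl, fun _ => rfl⟩

instance (n : ℕ) : Fintype (FinBox n) := Fintype.ofEquiv _ (FinBox.equiv n).symm

theorem FinBox.card (n : ℕ) : Fintype.card (FinBox n) = n := by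
  rw [Fintype.card_congr (FinBox.equiv n), Fintype.card_fin]

/-- the fixed field of a field automorphism of prime order, as a field in `Type` -/
theorem exists_fixed_field {F : Type*} [Field F] [Fintype F] (σ : F ≃+* F) :
    ∃ (F₀ : Type) (_ : Field F₀) (_ : Fintype F₀) (ι : F₀ →+* F),
      Fintype.card F = Fintype.card F₀ ^ orderOf σ ∧ ∀ t : F, t ∈ ι.range ↔ σ t = t := by
  classical
  let S := Subgroup.zpowers σ
  haveI : Finite (F ≃+* F) := Finite.of_injective (fun f : F ≃+* F => (f : F → F)) DFunLike.coe_injective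
  letI : Fintype S := Fintype.ofFinite S
  let K₀ := FixedPoints.subfield S F
  letI : Fintype K₀ := Fintype.ofFinite K₀
  have h1 : Module.finrank K₀ F = orderOf σ := by
    rw [FixedPoints.finrank_eq_card S F, ← Nat.card_eq_fintype_card, Nat.card_zpowers]
  have h2 : Fintype.card F = Fintype.card K₀ ^ orderOf σ := by
    rw [← h1]; exact Module.card_eq_pow_finrank
  have hmem : ∀ t : F, t ∈ K₀ ↔ σ t = t := by
    intro t
    constructor
    · intro ht
      exact ht ⟨σ, Subgroup.mem_zpowers σ⟩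
    · intro ht
      rintro ⟨s, hs⟩
      show s t = t
      obtain ⟨k, rfl⟩ := Subgroup.mem_zpowers_iff.mp hs
      have hstab : σ ∈ MulAction.stabilizer (F ≃+* F) t := ht
      exact Subgroup.zpow_mem _ hstab k
  let e : FinBox (Fintype.card K₀) ≃ K₀ := (FinBox.equiv _).trans (Fintype.equivFin K₀).symm
  letI fld : Field (FinBox (Fintype.card K₀)) := e.field
  let ρ : FinBox (Fintype.card K₀) ≃+* K₀ := e.ringEquiv
  refine ⟨FinBox (Fintype.card K₀), fld, inferInstance, K₀.subtype.comp (ρ : FinBox (Fintype.card K₀) →+* K₀), ?_, ?_⟩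
  · rw [FinBox.card]; exact h2
  · intro t
    rw [← hmem t]
    constructor
    · rintro ⟨a, rfl⟩
      exact (ρ a).2
    · intro ht
      exact ⟨ρ.symm ⟨t, ht⟩, by simp⟩

section
variable {D : ChevalleyDatum} (hD : D ∈ allData) {F : Type*} [Field F] [Fintype F]
include hD

theorem tauHom_ker_eq_bot (h : 1 * Nat.card ↥(D.diagonalSubgroup F) = (Fintype.card F - 1) ^ D.rank) :
    (tauHom D F).ker = ⊥ := by
  classical
  apply Subgroup.eq_bot_of_card_eq
  have hc : Nat.card Fˣ = Fintype.card F - 1 := by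
    rw [Nat.card_eq_fintype_card, Fintype.card_units]
  have h1 := Subgroup.card_mul_index (tauHom D F).ker
  rw [Subgroup.index_ker, tauHom_range hD, Nat.card_fun, hc, Nat.card_eq_fintype_card (α := Fin D.rank),
    Fintype.card_fin, ← h, one_mul] at h1
  have hpos : 0 < Nat.card ↥(D.diagonalSubgroup F) := Nat.card_pos
  exact Nat.eq_of_mul_eq_mul_right hpos (by rw [h1, one_mul])

theorem fieldAut_fixed (hinj : (tauHom D F).ker = ⊥) (φ : MulAut ↥(D.group F)) (hφ : D.IsFieldAut φ) :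
    ∃ (F₀ : Type) (_ : Field F₀) (_ : Fintype F₀), Fintype.card F = Fintype.card F₀ ^ orderOf φ ∧
      Nonempty (↥((MulEquiv.toMonoidHom φ).eqLocus (MonoidHom.id ↥(D.group F))) ≃* ↥(D.group F₀)) := by
  obtain ⟨σ, hσ⟩ := hφ
  have hΦ := fieldAut_eq_glMap hD hσ
  obtain ⟨F₀, fld, ft, ι, hcard, hι⟩ := exists_fixed_field σ
  refine ⟨F₀, fld, ft, ?_, ?_⟩
  · rw [fieldAut_orderOf hD hΦ]; exact hcard
  · have e1 : ((MulEquiv.toMonoidHom φ).eqLocus (MonoidHom.id ↥(D.group F))).map (D.group F).subtype =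
        fixGroup hD (σ : F →+* F) := by
      ext x
      constructor
      · rintro ⟨⟨g, hg⟩, hfix, rfl⟩
        have h1 : φ ⟨g, hg⟩ = ⟨g, hg⟩ := hfix
        apply fixed_mem_fixGroup hD _ hinj hg
        rw [← hΦ g hg, h1]
      · intro hx
        have hg := fixGroup_le_group hD _ hx
        refine ⟨⟨x, hg⟩, ?_, rfl⟩
        show φ ⟨x, hg⟩ = ⟨x, hg⟩
        apply Subtype.ext
        rw [hΦ x hg]
        exact fixGroup_fixed hD _ hx
    have e2 : (D.group F₀).map (glMap D ι) = fixGroup hD (σ : F →+* F) := by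
      rw [map_group hD, fixGroup]
      congr 1
      ext g
      constructor
      · rintro ⟨r, t, ht, rfl⟩
        exact ⟨r, t, (hι t).mp ht, rfl⟩
      · rintro ⟨r, t, ht, rfl⟩
        exact ⟨r, t, (hι t).mpr ht, rfl⟩
    exact ⟨((Subgroup.equivMapOfInjective _ (D.group F).subtype (Subgroup.subtype_injective _)).trans
      (MulEquiv.subgroupCongr (e1.trans e2.symm))).trans
      (Subgroup.equivMapOfInjective _ (glMap D ι) (glMap_injective ι)).symm⟩

end

end Cfsg.Agent.Lib.Helper8
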