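import Cfsg.Agent.Lib.Helper8.UwCard
import Cfsg.Agent.Lib.Helper8.DiagCard

set_option autoImplicit false
set_option linter.unusedSectionVars false

namespace Cfsg.Agent.Lib.Helper8

open Cfsg Cfsg.Lie

/-! ### the map of general linear groups induced by a homomorphism of fields -/

theorem x_map (D : ChevalleyDatum) {F₁ F₂ : Type*} [Field F₁] [Field F₂] (f : F₁ →+* F₂) (r : ℕ) (t : F₁) :
    (D.x F₁ r t).map f = D.x F₂ r (f t) := by
  unfold ChevalleyDatum.x
  by_cases hr : r < D.nroots
  · rw [dif_pos hr, dif_pos hr]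
    ext row col
    rw [Matrix.map_apply]
    unfold ChevalleyDatum.xMat
    simp only [Matrix.of_apply]
    rcases col with i | s
    · rcases row with i' | u
      · simp only [apply_ite f, map_one, map_zero]
      · simp only [apply_ite f, map_zero, map_mul, map_neg, map_intCast]
    · by_cases h1 : s = ⟨r, hr⟩
      · simp only [h1, if_true]
        rcases row with i' | u
        · simp
        · simp only [apply_ite f, map_one, map_zero]
      · simp only [h1, if_false]
        by_cases h2 : s.val = D.negIdx.getD r 0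
        · simp only [h2, if_true]
          rcases row with i' | u
          · simp only [map_mul, map_intCast]
          · simp only [apply_ite f, map_one, map_zero, map_neg, map_pow]
        · simp only [h2, if_false]
          rcases row with i' | u
          · simp
          · simp only [map_add, apply_ite f, map_one, map_zero, map_list_sum, List.map_map]
            congr 2
            apply List.map_congr_left
            intro km _
            simp
  · rw [dif_neg hr, dif_neg hr]
    simp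

section
variable {D : ChevalleyDatum} (hD : D ∈ allData) {F₁ F₂ : Type*} [Field F₁] [Field F₂] (f : F₁ →+* F₂)
include hD

/-- the entrywise map -/
abbrev glMap (D : ChevalleyDatum) {F₁ F₂ : Type*} [Field F₁] [Field F₂] (f : F₁ →+* F₂) :
    GL D.Idx F₁ →* GL D.Idx F₂ := Matrix.GeneralLinearGroup.map f

theorem glMap_xG (r : ℕ) (t : F₁) : glMap D f (xG hD F₁ r t) = xG hD F₂ r (f t) := by
  apply Units.ext
  show (D.x F₁ r t).map f = _
  rw [x_map]
  rfl

theorem glMap_nG (r : ℕ) (t : F₁) : glMap D f (nG hD F₁ r t) = nG hD F₂ r (f t) := by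
  unfold nG
  rw [map_mul, map_mul, glMap_xG, glMap_xG, map_neg, map_inv₀]

theorem glMap_hG (r : ℕ) (t : F₁) : glMap D f (hG hD F₁ r t) = hG hD F₂ r (f t) := by
  unfold hG
  rw [map_mul, glMap_nG, glMap_nG, map_neg, map_one]

theorem glMap_nS (i : ℕ) : glMap D f (nS hD F₁ i) = nS hD F₂ i := by
  rw [glMap_nG, map_one]

theorem glMap_nR (L : List ℕ) : glMap D f (nR hD F₁ L) = nR hD F₂ L := by
  induction L with
  | nil => exact map_one _
  | cons i L ih =>
    show glMap D f (nR hD F₁ L * nS hD F₁ i) = nR hD F₂ L * nS hD F₂ i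
    rw [map_mul, ih, glMap_nS]

omit hD in
theorem glMap_injective : Function.Injective (glMap D f) := by
  intro a b h
  apply Units.ext
  have h1 : (a : Matrix D.Idx D.Idx F₁).map f = (b : Matrix D.Idx D.Idx F₁).map f := congrArg Units.val h
  ext i j
  have := congrFun (congrFun h1 i) j
  exact f.injective this

theorem group_eq_closure (F : Type*) [Field F] :
    D.group F = Subgroup.closure {g : GL D.Idx F | ∃ (r : ℕ) (t : F), g = xG hD F r t} := by
  apply le_antisymm
  · rw [ChevalleyDatum.group, Subgroup.closure_le]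
    rintro g ⟨r, t, hg⟩
    refine Subgroup.subset_closure ⟨r.1, t, ?_⟩
    apply Units.ext
    rw [hg, xG_coe, ChevalleyDatum.x, dif_pos r.2]
  · rw [Subgroup.closure_le]
    rintro g ⟨r, t, rfl⟩
    exact xG_mem_group hD r t

/-- the image of the group over the small field -/
theorem map_group : (D.group F₁).map (glMap D f) =
    Subgroup.closure {g : GL D.Idx F₂ | ∃ (r : ℕ) (t : F₂), t ∈ f.range ∧ g = xG hD F₂ r t} := by
  rw [group_eq_closure hD, MonoidHom.map_closure]
  congr 1
  ext g
  constructor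
  · rintro ⟨_, ⟨r, t, rfl⟩, rfl⟩
    exact ⟨r, f t, ⟨t, rfl⟩, glMap_xG hD f r t⟩
  · rintro ⟨r, _, ⟨t, rfl⟩, rfl⟩
    exact ⟨_, ⟨r, t, rfl⟩, glMap_xG hD f r t⟩

end

/-! ### fixed points of a field automorphism -/

section
variable {D : ChevalleyDatum} (hD : D ∈ allData) {F : Type*} [Field F] (σ : F →+* F)
include hD

/-- the subgroup generated by the root elements with fixed parameters -/
def fixGroup : Subgroup (GL D.Idx F) :=
  Subgroup.closure {g : GL D.Idx F | ∃ (r : ℕ) (t : F), σ t = t ∧ g = xG hD F r t}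

theorem xG_mem_fixGroup (r : ℕ) {t : F} (ht : σ t = t) : xG hD F r t ∈ fixGroup hD σ :=
  Subgroup.subset_closure ⟨r, t, ht, rfl⟩

theorem nG_mem_fixGroup (r : ℕ) {t : F} (ht : σ t = t) : nG hD F r t ∈ fixGroup hD σ := by
  unfold nG
  exact Subgroup.mul_mem _ (Subgroup.mul_mem _ (xG_mem_fixGroup hD σ r ht)
    (xG_mem_fixGroup hD σ _ (by rw [map_neg, map_inv₀, ht]))) (xG_mem_fixGroup hD σ r ht)

theorem hG_mem_fixGroup (r : ℕ) {t : F} (ht : σ t = t) : hG hD F r t ∈ fixGroup hD σ := by
  unfold hG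
  exact Subgroup.mul_mem _ (nG_mem_fixGroup hD σ r ht) (nG_mem_fixGroup hD σ r (by rw [map_neg, map_one]))

theorem nR_mem_fixGroup (L : List ℕ) : nR hD F L ∈ fixGroup hD σ := by
  induction L with
  | nil => exact Subgroup.one_mem _
  | cons i L ih => exact Subgroup.mul_mem _ ih (nG_mem_fixGroup hD σ _ (map_one σ))

theorem fixGroup_fixed {g : GL D.Idx F} (hg : g ∈ fixGroup hD σ) : glMap D σ g = g := by
  induction hg using Subgroup.closure_induction with
  | mem x hx =>
    obtain ⟨r, t, ht, rfl⟩ := hx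
    rw [glMap_xG, ht]
  | one => exact map_one _
  | mul x y _ _ hx hy => rw [map_mul, hx, hy]
  | inv x _ hx => rw [map_inv, hx]

theorem fixGroup_le_group : fixGroup hD σ ≤ D.group F := by
  rw [fixGroup, Subgroup.closure_le]
  rintro g ⟨r, t, -, rfl⟩
  exact xG_mem_group hD r t

theorem glMap_mem_posU {u : GL D.Idx F} (hu : u ∈ D.posUnipotent F) : glMap D σ u ∈ D.posUnipotent F := by
  have : D.posUnipotent F ≤ (D.posUnipotent F).comap (glMap D σ) := by
    rw [ChevalleyDatum.posUnipotent, Subgroup.closure_le]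
    rintro g ⟨r, t, hr, hg⟩
    rw [eq_xG hD hg]
    show glMap D σ (xG hD F r t) ∈ D.posUnipotent F
    rw [glMap_xG]
    exact xG_mem_posU hD hr _
  exact this hu

theorem glMap_mem_diag {h : GL D.Idx F} (hh : h ∈ D.diagonalSubgroup F) :
    glMap D σ h ∈ D.diagonalSubgroup F := by
  have : D.diagonalSubgroup F ≤ (D.diagonalSubgroup F).comap (glMap D σ) := by
    rw [ChevalleyDatum.diagonalSubgroup, Subgroup.closure_le]
    rintro g ⟨r, t, hr, ht, hg⟩
    rw [eq_hG hD hg]
    show glMap D σ (hG hD F r t) ∈ D.diagonalSubgroup F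
    rw [glMap_hG]
    exact hG_mem_diag hD hr (by rw [Ne, map_eq_zero]; exact ht)
  exact this hh

theorem glMap_mem_borel {b : GL D.Idx F} (hb : b ∈ D.borelSubgroup F) : glMap D σ b ∈ D.borelSubgroup F := by
  obtain ⟨u, hu, h, hh, rfl⟩ := mem_borel hD hb
  rw [map_mul]
  exact Subgroup.mul_mem _ (posU_le_borel hD (glMap_mem_posU hD σ hu)) (diag_le_borel hD (glMap_mem_diag hD σ hh))

theorem glMap_mem_Uw {n : GL D.Idx F} (hn : n ∈ D.monomialSubgroup F) {u : GL D.Idx F} (hu : u ∈ Uw D F n) :
    glMap D σ u ∈ Uw D F n := by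
  obtain ⟨π, hπ⟩ := exists_act hD hn
  have : Uw D F n ≤ (Uw D F n).comap (glMap D σ) := by
    apply Uw_le hD hπ
    intro r hr hneg t
    show glMap D σ (xG hD F r t) ∈ Uw D F n
    rw [glMap_xG]
    exact xG_mem_Uw hD hπ hr hneg _
  exact this hu

/-- fixed elements of `U_w⁻` -/
theorem Uw_fixed_mem {L : List ℕ} (hL : Red D L) {u : GL D.Idx F} (hu : u ∈ Uw D F (nR hD F L))
    (hfix : glMap D σ u = u) : u ∈ fixGroup hD σ := by
  induction L generalizing u with
  | nil =>
    have : u ∈ Uw D F 1 := hu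
    rw [Uw_one hD, Subgroup.mem_bot] at this
    rw [this]
    exact Subgroup.one_mem _
  | cons p L ih =>
    obtain ⟨hp, hpos, hred⟩ := hL
    have hbij := stepMap_bijective (F := F) hD hred hp hpos
    obtain ⟨⟨⟨c, hc⟩, t⟩, e⟩ := hbij.2 ⟨u, hu⟩
    have e1 : (nS hD F p)⁻¹ * c * nS hD F p * xG hD F (D.simple p) t = u := congrArg Subtype.val e
    have hc' := glMap_mem_Uw hD σ (nR_mem_mono hD L hred.lt) hc
    have e2 : stepMap (F := F) hD hred.lt hp hpos (⟨glMap D σ c, hc'⟩, σ t) =
        stepMap (F := F) hD hred.lt hp hpos (⟨c, hc⟩, t) := by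
      apply Subtype.ext
      show (nS hD F p)⁻¹ * glMap D σ c * nS hD F p * xG hD F (D.simple p) (σ t) =
        (nS hD F p)⁻¹ * c * nS hD F p * xG hD F (D.simple p) t
      rw [e1, ← hfix, ← e1, map_mul, map_mul, map_mul, map_inv, glMap_nS, glMap_xG]
    have e3 := hbij.1 e2
    have e4 : glMap D σ c = c := congrArg (fun z => (z.1 : GL D.Idx F)) e3
    have e5 : σ t = t := congrArg Prod.snd e3
    rw [← e1]
    have hn := nG_mem_fixGroup hD σ (D.simple p) (map_one σ)
    exact Subgroup.mul_mem _ (Subgroup.mul_mem _ (Subgroup.mul_mem _ (Subgroup.inv_mem _ hn) (ih hred hc e4)) hn)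
      (xG_mem_fixGroup hD σ _ e5)

theorem posU_fixed_mem {u : GL D.Idx F} (hu : u ∈ D.posUnipotent F) (hfix : glMap D σ u = u) :
    u ∈ fixGroup hD σ := by
  rw [← Uw_n0 hD] at hu
  exact Uw_fixed_mem hD σ (w0_red hD) hu hfix

/-- the action on the torus -/
theorem glMap_tG (c : ℕ → Fˣ) : glMap D σ (tG D c) = tG D (fun i => Units.map σ.toMonoidHom (c i)) := by
  rw [tG_eq_prod hD, tG_eq_prod hD, map_list_prod, List.map_map]
  congr 1
  apply List.map_congr_left
  intro i _
  simp only [Function.comp]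
  rw [glMap_hG]
  rfl

/-- the fixed points, when the parametrisation of the torus is injective -/
theorem fixed_mem_fixGroup (hinj : (tauHom D F).ker = ⊥) {g : GL D.Idx F} (hg : g ∈ D.group F)
    (hfix : glMap D σ g = g) : g ∈ fixGroup hD σ := by
  obtain ⟨b, hb, L, hL, u, hu, rfl⟩ := normal_form_exists hD hg
  have hm := nR_mem_mono (F := F) hD L hL.lt
  rw [map_mul, map_mul, glMap_nR] at hfix
  obtain ⟨hb1, hu1⟩ := normal_form_unique hD (glMap_mem_borel hD σ hb) hb (glMap_mem_Uw hD σ hm hu) hu hfix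
  refine Subgroup.mul_mem _ (Subgroup.mul_mem _ ?_ (nR_mem_fixGroup hD σ L)) (Uw_fixed_mem hD σ hL hu hu1)
  obtain ⟨u1, hu1', h, hh, rfl⟩ := mem_borel hD hb
  rw [map_mul] at hb1
  have e2 : u1⁻¹ * glMap D σ u1 = h * (glMap D σ h)⁻¹ := by
    have : glMap D σ u1 = u1 * h * (glMap D σ h)⁻¹ := by rw [← hb1]; group
    rw [this]; group
  have h3 : u1⁻¹ * glMap D σ u1 ∈ D.posUnipotent F ⊓ D.diagonalSubgroup F :=
    ⟨Subgroup.mul_mem _ (Subgroup.inv_mem _ hu1') (glMap_mem_posU hD σ hu1'), by
      rw [e2]; exact Subgroup.mul_mem _ hh (Subgroup.inv_mem _ (glMap_mem_diag hD σ hh))⟩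
  rw [posU_inf_diag hD, Subgroup.mem_bot] at h3
  have h4 : glMap D σ u1 = u1 := by
    have := congrArg (fun z => u1 * z) h3
    simpa using this
  have h5 : glMap D σ h = h := by
    rw [h4] at hb1
    exact mul_left_cancel hb1
  refine Subgroup.mul_mem _ (posU_fixed_mem hD σ hu1' h4) ?_
  rw [← tauHom_range hD] at hh
  obtain ⟨c, rfl⟩ := hh
  have h6 : tauHom D F (fun i => Units.map σ.toMonoidHom (c i)) = tauHom D F c := by
    rw [← h5]
    show tG D _ = glMap D σ (tG D (extC c))
    rw [glMap_tG hD]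
    apply Units.ext
    apply tMat_congr
    intro i hi
    unfold extC
    rw [dif_pos hi, dif_pos hi]
  have h7 : (fun i => Units.map σ.toMonoidHom (c i)) = c :=
    (MonoidHom.ker_eq_bot_iff _).mp hinj h6
  show tG D (extC c) ∈ _
  rw [tG_eq_prod hD]
  apply Subgroup.list_prod_mem
  intro x hx
  simp only [List.mem_map, List.mem_range] at hx
  obtain ⟨i, hi, rfl⟩ := hx
  apply hG_mem_fixGroup
  unfold extC
  rw [dif_pos hi]
  exact congrArg Units.val (congrFun h7 ⟨i, hi⟩)

end

end Cfsg.Agent.Lib.Helper8
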