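import Cfsg.Agent.Lib.Helper8.Centr
import Cfsg.Agent.Lib.Helper8.GraphData

set_option autoImplicit false
set_option linter.unusedSectionVars false

namespace Cfsg.Agent.Lib.Helper8

open Cfsg Cfsg.Lie

/-! ### signed permutation matrices given by a table -/

def gImg (tab : List (ℕ × ℤ)) (j : ℕ) : ℕ × ℤ := tab.getD j (0, 0)

def opG (tab : List (ℕ × ℤ)) (m j : ℕ) : List Term :=
  bif Nat.blt j m then [⟨(gImg tab j).1, 0, 0, (gImg tab j).2⟩] else []

def gMat (l n : ℕ) (tab : List (ℕ × ℤ)) (F : Type*) [Field F] : Matrix (Fin l ⊕ Fin n) (Fin l ⊕ Fin n) F :=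
  fun i j => if (gImg tab (code j)).1 = code i then (((gImg tab (code j)).2 : ℤ) : F) else 0

theorem opG_rep {F : Type*} [Field F] (x y : F) (l n : ℕ) (tab : List (ℕ × ℤ)) :
    RepOp x y (opG tab (l + n)) (gMat l n tab F) := by
  constructor
  · intro j i
    have : Nat.blt (code j) (l + n) = true := by rw [Nat.blt_eq]; exact code_lt j
    simp [opG, this, ev, gMat, Term.val]
  · intro j hj
    have : Nat.blt j (l + n) = false := by
      rw [← Bool.not_eq_true, Nat.blt_eq]; omega
    rw [opG, this, cond_false, ev_nil]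

theorem repV_id {F : Type*} [Field F] (x y : F) (l n : ℕ) :
    RepV (l := l) (n := n) x y (fun L => L) (1 : Matrix (Fin l ⊕ Fin n) (Fin l ⊕ Fin n) F) := by
  intro L
  rw [Matrix.one_mulVec]

/-- the root permutation and the signs of a table -/
def gRho (l : ℕ) (tab : List (ℕ × ℤ)) (r : ℕ) : ℕ := (gImg tab (l + r)).1 - l
def gEps (l : ℕ) (tab : List (ℕ × ℤ)) (r : ℕ) : ℤ := (gImg tab (l + r)).2

noncomputable def chkGcol (l n : ℕ) (get : ℕ → RootRec) (tab : List (ℕ × ℤ)) (r j : ℕ) : Bool :=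
  eqVec (applyOp (opG tab (l + n)) (applyX (colFast l n get) r (pwMono mX) (unit j)))
    (applyX (colFast l n get) (gRho l tab r) (pwMono ⟨0, 1, 0, gEps l tab r⟩) (applyOp (opG tab (l + n)) (unit j)))

noncomputable def chkG (l n : ℕ) (get : ℕ → RootRec) (tab : List (ℕ × ℤ)) : Bool :=
  allR (fun r => Nat.blt (gRho l tab r) n && allR (fun j => chkGcol l n get tab r j) (l + n)) n

noncomputable def chkGinv (m : ℕ) (tab tab' : List (ℕ × ℤ)) : Bool :=
  allR (fun j => eqVec (applyOp (opG tab m) (applyOp (opG tab' m) (unit j))) (unit j)) m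

theorem gMat_mul_inv {F : Type*} [Field F] {l n : ℕ} {tab tab' : List (ℕ × ℤ)}
    (h : chkGinv (l + n) tab tab' = true) : gMat l n tab F * gMat l n tab' F = 1 :=
  eq_of_checkV (l := l) (n := n) (0 : F) 0 (((opG_rep 0 0 l n tab).toV).comp 0 0 ((opG_rep 0 0 l n tab').toV))
    (repV_id 0 0 l n) ((allR_iff _ _).mp h)

theorem gMat_x {D : ChevalleyDatum} (hD : D ∈ allData) {tab : List (ℕ × ℤ)}
    (h : chkG D.rank D.nroots (getOf D) tab = true) {F : Type*} [Field F] {r : ℕ} (hr : r < D.nroots) (t : F) :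
    gMat D.rank D.nroots tab F * D.x F r t =
      D.x F (gRho D.rank tab r) (((gEps D.rank tab r : ℤ) : F) * t) * gMat D.rank D.nroots tab F := by
  have hcol := colFast_ok (treeOf_ok hD)
  have h1 := (allR_iff _ _).mp h r hr
  rw [Bool.and_eq_true, Nat.blt_eq, allR_iff] at h1
  exact eq_of_checkV (l := D.rank) (n := D.nroots) t 0
    (((opG_rep t 0 _ _ tab).toV).comp t 0 (applyX_rep hcol t 0 hr (fun k => by rw [pval_pwMono, mX_val])))
    ((applyX_rep hcol t 0 h1.1 (fun k => by rw [pval_pwMono]; simp [Term.val])).comp t 0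
      ((opG_rep t 0 _ _ tab).toV)) h1.2

theorem chkG_E6 : chkG chevE6.rank chevE6.nroots (getOf chevE6) gTabE6 = true := by decide +kernel
theorem chkG_D4a : chkG chevD4.rank chevD4.nroots (getOf chevD4) gTabD4a = true := by decide +kernel
theorem chkG_D4b : chkG chevD4.rank chevD4.nroots (getOf chevD4) gTabD4b = true := by decide +kernel

theorem chkGinv_E6 : chkGinv (chevE6.rank + chevE6.nroots) gTabE6 gInvE6 = true := by decide +kernel
theorem chkGinv_E6' : chkGinv (chevE6.rank + chevE6.nroots) gInvE6 gTabE6 = true := by decide +kernel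
theorem chkGinv_D4a : chkGinv (chevD4.rank + chevD4.nroots) gTabD4a gInvD4a = true := by decide +kernel
theorem chkGinv_D4a' : chkGinv (chevD4.rank + chevD4.nroots) gInvD4a gTabD4a = true := by decide +kernel
theorem chkGinv_D4b : chkGinv (chevD4.rank + chevD4.nroots) gTabD4b gInvD4b = true := by decide +kernel
theorem chkGinv_D4b' : chkGinv (chevD4.rank + chevD4.nroots) gInvD4b gTabD4b = true := by decide +kernel

end Cfsg.Agent.Lib.Helper8
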