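import Cfsg.Agent.Lib.Helper8.GraphAut
import Cfsg.Agent.Lib.Helper8.FieldMap

set_option autoImplicit false
set_option linter.unusedSectionVars false

namespace Cfsg.Agent.Lib.Helper8

open Cfsg Cfsg.Lie

/-- the checked data of a graph automorphism -/
structure GOk (D : ChevalleyDatum) (tab tab' : List (ℕ × ℤ)) : Prop where
  chk : chkG D.rank D.nroots (getOf D) tab = true
  chk' : chkG D.rank D.nroots (getOf D) tab' = true
  inv : chkGinv (D.rank + D.nroots) tab tab' = true
  inv' : chkGinv (D.rank + D.nroots) tab' tab = true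

theorem GOk.symm {D : ChevalleyDatum} {tab tab' : List (ℕ × ℤ)} (h : GOk D tab tab') : GOk D tab' tab :=
  ⟨h.chk', h.chk, h.inv', h.inv⟩

theorem gOk_E6 : GOk chevE6 gTabE6 gInvE6 := ⟨chkG_E6, by decide +kernel, chkGinv_E6, chkGinv_E6'⟩
theorem gOk_D4a : GOk chevD4 gTabD4a gInvD4a := ⟨chkG_D4a, by decide +kernel, chkGinv_D4a, chkGinv_D4a'⟩
theorem gOk_D4b : GOk chevD4 gTabD4b gInvD4b := ⟨chkG_D4b, by decide +kernel, chkGinv_D4b, chkGinv_D4b'⟩

section
variable {D : ChevalleyDatum} (hD : D ∈ allData) {tab tab' : List (ℕ × ℤ)} (h : GOk D tab tab')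
  (F : Type*) [Field F]

/-- the signed permutation matrix as an element of `GL` -/
noncomputable def gG : GL D.Idx F :=
  ⟨gMat D.rank D.nroots tab F, gMat D.rank D.nroots tab' F, gMat_mul_inv h.inv, gMat_mul_inv h.inv'⟩

theorem gG_inv : (gG h F)⁻¹ = gG h.symm F := rfl

variable {F}
include hD h

theorem gRho_lt {r : ℕ} (hr : r < D.nroots) : gRho D.rank tab r < D.nroots := by
  have h1 := (allR_iff _ _).mp h.chk r hr
  rw [Bool.and_eq_true, Nat.blt_eq] at h1
  exact h1.1

theorem gG_conj_x {r : ℕ} (hr : r < D.nroots) (t : F) :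
    gG h F * xG hD F r t * (gG h F)⁻¹ = xG hD F (gRho D.rank tab r) (((gEps D.rank tab r : ℤ) : F) * t) := by
  rw [mul_inv_eq_iff_eq_mul]
  apply Units.ext
  rw [Units.val_mul, Units.val_mul, xG_coe, xG_coe]
  exact gMat_x hD h.chk hr t

theorem gG_conj_mem {g : GL D.Idx F} (hg : g ∈ D.group F) : gG h F * g * (gG h F)⁻¹ ∈ D.group F := by
  rw [group_eq_closure hD] at hg
  induction hg using Subgroup.closure_induction with
  | mem g hg =>
    obtain ⟨r, t, rfl⟩ := hg
    by_cases hr : r < D.nroots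
    · rw [gG_conj_x hD h hr]
      exact xG_mem_group hD _ _
    · have : xG hD F r t = 1 := by
        apply Units.ext
        rw [xG_coe, ChevalleyDatum.x, dif_neg hr]; rfl
      rw [this, mul_one, mul_inv_cancel]
      exact one_mem _
  | one => rw [mul_one, mul_inv_cancel]; exact one_mem _
  | mul a b _ _ ha hb =>
    have : gG h F * (a * b) * (gG h F)⁻¹ = (gG h F * a * (gG h F)⁻¹) * (gG h F * b * (gG h F)⁻¹) := by group
    rw [this]; exact mul_mem ha hb
  | inv a _ ha =>
    have : gG h F * a⁻¹ * (gG h F)⁻¹ = (gG h F * a * (gG h F)⁻¹)⁻¹ := by group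
    rw [this]; exact inv_mem ha

theorem gG_map_group : (D.group F).map (MulAut.conj (gG h F)).toMonoidHom = D.group F := by
  apply le_antisymm
  · rintro _ ⟨g, hg, rfl⟩
    exact gG_conj_mem hD h hg
  · intro g hg
    refine ⟨(gG h F)⁻¹ * g * gG h F, ?_, ?_⟩
    · have := gG_conj_mem hD h.symm hg
      rw [← gG_inv, inv_inv] at this
      exact this
    · show gG h F * ((gG h F)⁻¹ * g * gG h F) * (gG h F)⁻¹ = g
      group

/-- the graph automorphism of the Chevalley group -/
noncomputable def graphAut : ↥(D.group F) ≃* ↥(D.group F) :=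
  ((MulAut.conj (gG h F)).subgroupMap (D.group F)).trans (MulEquiv.subgroupCongr (gG_map_group hD h))

theorem graphAut_coe (g : ↥(D.group F)) :
    ((graphAut hD h g : ↥(D.group F)) : GL D.Idx F) = gG h F * g * (gG h F)⁻¹ := rfl

theorem graphAut_x (g : ↥(D.group F)) {r : ℕ} (hr : r < D.nroots) (t : F) {s : ℕ}
    (hs : gRho D.rank tab r = s) (he : gEps D.rank tab r = 1)
    (hg : ((g : GL D.Idx F) : Matrix D.Idx D.Idx F) = D.x F r t) :
    ((graphAut hD h g : GL D.Idx F) : Matrix D.Idx D.Idx F) = D.x F s t := by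
  have h1 : (g : GL D.Idx F) = xG hD F r t := Units.ext (by rw [hg, xG_coe])
  rw [graphAut_coe, h1, gG_conj_x hD h hr, hs, he, xG_coe, Int.cast_one, one_mul]

end

end Cfsg.Agent.Lib.Helper8
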