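import Cfsg.Agent.Lib.Helper8.IdN

set_option autoImplicit false
set_option linter.unusedSimpArgs false
set_option linter.unusedVariables false

namespace Cfsg.Agent.Lib.Helper8

open Cfsg Cfsg.Lie

/-! ### the grading: `diag(χ) x_s(t) = x_s(χ(s) t) diag(χ)` -/

/-- `-A_{p_i, ·}` as a function of the code of a basis vector -/
def wtc (l : ℕ) (get : ℕ → RootRec) (j i : ℕ) : ℤ :=
  bif Nat.blt j l then 0 else (get (j - l)).hco.getD i 0

noncomputable def chkGrCol (l n : ℕ) (get : ℕ → RootRec) (s j : ℕ) : Bool :=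
  isSingle (colFast l n get s j) ||
    allL (fun e : ℕ × ℕ × ℤ => allR (fun i =>
      decide (wtc l get e.1 i = e.2.1 * wtc l get (l + s) i + wtc l get j i)) l) (colFast l n get s j)

noncomputable def chkGr (l n : ℕ) (get : ℕ → RootRec) (lo len : ℕ) : Bool :=
  allR (fun k => allR (fun j => chkGrCol l n get (lo + k) j) (l + n)) len

theorem chkGr_spec {l n : ℕ} {get : ℕ → RootRec} {lo len : ℕ} (h : chkGr l n get lo len = true)
    {r : ℕ} (h1 : lo ≤ r) (h2 : r < lo + len) {j : ℕ} (hj : j < l + n) : chkGrCol l n get r j = true := by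
  have := (allR_iff _ _).mp ((allR_iff _ _).mp h (r - lo) (by omega)) j hj
  rwa [Nat.add_sub_cancel' h1] at this

/-- the general statement on gradings -/
theorem diag_mul_x (D : ChevalleyDatum) {F : Type*} [Field F] (dc : ℕ → F) (κ : F) {s : ℕ}
    (hs : s < D.nroots)
    (h : ∀ j < D.rank + D.nroots, ∀ e ∈ colSpec D s j, e.1 < D.rank + D.nroots →
      dc e.1 = κ ^ e.2.1 * dc j) (t : F) :
    Matrix.diagonal (fun i : D.Idx => dc (code i)) * D.x F s t =
      D.x F s (κ * t) * Matrix.diagonal (fun i : D.Idx => dc (code i)) := by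
  ext i j
  rw [Matrix.mul_diagonal, Matrix.diagonal_mul, ChevalleyDatum.x, ChevalleyDatum.x, dif_pos hs, dif_pos hs,
    xMat_colSpec, xMat_colSpec]
  have hj := h (code j) (code_lt j)
  generalize colSpec D s (code j) = C at hj
  induction C with
  | nil => simp [colVal]
  | cons e C ih =>
    obtain ⟨a, k, z⟩ := e
    rw [colVal_cons, colVal_cons, mul_add, add_mul, ih (fun e he => hj e (List.mem_cons_of_mem _ he))]
    congr 1
    by_cases ha : a = code i
    · rw [if_pos ha, if_pos ha]
      have := hj (a, k, z) (List.mem_cons_self) (by rw [ha]; exact code_lt i)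
      simp only at this
      rw [← ha, this, mul_pow]
      ring
    · rw [if_neg ha, if_neg ha, mul_zero, zero_mul]

end Cfsg.Agent.Lib.Helper8
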