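import Cfsg.Agent.Lib.Helper8.IdR1

set_option autoImplicit false
set_option linter.unusedSimpArgs false
set_option linter.unusedVariables false

namespace Cfsg.Agent.Lib.Helper8

open Cfsg Cfsg.Lie

/-! ### more tools on operators -/

section tools
variable {F : Type*} [Field F] {l n : ℕ}

/-- specialisation of both variables to a sign `ε` -/
def Term.spec (ε : ℤ) (τ : Term) : Term := ⟨τ.j, 0, 0, τ.z * ε ^ (τ.a + τ.b)⟩

theorem ev_map_spec (x y : F) (ε : ℤ) (L : List Term) :
    (ev x y (L.map (Term.spec ε)) : Fin l ⊕ Fin n → F) = ev (ε : F) (ε : F) L := by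
  funext i
  simp only [ev, List.map_map]
  congr 1
  apply List.map_congr_left
  intro τ _
  simp only [Function.comp, Term.spec, Term.val, pow_zero, mul_one, Int.cast_mul, Int.cast_pow, pow_add]
  split_ifs <;> ring

noncomputable def specOp (ε : ℤ) (op : ℕ → List Term) (j : ℕ) : List Term :=
  pushMap (Term.spec ε) (op j) []

theorem specOp_rep (x y : F) (ε : ℤ) {op : ℕ → List Term}
    {M : Matrix (Fin l ⊕ Fin n) (Fin l ⊕ Fin n) F} (h : RepOp (ε : F) (ε : F) op M) :
    RepOp x y (specOp ε op) M := by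
  constructor
  · intro j i
    rw [specOp, pushMap_eq, List.append_nil, ev_map_spec, h.1]
  · intro j hj
    rw [specOp, pushMap_eq, List.append_nil, ev_map_spec, h.2 j hj]

end tools

/-! ### the monomial operator of `n_r(c)`, with `x = c`, `y = c⁻¹` -/

def sgnPow (p : ℕ) : ℤ := bif Nat.beq (p % 2) 0 then 1 else -1

/-- generic column: `Cq`, `Cp` are the chains of `r` and `-r` through `s` -/
def nGen (Cq Cp : List (ℕ × ℕ × ℤ)) (j : ℕ) : List Term :=
  let q := Cq.length
  let p := Cp.length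
  bif Nat.beq p q then [⟨j, 0, 0, sgnPow p⟩]
  else bif Nat.blt p q then
    (let e := Cq.getD (q - p - 1) (0, 0, 0); [⟨e.1, q - p, 0, sgnPow p * Int.sign e.2.2⟩])
  else (let e := Cp.getD (p - q - 1) (0, 0, 0); [⟨e.1, 0, p - q, sgnPow p * Int.sign e.2.2⟩])

def nE (l : ℕ) (R R' : RootRec) (r j s : ℕ) : List Term :=
  bif Nat.beq s r then [⟨l + R.neg, 0, 2, -1⟩]
  else bif Nat.beq s R.neg then [⟨l + r, 2, 0, -1⟩]
  else nGen (decode l (look R.row s)) (decode l (look R'.row s)) j

noncomputable def nH (R : RootRec) (j : ℕ) : List Term :=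
  ⟨j, 0, 0, 1⟩ :: pushMap (fun e : ℕ × ℕ × ℤ => (⟨e.1, 0, 0, R.hco.getD j 0 * e.2.2⟩ : Term)) R.negCol.tail []

noncomputable def opN (l n : ℕ) (get : ℕ → RootRec) (r j : ℕ) : List Term :=
  bif Nat.blt j l then nH (get r) j
  else bif Nat.ble (l + n) j then [] else nE l (get r) (get (get r).neg) r j (j - l)

theorem opN_out (l n : ℕ) (get : ℕ → RootRec) (r j : ℕ) (hj : l + n ≤ j) : opN l n get r j = [] := by
  have h1 : Nat.blt j l = false := by
    rw [← Bool.not_eq_true, Nat.blt_eq]; omega
  have h2 : Nat.ble (l + n) j = true := Nat.ble_eq_true_of_le hj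
  rw [opN, h1, h2]; rfl

/-- `-y` -/
def mNY : Term := ⟨0, 0, 1, -1⟩
theorem mNY_val {F : Type*} [Field F] (x y : F) : mNY.val x y = -y := by simp [mNY, Term.val]

noncomputable def chkNcol (l n : ℕ) (get : ℕ → RootRec) (r j : ℕ) : Bool :=
  eqVecR (applyX (colFast l n get) r (pwMono mX) (applyX (colFast l n get) (get r).neg (pwMono mNY)
    (applyX (colFast l n get) r (pwMono mX) (unit j)))) (opN l n get r j)

noncomputable def chkN (l n : ℕ) (get : ℕ → RootRec) (lo len : ℕ) : Bool :=
  allR (fun k => allR (fun j => chkNcol l n get (lo + k) j) (l + n)) len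

theorem chkN_spec {l n : ℕ} {get : ℕ → RootRec} {lo len : ℕ} (h : chkN l n get lo len = true)
    {r : ℕ} (h1 : lo ≤ r) (h2 : r < lo + len) {j : ℕ} (hj : j < l + n) : chkNcol l n get r j = true := by
  have := (allR_iff _ _).mp ((allR_iff _ _).mp h (r - lo) (by omega)) j hj
  rwa [Nat.add_sub_cancel' h1] at this

theorem nMat_eq (D : ChevalleyDatum) (F : Type*) [Field F] (r : ℕ) (c : F) :
    D.nMat F r c = D.x F r c * (D.x F (D.neg r) (-c⁻¹) * D.x F r c) := by
  simp [ChevalleyDatum.nMat, ChevalleyDatum.wordMat, ChevalleyDatum.nWord]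

theorem hMat_eq (D : ChevalleyDatum) (F : Type*) [Field F] (r : ℕ) (c : F) :
    D.hMat F r c = D.nMat F r c * D.nMat F r (-1) := by
  simp [ChevalleyDatum.hMat, ChevalleyDatum.nMat, ChevalleyDatum.wordMat, ChevalleyDatum.hWord]

/-- the operator `opN` computes `n_r(c)` -/
theorem nOp_rep {D : ChevalleyDatum} {T : RTree} {h : ℕ} (hok : fastOK D T h = true)
    (hneg : ∀ r < D.nroots, D.neg r < D.nroots)
    (hc : ∀ r < D.nroots, ∀ j < D.rank + D.nroots,
      chkNcol D.rank D.nroots (fun r => T.get r h) r j = true)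
    {F : Type*} [Field F] {r : ℕ} (hr : r < D.nroots) {c : F} (hc0 : c ≠ 0) :
    RepOp (l := D.rank) (n := D.nroots) c c⁻¹ (opN D.rank D.nroots (fun r => T.get r h) r)
      (D.nMat F r c) := by
  have hcol := colFast_ok hok
  rw [nMat_eq]
  have h1 := hc r hr
  simp only [chkNcol, get_neg hok hr] at h1
  exact repOp_of_checkVR c c⁻¹ (mul_inv_cancel₀ hc0)
    ((applyX_rep hcol _ _ hr (fun k => by rw [pval_pwMono, mX_val])).comp _ _
      ((applyX_rep hcol _ _ (hneg r hr) (fun k => by rw [pval_pwMono, mNY_val])).comp _ _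
        (applyX_rep hcol _ _ hr (fun k => by rw [pval_pwMono, mX_val]))))
    h1 (opN_out _ _ _ _)

/-! specialisations `c = 1` and `c = -1` -/

def Term.spec1 (τ : Term) : Term := ⟨τ.j, 0, 0, τ.z⟩
def Term.specM (τ : Term) : Term := ⟨τ.j, 0, 0, τ.z * sgnPow (τ.a + τ.b)⟩

theorem sgnPow_eq (p : ℕ) : sgnPow p = (-1) ^ p := by
  unfold sgnPow
  rcases Nat.even_or_odd p with h | h
  · have : p % 2 = 0 := Nat.even_iff.mp h
    rw [this, h.neg_one_pow]; rfl
  · have : p % 2 = 1 := Nat.odd_iff.mp h
    rw [this, h.neg_one_pow]; rfl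

theorem spec1_eq (τ : Term) : τ.spec1 = τ.spec 1 := by simp [Term.spec1, Term.spec]
theorem specM_eq (τ : Term) : τ.specM = τ.spec (-1) := by simp [Term.specM, Term.spec, sgnPow_eq]

noncomputable def spec1Op (op : ℕ → List Term) (j : ℕ) : List Term := pushMap Term.spec1 (op j) []
noncomputable def specMOp (op : ℕ → List Term) (j : ℕ) : List Term := pushMap Term.specM (op j) []

theorem spec1Op_eq (op : ℕ → List Term) : spec1Op op = specOp 1 op := by
  funext j
  simp only [spec1Op, specOp]
  congr 1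
  funext τ; exact spec1_eq τ

theorem specMOp_eq (op : ℕ → List Term) : specMOp op = specOp (-1) op := by
  funext j
  simp only [specMOp, specOp]
  congr 1
  funext τ; exact specM_eq τ

/-- the operator of `n_r = n_r(1)` (no variables) -/
noncomputable def opN1 (l n : ℕ) (get : ℕ → RootRec) (r : ℕ) : ℕ → List Term := spec1Op (opN l n get r)
/-- the operator of `n_r(-1)` (no variables) -/
noncomputable def opNM (l n : ℕ) (get : ℕ → RootRec) (r : ℕ) : ℕ → List Term := specMOp (opN l n get r)

theorem nOp1_rep {D : ChevalleyDatum} {T : RTree} {h : ℕ} (hok : fastOK D T h = true)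
    (hneg : ∀ r < D.nroots, D.neg r < D.nroots)
    (hc : ∀ r < D.nroots, ∀ j < D.rank + D.nroots,
      chkNcol D.rank D.nroots (fun r => T.get r h) r j = true)
    {F : Type*} [Field F] (x y : F) {r : ℕ} (hr : r < D.nroots) :
    RepOp (l := D.rank) (n := D.nroots) x y (opN1 D.rank D.nroots (fun r => T.get r h) r)
      (D.nMat F r 1) := by
  rw [opN1, spec1Op_eq]
  apply specOp_rep
  have := nOp_rep hok hneg hc (F := F) hr (c := 1) one_ne_zero
  simpa using this

theorem nOpM_rep {D : ChevalleyDatum} {T : RTree} {h : ℕ} (hok : fastOK D T h = true)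
    (hneg : ∀ r < D.nroots, D.neg r < D.nroots)
    (hc : ∀ r < D.nroots, ∀ j < D.rank + D.nroots,
      chkNcol D.rank D.nroots (fun r => T.get r h) r j = true)
    {F : Type*} [Field F] (x y : F) {r : ℕ} (hr : r < D.nroots) :
    RepOp (l := D.rank) (n := D.nroots) x y (opNM D.rank D.nroots (fun r => T.get r h) r)
      (D.nMat F r (-1)) := by
  rw [opNM, specMOp_eq]
  apply specOp_rep
  have := nOp_rep hok hneg hc (F := F) hr (c := -1) (neg_ne_zero.mpr one_ne_zero)
  have h2 : ((-1 : F))⁻¹ = -1 := by rw [inv_neg, inv_one]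
  rw [h2] at this
  simpa using this

/-! ### the diagonal operator of `h_r(c)` -/

def hE (l : ℕ) (R R' : RootRec) (r j s : ℕ) : List Term :=
  bif Nat.beq s r then [⟨j, 2, 0, 1⟩]
  else bif Nat.beq s R.neg then [⟨j, 0, 2, 1⟩]
  else
    (let q := (decode l (look R.row s)).length
     let p := (decode l (look R'.row s)).length
     [⟨j, p - q, q - p, 1⟩])

def opH (l n : ℕ) (get : ℕ → RootRec) (r j : ℕ) : List Term :=
  bif Nat.blt j l then [⟨j, 0, 0, 1⟩]
  else bif Nat.ble (l + n) j then [] else hE l (get r) (get (get r).neg) r j (j - l)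

theorem opH_out (l n : ℕ) (get : ℕ → RootRec) (r j : ℕ) (hj : l + n ≤ j) : opH l n get r j = [] := by
  have h1 : Nat.blt j l = false := by
    rw [← Bool.not_eq_true, Nat.blt_eq]; omega
  have h2 : Nat.ble (l + n) j = true := Nat.ble_eq_true_of_le hj
  rw [opH, h1, h2]; rfl

noncomputable def chkHcol (l n : ℕ) (get : ℕ → RootRec) (r j : ℕ) : Bool :=
  eqVecR (applyOp (opN l n get r) (opNM l n get r j)) (opH l n get r j)

noncomputable def chkH (l n : ℕ) (get : ℕ → RootRec) (lo len : ℕ) : Bool :=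
  allR (fun k => allR (fun j => chkHcol l n get (lo + k) j) (l + n)) len

theorem chkH_spec {l n : ℕ} {get : ℕ → RootRec} {lo len : ℕ} (h : chkH l n get lo len = true)
    {r : ℕ} (h1 : lo ≤ r) (h2 : r < lo + len) {j : ℕ} (hj : j < l + n) : chkHcol l n get r j = true := by
  have := (allR_iff _ _).mp ((allR_iff _ _).mp h (r - lo) (by omega)) j hj
  rwa [Nat.add_sub_cancel' h1] at this

theorem hOp_rep {D : ChevalleyDatum} {T : RTree} {h : ℕ} (hok : fastOK D T h = true)
    (hneg : ∀ r < D.nroots, D.neg r < D.nroots)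
    (hc : ∀ r < D.nroots, ∀ j < D.rank + D.nroots,
      chkNcol D.rank D.nroots (fun r => T.get r h) r j = true)
    (hh : ∀ r < D.nroots, ∀ j < D.rank + D.nroots,
      chkHcol D.rank D.nroots (fun r => T.get r h) r j = true)
    {F : Type*} [Field F] {r : ℕ} (hr : r < D.nroots) {c : F} (hc0 : c ≠ 0) :
    RepOp (l := D.rank) (n := D.nroots) c c⁻¹ (opH D.rank D.nroots (fun r => T.get r h) r)
      (D.hMat F r c) := by
  rw [hMat_eq]
  have hN := nOp_rep hok hneg hc hr hc0
  have hM := nOpM_rep hok hneg hc c c⁻¹ hr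
  constructor
  · intro j i
    rw [← eqVecR_sound c c⁻¹ (mul_inv_cancel₀ hc0) (hh r hr _ (code_lt j)), applyOp_sound _ _ hN,
      Matrix.mul_apply, Matrix.mulVec, dotProduct]
    apply Finset.sum_congr rfl
    intro k _
    rw [hM.1]
  · intro j hj
    rw [opH_out _ _ _ _ _ hj, ev_nil]

/-- the integer `A_{r,s}` read off the packed tables -/
def aInt (l : ℕ) (get : ℕ → RootRec) (r s : ℕ) : ℤ :=
  bif Nat.beq s r then 2
  else bif Nat.beq s (get r).neg then -2
  else Int.subNatNat (decode l (look (get (get r).neg).row s)).length (decode l (look (get r).row s)).length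

theorem pow_sub_zpow {F : Type*} [Field F] {c : F} (hc0 : c ≠ 0) (p q : ℕ) :
    c ^ (p - q) * c⁻¹ ^ (q - p) = c ^ ((p : ℤ) - (q : ℤ)) := by
  rcases le_total p q with h | h
  · obtain ⟨d, rfl⟩ := Nat.exists_eq_add_of_le h
    simp only [Nat.sub_eq_zero_of_le (Nat.le_add_right _ _), Nat.add_sub_cancel_left, pow_zero, one_mul]
    have : ((p : ℤ) - ((p + d : ℕ) : ℤ)) = -(d : ℤ) := by push_cast; ring
    rw [this, zpow_neg, zpow_natCast, inv_pow]
  · obtain ⟨d, rfl⟩ := Nat.exists_eq_add_of_le h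
    simp only [Nat.sub_eq_zero_of_le (Nat.le_add_right _ _), Nat.add_sub_cancel_left, pow_zero, mul_one]
    have : (((q + d : ℕ) : ℤ) - (q : ℤ)) = (d : ℤ) := by push_cast; ring
    rw [this, zpow_natCast]

/-- `h_r(c)` is the diagonal matrix with entries `1` and `c ^ A_{r,s}` -/
theorem hMat_diag {D : ChevalleyDatum} {T : RTree} {h : ℕ} (hok : fastOK D T h = true)
    (hneg : ∀ r < D.nroots, D.neg r < D.nroots)
    (hc : ∀ r < D.nroots, ∀ j < D.rank + D.nroots,
      chkNcol D.rank D.nroots (fun r => T.get r h) r j = true)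
    (hh : ∀ r < D.nroots, ∀ j < D.rank + D.nroots,
      chkHcol D.rank D.nroots (fun r => T.get r h) r j = true)
    {F : Type*} [Field F] {r : ℕ} (hr : r < D.nroots) {c : F} (hc0 : c ≠ 0) :
    D.hMat F r c = Matrix.diagonal (Sum.elim (fun _ => (1 : F))
      (fun s : Fin D.nroots => c ^ (aInt D.rank (fun r => T.get r h) r s))) := by
  have hrep := hOp_rep hok hneg hc hh hr hc0
  ext i j
  rw [← hrep.1 j i]
  rcases j with j0 | s
  · have h1 : Nat.blt (j0 : ℕ) D.rank = true := by rw [Nat.blt_eq]; exact j0.2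
    rw [code_inl, opH, h1, cond_true,
      ev_single c c⁻¹ (Sum.inl j0 : Fin D.rank ⊕ Fin D.nroots) _ rfl, Matrix.diagonal_apply]
    by_cases hij : i = Sum.inl j0
    · subst hij; simp [Term.val]
    · rw [Pi.single_eq_of_ne hij, if_neg hij]
  · have h1 : Nat.blt (D.rank + s.val) D.rank = false := by
      rw [← Bool.not_eq_true, Nat.blt_eq]; omega
    have h2 : Nat.ble (D.rank + D.nroots) (D.rank + s.val) = false := by
      rw [← Bool.not_eq_true]; intro hh; have := Nat.le_of_ble_eq_true hh; have := s.2; omega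
    have h3 : D.rank + s.val - D.rank = s.val := by omega
    rw [code_inr, opH, h1, h2, cond_false, cond_false, h3, Matrix.diagonal_apply]
    have key : ∃ τ : Term, hE D.rank (T.get r h) (T.get (T.get r h).neg h) r (D.rank + s.val) s.val = [τ] ∧
        τ.j = D.rank + s.val ∧ τ.val c c⁻¹ = c ^ (aInt D.rank (fun r => T.get r h) r s) := by
      unfold hE aInt
      cases hb1 : Nat.beq s.val r with
      | true => exact ⟨_, rfl, rfl, by simp [Term.val]⟩
      | false =>
        cases hb2 : Nat.beq s.val (T.get r h).neg with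
        | true =>
          refine ⟨_, rfl, rfl, ?_⟩
          simp only [Term.val, cond_false, cond_true, Int.cast_one, pow_zero, one_mul, mul_one]
          rw [zpow_neg, inv_pow]; norm_cast
        | false =>
          refine ⟨_, rfl, rfl, ?_⟩
          simp only [Term.val, cond_false, Int.cast_one, one_mul, Int.subNatNat_eq_coe]
          exact pow_sub_zpow hc0 _ _
    obtain ⟨τ, hτ, hτj, hτv⟩ := key
    rw [hτ, ev_single c c⁻¹ (Sum.inr s : Fin D.rank ⊕ Fin D.nroots) τ hτj, hτv]
    by_cases hij : i = Sum.inr s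
    · subst hij; simp
    · rw [Pi.single_eq_of_ne hij, if_neg hij]

end Cfsg.Agent.Lib.Helper8
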