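import Cfsg.Agent.Lib.Helper8.EngineV

set_option autoImplicit false
set_option linter.unusedSimpArgs false
set_option linter.unusedVariables false

namespace Cfsg.Agent.Lib.Helper8

open Cfsg Cfsg.Lie

/-- the monomials `x` and `y` -/
def mX : Term := ⟨0, 1, 0, 1⟩
def mY : Term := ⟨0, 0, 1, 1⟩

theorem mX_val {F : Type*} [Field F] (x y : F) : mX.val x y = x := by simp [mX, Term.val]
theorem mY_val {F : Type*} [Field F] (x y : F) : mY.val x y = y := by simp [mY, Term.val]

noncomputable def chkR1col (col : ℕ → ℕ → List (ℕ × ℕ × ℤ)) (r j : ℕ) : Bool :=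
  eqVec (applyX col r (pwMono mX) (applyX col r (pwMono mY) (unit j))) (applyX col r pwSum (unit j))

noncomputable def chkR1 (l n : ℕ) (get : ℕ → RootRec) (lo len : ℕ) : Bool :=
  allR (fun k => allR (fun j => chkR1col (colFast l n get) (lo + k) j) (l + n)) len

theorem chkR1_spec {l n : ℕ} {get : ℕ → RootRec} {lo len : ℕ} (h : chkR1 l n get lo len = true)
    {r : ℕ} (h1 : lo ≤ r) (h2 : r < lo + len) {j : ℕ} (hj : j < l + n) :
    chkR1col (colFast l n get) r j = true := by
  have := (allR_iff _ _).mp ((allR_iff _ _).mp h (r - lo) (by omega)) j hj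
  rwa [Nat.add_sub_cancel' h1] at this

theorem x_add_of_chk {D : ChevalleyDatum} {T : RTree} {h : ℕ} (hok : fastOK D T h = true)
    (hc : ∀ r < D.nroots, ∀ j < D.rank + D.nroots,
      chkR1col (colFast D.rank D.nroots (fun r => T.get r h)) r j = true) {F : Type*} [Field F]
    {r : ℕ} (hr : r < D.nroots) (t₁ t₂ : F) :
    D.x F r t₁ * D.x F r t₂ = D.x F r (t₁ + t₂) := by
  have hcol := colFast_ok hok
  exact eq_of_checkV (l := D.rank) (n := D.nroots) t₁ t₂
    ((applyX_rep hcol t₁ t₂ hr (fun k => by rw [pval_pwMono, mX_val])).comp t₁ t₂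
      (applyX_rep hcol t₁ t₂ hr (fun k => by rw [pval_pwMono, mY_val])))
    (applyX_rep hcol t₁ t₂ hr (fun k => pval_pwSum t₁ t₂ k)) (hc r hr)

end Cfsg.Agent.Lib.Helper8
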