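import Cfsg.Agent.Lib.Helper8.Raw

set_option autoImplicit false
set_option linter.unusedSimpArgs false
set_option linter.unusedVariables false

namespace Cfsg.Agent.Lib.Helper8

open Cfsg Cfsg.Lie

/-! ### `n_p x_s(t) = x_{w_p s}(η t) n_p` -/

/-- packed monomial action of `n_p` on the root vectors: 9 bits for each `s`
(8 bits for the image, 1 bit for the sign) -/
def look9 (row s : ℕ) : ℕ := Nat.land (Nat.shiftRight row (Nat.mul 9 s)) 511

noncomputable def sgn9 (e : ℕ) : ℤ := Bool.rec (Int.ofNat 1) (Int.negSucc 0) (Nat.ble 256 e)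

/-- the operator of `n_p` read off a packed row (`slow` is used on the columns `h_i`) -/
noncomputable def opNT (l n : ℕ) (row : ℕ) (slow : ℕ → List Term) (j : ℕ) : List Term :=
  Bool.rec (Bool.rec [⟨Nat.add l (Nat.land (look9 row (Nat.sub j l)) 255), 0, 0, sgn9 (look9 row (Nat.sub j l))⟩]
    [] (Nat.ble (Nat.add l n) j)) (slow j) (Nat.ble (Nat.succ j) l)

theorem opNT_out (l n row : ℕ) (slow : ℕ → List Term) (j : ℕ) (hj : l + n ≤ j) : opNT l n row slow j = [] := by
  have h1 : Nat.ble (Nat.succ j) l = false := by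
    rw [← Bool.not_eq_true]; intro h; have := Nat.le_of_ble_eq_true h; omega
  have h2 : Nat.ble (Nat.add l n) j = true := Nat.ble_eq_true_of_le hj
  rw [opNT, h1, h2]

noncomputable def chkNT (l n : ℕ) (row : ℕ) (slow : ℕ → List Term) : Bool :=
  allRF (fun j => eqVecF (slow j) (opNT l n row slow j)) (l + n)

theorem opNT_rep {F : Type*} [Field F] (x y : F) {l n row : ℕ} {slow : ℕ → List Term}
    {M : Matrix (Fin l ⊕ Fin n) (Fin l ⊕ Fin n) F} (h : RepOp x y slow M)
    (hc : chkNT l n row slow = true) : RepOp x y (opNT l n row slow) M := by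
  rw [chkNT, allRF_eq, eqVecF_eq] at hc
  constructor
  · intro j i
    rw [← eqVec_sound x y ((allR_iff _ _).mp hc _ (code_lt j)), h.1]
  · intro j hj
    rw [opNT_out _ _ _ _ _ hj, ev_nil]

noncomputable def chkR3col (l n : ℕ) (get : ℕ → RootRec) (op : ℕ → List Term) (s s' : ℕ) (η : ℤ) (j : ℕ) : Bool :=
  eqVecF (applyOpF op (applyXT (colFastF l n get) s tmX (unit j)))
    (applyXT (colFastF l n get) s' (tmZX η) (applyOpF op (unit j)))

/-- check for the roots `s` with `lo ≤ s < lo + len` -/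
noncomputable def chkR3 (l n : ℕ) (get : ℕ → RootRec) (row : ℕ) (slow : ℕ → List Term) (lo len : ℕ) : Bool :=
  allRF (fun k => allRF (fun j => chkR3col l n get (opNT l n row slow) (Nat.add lo k)
    (Nat.land (look9 row (Nat.add lo k)) 255) (sgn9 (look9 row (Nat.add lo k))) j) (l + n)) len

theorem chkR3_spec {l n : ℕ} {get : ℕ → RootRec} {row : ℕ} {slow : ℕ → List Term} {lo len : ℕ}
    (h : chkR3 l n get row slow lo len = true)
    {s : ℕ} (h1 : lo ≤ s) (h2 : s < lo + len) {j : ℕ} (hj : j < l + n) :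
    chkR3col l n get (opNT l n row slow) s (Nat.land (look9 row s) 255) (sgn9 (look9 row s)) j = true := by
  rw [chkR3, allRF_eq] at h
  have := (allR_iff _ _).mp ((allR_iff _ _).mp h (s - lo) (by omega)) j hj
  have h3 : Nat.add lo (s - lo) = s := Nat.add_sub_cancel' h1
  rwa [h3] at this

theorem sgn9_cases (e : ℕ) : sgn9 e = 1 ∨ sgn9 e = -1 := by
  unfold sgn9
  cases Nat.ble 256 e
  · left; rfl
  · right; rfl

theorem n_mul_x_of_chk {D : ChevalleyDatum} {T : RTree} {h : ℕ} (hok : fastOK D T h = true)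
    {F : Type*} [Field F] {op : ℕ → List Term} {M : Matrix D.Idx D.Idx F}
    (hM : ∀ x y : F, RepOp (l := D.rank) (n := D.nroots) x y op M)
    {s s' : ℕ} {η : ℤ} (hs : s < D.nroots) (hs' : s' < D.nroots) (hη : η = 1 ∨ η = -1)
    (h3 : ∀ j < D.rank + D.nroots, chkR3col D.rank D.nroots (fun r => T.get r h) op s s' η j = true)
    (t : F) : M * D.x F s t = D.x F s' ((η : F) * t) * M := by
  have hcol := colFast_ok hok
  have hN := (hM t 1).toV
  simp only [chkR3col, eqVecF_eq, applyOpF_eq, colFastF_eq, applyXT_eq tmX_spec,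
    applyXT_eq (tmZX_spec η)] at h3
  exact eq_of_checkV (l := D.rank) (n := D.nroots) t 1
    (hN.comp t 1 (applyX_rep hcol t 1 hs (pval_pwX t 1)))
    ((applyX_rep hcol t 1 hs' (pval_pwZX t 1 hη)).comp t 1 hN) h3

/-- all the checks on the packed rows of the `n_{p_i}` -/
def R3OK (D : ChevalleyDatum) (get : ℕ → RootRec) (nrow : ℕ → ℕ) : Prop :=
  ∀ i < D.rank,
    chkNT D.rank D.nroots (nrow i) (opN1 D.rank D.nroots get (D.simple i)) = true ∧
    ∀ s < D.nroots, ∀ j < D.rank + D.nroots,
      chkR3col D.rank D.nroots get (opNT D.rank D.nroots (nrow i) (opN1 D.rank D.nroots get (D.simple i)))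
        s (Nat.land (look9 (nrow i) s) 255) (sgn9 (look9 (nrow i) s)) j = true

end Cfsg.Agent.Lib.Helper8
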