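import Mathlib

set_option autoImplicit false
set_option linter.unusedSectionVars false
set_option linter.unusedVariables false
set_option linter.style.haveILetI false

open scoped commutatorElement

/-!
Matrices which are unitriangular with respect to a grading `pos : ι → ℕ` of the index set.
-/

namespace Cfsg.Agent.Lib.Helper8

section
variable {ι : Type*} [Fintype ι] [DecidableEq ι] {R : Type*} [CommRing R] (pos : ι → ℕ)

/-- `M` raises the grading by at least `k` -/
def Fil (k : ℕ) (M : Matrix ι ι R) : Prop := ∀ i j, pos i < pos j + k → M i j = 0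

variable {pos}

theorem Fil.mono {k k' : ℕ} (h : k ≤ k') {M : Matrix ι ι R} (hM : Fil pos k' M) : Fil pos k M :=
  fun i j hij => hM i j (by omega)

theorem Fil.add {k : ℕ} {M N : Matrix ι ι R} (hM : Fil pos k M) (hN : Fil pos k N) : Fil pos k (M + N) :=
  fun i j hij => by rw [Matrix.add_apply, hM i j hij, hN i j hij, add_zero]

theorem Fil.sub {k : ℕ} {M N : Matrix ι ι R} (hM : Fil pos k M) (hN : Fil pos k N) : Fil pos k (M - N) :=
  fun i j hij => by rw [Matrix.sub_apply, hM i j hij, hN i j hij, sub_zero]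

theorem Fil.neg {k : ℕ} {M : Matrix ι ι R} (hM : Fil pos k M) : Fil pos k (-M) :=
  fun i j hij => by rw [Matrix.neg_apply, hM i j hij, neg_zero]

theorem Fil.zero (k : ℕ) : Fil pos k (0 : Matrix ι ι R) := fun _ _ _ => rfl

theorem Fil.one : Fil pos 0 (1 : Matrix ι ι R) := fun i j hij => by
  rw [Matrix.one_apply, if_neg]
  rintro rfl
  omega

theorem Fil.mul {k m : ℕ} {M N : Matrix ι ι R} (hM : Fil pos k M) (hN : Fil pos m N) :
    Fil pos (k + m) (M * N) := by
  intro i j hij
  rw [Matrix.mul_apply]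
  apply Finset.sum_eq_zero
  intro a _
  by_cases h : pos i < pos a + k
  · rw [hM i a h, zero_mul]
  · rw [hN a j (by omega), mul_zero]

theorem Fil.eq_zero {b : ℕ} (hb : ∀ i, pos i < b) {M : Matrix ι ι R} (h : Fil pos b M) : M = 0 := by
  ext i j
  exact h i j (by have := hb i; omega)

theorem Fil.pow {M : Matrix ι ι R} (h : Fil pos 1 M) (k : ℕ) : Fil pos k (M ^ k) := by
  induction k with
  | zero => rw [pow_zero]; exact Fil.one
  | succ k ih => rw [pow_succ]; exact ih.mul h

theorem Fil.of_sub_one {k : ℕ} {M : Matrix ι ι R} (h : Fil pos k (M - 1)) : Fil pos 0 M := by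
  have : M = (M - 1) + 1 := by abel
  rw [this]
  exact (h.mono (Nat.zero_le k)).add Fil.one

theorem Fil.mul_sub_one {k : ℕ} {M N : Matrix ι ι R} (hM : Fil pos k (M - 1)) (hN : Fil pos k (N - 1)) :
    Fil pos k (M * N - 1) := by
  have : M * N - 1 = M * (N - 1) + (M - 1) := by rw [mul_sub, mul_one]; abel
  rw [this]
  have h1 := (hM.of_sub_one).mul hN
  rw [Nat.zero_add] at h1
  exact h1.add hM

variable (pos)

/-- the group of invertible matrices `g` with `g - 1` raising the grading by at least `k` -/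
def lev (k : ℕ) : Subgroup (GL ι R) where
  carrier := {g | Fil pos k ((g : Matrix ι ι R) - 1) ∧ Fil pos k (((g⁻¹ : GL ι R) : Matrix ι ι R) - 1)}
  mul_mem' := by
    rintro a b ⟨ha, ha'⟩ ⟨hb, hb'⟩
    refine ⟨?_, ?_⟩
    · rw [Units.val_mul]; exact ha.mul_sub_one hb
    · rw [mul_inv_rev, Units.val_mul]; exact hb'.mul_sub_one ha'
  one_mem' := by
    refine ⟨?_, ?_⟩
    · rw [Units.val_one, sub_self]; exact Fil.zero k
    · rw [inv_one, Units.val_one, sub_self]; exact Fil.zero k
  inv_mem' := by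
    rintro a ⟨ha, ha'⟩
    exact ⟨ha', by rw [inv_inv]; exact ha⟩

variable {pos}

theorem mem_lev {k : ℕ} {g : GL ι R} : g ∈ lev pos k ↔
    Fil pos k ((g : Matrix ι ι R) - 1) ∧ Fil pos k (((g⁻¹ : GL ι R) : Matrix ι ι R) - 1) := Iff.rfl

theorem lev_eq_bot {b : ℕ} (hb : ∀ i, pos i < b) : lev (R := R) pos b = ⊥ := by
  rw [eq_bot_iff]
  intro g hg
  rw [Subgroup.mem_bot]
  apply Units.ext
  have := Fil.eq_zero hb hg.1
  rw [Units.val_one]
  exact sub_eq_zero.mp this

theorem comm_sub_one {k : ℕ} {x g x' g' : Matrix ι ι R} (hx : Fil pos k (x - 1)) (hg : Fil pos 1 (g - 1))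
    (hx' : Fil pos 0 x') (hg' : Fil pos 0 g') (h1 : x * x' = 1) (h2 : g * g' = 1) :
    Fil pos (k + 1) (x * g * x' * g' - 1) := by
  have : x * g * x' * g' - 1 = ((x - 1) * (g - 1) - (g - 1) * (x - 1)) * (x' * g') := by
    have e1 : (x - 1) * (g - 1) - (g - 1) * (x - 1) = x * g - g * x := by noncomm_ring
    rw [e1, sub_mul]
    have e2 : g * x * (x' * g') = 1 := by
      rw [mul_assoc, ← mul_assoc x, h1, one_mul, h2]
    rw [e2]
    simp only [mul_assoc]
  rw [this]
  have a1 := hx.mul hg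
  have a2 := hg.mul hx
  rw [Nat.add_comm] at a2
  have a3 := (a1.sub a2).mul (hx'.mul hg')
  simpa using a3

theorem commutator_mem_lev {k : ℕ} {x g : GL ι R} (hx : x ∈ lev pos k) (hg : g ∈ lev pos 1) :
    ⁅x, g⁆ ∈ lev pos (k + 1) := by
  refine ⟨?_, ?_⟩
  · rw [commutatorElement_def]
    simp only [Units.val_mul]
    exact comm_sub_one hx.1 hg.1 hx.2.of_sub_one hg.2.of_sub_one (by rw [← Units.val_mul]; simp)
      (by rw [← Units.val_mul]; simp)
  · rw [commutatorElement_inv, commutatorElement_def]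
    simp only [Units.val_mul]
    -- g x g⁻¹ x⁻¹ - 1
    have h := comm_sub_one (x := (x : Matrix ι ι R)) (g := (g : Matrix ι ι R)) hx.1 hg.1
      hx.2.of_sub_one hg.2.of_sub_one (by rw [← Units.val_mul]; simp) (by rw [← Units.val_mul]; simp)
    have e : ((g : Matrix ι ι R) * x * ((g⁻¹ : GL ι R) : Matrix ι ι R) * ((x⁻¹ : GL ι R) : Matrix ι ι R) - 1)
        = - (((x : Matrix ι ι R) - 1) * ((g : Matrix ι ι R) - 1) - ((g : Matrix ι ι R) - 1) * ((x : Matrix ι ι R) - 1)) *
          (((g⁻¹ : GL ι R) : Matrix ι ι R) * ((x⁻¹ : GL ι R) : Matrix ι ι R)) := by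
      have e1 : ((x : Matrix ι ι R) - 1) * ((g : Matrix ι ι R) - 1) -
          ((g : Matrix ι ι R) - 1) * ((x : Matrix ι ι R) - 1) = (x : Matrix ι ι R) * g - g * x := by
        noncomm_ring
      rw [e1, neg_sub, sub_mul]
      have e2 : (x : Matrix ι ι R) * g * (((g⁻¹ : GL ι R) : Matrix ι ι R) * ((x⁻¹ : GL ι R) : Matrix ι ι R))
          = 1 := by
        rw [← Units.val_mul, ← Units.val_mul, ← Units.val_mul]; simp
      rw [e2]
      simp only [mul_assoc]
    rw [e]
    have a1 := hx.1.mul hg.1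
    have a2 := hg.1.mul hx.1
    rw [Nat.add_comm] at a2
    have a3 := ((a1.sub a2).neg).mul (hg.2.of_sub_one.mul hx.2.of_sub_one)
    simpa using a3

/-- subgroups of the unitriangular group are nilpotent -/
theorem isNilpotent_of_le_lev {b : ℕ} (hb : ∀ i, pos i < b) (K : Subgroup (GL ι R))
    (hK : K ≤ lev pos 1) : Group.IsNilpotent K := by
  rw [Subgroup.nilpotent_iff_finite_descending_central_series]
  refine ⟨b, fun k => (lev pos (k + 1)).subgroupOf K, ⟨?_, ?_⟩, ?_⟩
  · rw [eq_top_iff]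
    intro x _
    exact hK x.2
  · intro x n hx g
    rw [Subgroup.mem_subgroupOf] at hx ⊢
    exact commutator_mem_lev hx (hK g.2)
  · rw [eq_bot_iff]
    intro x hx
    rw [Subgroup.mem_subgroupOf] at hx
    have h1 : lev (R := R) pos (b + 1) = ⊥ := lev_eq_bot (fun i => by have := hb i; omega)
    rw [h1, Subgroup.mem_bot] at hx
    rw [Subgroup.mem_bot]
    exact Subtype.ext hx

theorem sub_one_pow_eq_zero {b : ℕ} (hb : ∀ i, pos i < b) {g : GL ι R} (hg : g ∈ lev pos 1) {m : ℕ}
    (hm : b ≤ m) : ((g : Matrix ι ι R) - 1) ^ m = 0 :=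
  Fil.eq_zero hb ((Fil.pow hg.1 m).mono hm)

/-! ### triangular matrices -/

variable (pos)

/-- the off-diagonal entries raise the grading strictly -/
def TriD (M : Matrix ι ι R) : Prop := ∀ i j, i ≠ j → pos i ≤ pos j → M i j = 0

variable {pos}

theorem TriD.mul {M N : Matrix ι ι R} (hM : TriD pos M) (hN : TriD pos N) : TriD pos (M * N) := by
  intro i j hij hp
  rw [Matrix.mul_apply]
  apply Finset.sum_eq_zero
  intro a _
  by_cases h1 : i = a
  · subst h1
    rw [hN i j hij hp, mul_zero]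
  · by_cases h2 : pos i ≤ pos a
    · rw [hM i a h1 h2, zero_mul]
    · by_cases h3 : a = j
      · subst h3; omega
      · rw [hN a j h3 (by omega), mul_zero]

theorem TriD.mul_diag {M N : Matrix ι ι R} (hM : TriD pos M) (hN : TriD pos N) (i : ι) :
    (M * N) i i = M i i * N i i := by
  rw [Matrix.mul_apply]
  apply Finset.sum_eq_single i
  · intro a _ ha
    by_cases h2 : pos i ≤ pos a
    · rw [hM i a (Ne.symm ha) h2, zero_mul]
    · rw [hN a i ha (by omega), mul_zero]
  · intro h; exact absurd (Finset.mem_univ i) h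

theorem TriD.one : TriD pos (1 : Matrix ι ι R) := fun i j hij _ => Matrix.one_apply_ne hij

theorem TriD.diagonal (d : ι → R) : TriD pos (Matrix.diagonal d) :=
  fun i j hij _ => Matrix.diagonal_apply_ne d hij

theorem TriD.of_fil {M : Matrix ι ι R} (h : Fil pos 1 (M - 1)) : TriD pos M := by
  intro i j hij hp
  have := h i j (by omega)
  rwa [Matrix.sub_apply, Matrix.one_apply_ne hij, sub_zero] at this

variable (pos)

/-- the group of invertible triangular matrices -/
def triGL : Subgroup (GL ι R) where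
  carrier := {g | TriD pos (g : Matrix ι ι R) ∧ TriD pos ((g⁻¹ : GL ι R) : Matrix ι ι R)}
  mul_mem' := by
    rintro a b ⟨ha, ha'⟩ ⟨hb, hb'⟩
    refine ⟨?_, ?_⟩
    · rw [Units.val_mul]; exact ha.mul hb
    · rw [mul_inv_rev, Units.val_mul]; exact hb'.mul ha'
  one_mem' := by
    refine ⟨?_, ?_⟩
    · rw [Units.val_one]; exact TriD.one
    · rw [inv_one, Units.val_one]; exact TriD.one
  inv_mem' := by
    rintro a ⟨ha, ha'⟩
    exact ⟨ha', by rw [inv_inv]; exact ha⟩

variable {pos}

theorem lev_le_triGL : lev (R := R) pos 1 ≤ triGL pos :=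
  fun _ hg => ⟨TriD.of_fil hg.1, TriD.of_fil hg.2⟩

theorem triGL_diag_mul_inv {g : GL ι R} (hg : g ∈ triGL pos) (i : ι) :
    (g : Matrix ι ι R) i i * ((g⁻¹ : GL ι R) : Matrix ι ι R) i i = 1 := by
  rw [← hg.1.mul_diag hg.2, ← Units.val_mul, mul_inv_cancel, Units.val_one, Matrix.one_apply_eq]

theorem triGL_inv_mul_diag {g : GL ι R} (hg : g ∈ triGL pos) (i : ι) :
    ((g⁻¹ : GL ι R) : Matrix ι ι R) i i * (g : Matrix ι ι R) i i = 1 := by
  rw [mul_comm]; exact triGL_diag_mul_inv hg i

variable (pos) (R)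

/-- the diagonal of a triangular matrix -/
def diagHom : triGL (R := R) pos →* (ι → Rˣ) where
  toFun g := fun i => ⟨(g.1 : Matrix ι ι R) i i, ((g.1⁻¹ : GL ι R) : Matrix ι ι R) i i,
    triGL_diag_mul_inv g.2 i, triGL_inv_mul_diag g.2 i⟩
  map_one' := by
    funext i
    apply Units.ext
    simp
  map_mul' := by
    intro a b
    funext i
    apply Units.ext
    simp only [Pi.mul_apply, Units.val_mul]
    exact a.2.1.mul_diag b.2.1 i

variable {pos} {R}

theorem mem_lev_of_diag_one {g : GL ι R} (hg : g ∈ triGL pos) (h1 : ∀ i, (g : Matrix ι ι R) i i = 1) :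
    g ∈ lev pos 1 := by
  have h2 : ∀ i, ((g⁻¹ : GL ι R) : Matrix ι ι R) i i = 1 := by
    intro i
    have := triGL_diag_mul_inv hg i
    rwa [h1, one_mul] at this
  refine ⟨?_, ?_⟩
  · intro i j hij
    by_cases h : i = j
    · subst h; rw [Matrix.sub_apply, h1, Matrix.one_apply_eq, sub_self]
    · rw [Matrix.sub_apply, hg.1 i j h (by omega), Matrix.one_apply_ne h, sub_self]
  · intro i j hij
    by_cases h : i = j
    · subst h; rw [Matrix.sub_apply, h2, Matrix.one_apply_eq, sub_self]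
    · rw [Matrix.sub_apply, hg.2 i j h (by omega), Matrix.one_apply_ne h, sub_self]

/-- subgroups of the triangular group are solvable -/
theorem isSolvable_of_le_triGL {b : ℕ} (hb : ∀ i, pos i < b) (K : Subgroup (GL ι R))
    (hK : K ≤ triGL pos) : Group.IsSolvable K := by
  haveI : Group.IsNilpotent ↥(K ⊓ lev pos 1) := isNilpotent_of_le_lev hb _ inf_le_right
  refine Group.isSolvable_of_ker_le_range (Subgroup.inclusion (inf_le_left : K ⊓ lev pos 1 ≤ K))
    ((diagHom R pos).comp (Subgroup.inclusion hK)) ?_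
  intro g hg
  rw [MonoidHom.mem_ker] at hg
  have h1 : ∀ i, ((g : GL ι R) : Matrix ι ι R) i i = 1 := by
    intro i
    have := congrArg Units.val (congrFun hg i)
    exact this
  exact ⟨⟨g.1, g.2, mem_lev_of_diag_one (hK g.2) h1⟩, rfl⟩

theorem eq_one_of_lev_of_diag {g : GL ι R} (hg : g ∈ lev pos 1) {d : ι → R}
    (hd : (g : Matrix ι ι R) = Matrix.diagonal d) : g = 1 := by
  apply Units.ext
  ext i j
  rw [Units.val_one]
  by_cases h : i = j
  · subst h
    have := hg.1 i i (by omega)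
    rw [Matrix.sub_apply] at this
    exact sub_eq_zero.mp this
  · rw [hd, Matrix.diagonal_apply_ne d h, Matrix.one_apply_ne h]

/-- triangular in both directions means diagonal -/
theorem diag_of_triD_triD {pos' : ι → ℕ} (hrev : ∀ i j, pos' i ≤ pos' j ↔ pos j ≤ pos i)
    {M : Matrix ι ι R} (h1 : TriD pos M) (h2 : TriD pos' M) : M = Matrix.diagonal (fun i => M i i) := by
  ext i j
  by_cases h : i = j
  · subst h; rw [Matrix.diagonal_apply_eq]
  · rw [Matrix.diagonal_apply_ne _ h]
    rcases le_total (pos i) (pos j) with h3 | h3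
    · exact h1 i j h h3
    · exact h2 i j h ((hrev i j).mpr h3)

theorem eq_one_of_triGL_of_lev {pos' : ι → ℕ} (hrev : ∀ i j, pos' i ≤ pos' j ↔ pos j ≤ pos i)
    {g : GL ι R} (h1 : g ∈ triGL pos) (h2 : g ∈ lev pos' 1) : g = 1 :=
  eq_one_of_lev_of_diag h2 (diag_of_triD_triD hrev h1.1 (lev_le_triGL h2).1)

end

end Cfsg.Agent.Lib.Helper8
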