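import Cfsg.Agent.Lib.Helper8.Tabs
import Cfsg.Agent.Lib.Helper8.Uni

set_option autoImplicit false
set_option linter.unusedSimpArgs false
set_option linter.unusedVariables false

namespace Cfsg.Agent.Lib.Helper8

open Cfsg Cfsg.Lie

/-! ### triangularity of the root elements -/

/-- position of a basis vector: negative roots, then the `h_i`, then the positive roots -/
def posC (l n j : ℕ) : ℕ :=
  bif Nat.blt j l then n / 2 else bif Nat.blt (j - l) (n / 2) then j - l else j - l + 1

def chkTriCol (l n : ℕ) (get : ℕ → RootRec) (r j : ℕ) : Bool :=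
  match colFast l n get r j with
  | e :: tl => Nat.beq e.1 j && (Nat.beq e.2.1 0 && (decide (e.2.2 = 1) &&
      tl.all (fun e => bif Nat.ble (n / 2) r then Nat.blt (posC l n j) (posC l n e.1)
        else Nat.blt (posC l n e.1) (posC l n j))))
  | [] => false

noncomputable def chkTri (l n : ℕ) (get : ℕ → RootRec) : Bool :=
  allR (fun r => allR (fun j => chkTriCol l n get r j) (l + n)) n

theorem chkTri_all : ∀ D ∈ allData, chkTri D.rank D.nroots (getOf D) = true := by
  apply all_of <;> decide +kernel

theorem colVal_eq_zero {F : Type*} [Field F] (t : F) (c : ℕ) (C : List (ℕ × ℕ × ℤ))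
    (h : ∀ e ∈ C, e.1 ≠ c) : colVal t c C = 0 := by
  unfold colVal
  apply List.sum_eq_zero
  intro v hv
  simp only [List.mem_map] at hv
  obtain ⟨e, he, rfl⟩ := hv
  rw [if_neg (h e he)]

/-- position of an index -/
def posI (D : ChevalleyDatum) (i : D.Idx) : ℕ := posC D.rank D.nroots (code i)
/-- reversed position of an index -/
def posI' (D : ChevalleyDatum) (i : D.Idx) : ℕ := D.nroots - posC D.rank D.nroots (code i)

theorem posC_le (l n j : ℕ) (hj : j < l + n) : posC l n j ≤ n := by
  unfold posC
  cases h0 : Nat.blt j l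
  · have h0' : ¬ j < l := by rw [← Nat.blt_eq, h0]; simp
    cases h : Nat.blt (j - l) (n / 2)
    · simp only [cond_false]; omega
    · simp only [cond_false, cond_true]; omega
  · simp only [cond_true]; omega

theorem posI_lt (D : ChevalleyDatum) (i : D.Idx) : posI D i < D.nroots + 1 :=
  Nat.lt_succ_of_le (posC_le _ _ _ (code_lt i))

theorem posI'_lt (D : ChevalleyDatum) (i : D.Idx) : posI' D i < D.nroots + 1 := by
  unfold posI'; omega

theorem posI_rev (D : ChevalleyDatum) (i j : D.Idx) : posI' D i ≤ posI' D j ↔ posI D j ≤ posI D i := by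
  have h1 := posI_lt D i
  have h2 := posI_lt D j
  unfold posI' 
  unfold posI at *
  omega

theorem x_sub_one_apply {D : ChevalleyDatum} (hD : D ∈ allData) {F : Type*} [Field F] {r : ℕ}
    (hr : r < D.nroots) (t : F) (i j : D.Idx) :
    ∃ tl : List (ℕ × ℕ × ℤ), (D.x F r t - 1) i j = colVal t (code i) tl ∧
      ∀ e ∈ tl, (D.nroots / 2 ≤ r → posC D.rank D.nroots (code j) < posC D.rank D.nroots e.1) ∧
        (r < D.nroots / 2 → posC D.rank D.nroots e.1 < posC D.rank D.nroots (code j)) := by
  have h := chkTri_all D hD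
  rw [chkTri, allR_iff] at h
  have h1 := (allR_iff _ _).mp (h r hr) (code j) (code_lt j)
  have hcol : colFast D.rank D.nroots (getOf D) r (code j) = colSpec D r (code j) :=
    colFast_ok (treeOf_ok hD) r hr (code j)
  rw [chkTriCol, hcol] at h1
  rw [Matrix.sub_apply, ChevalleyDatum.x, dif_pos hr, xMat_colSpec]
  cases hC : colSpec D r (code j) with
  | nil => rw [hC] at h1; simp at h1
  | cons e tl =>
    rw [hC] at h1
    simp only [Bool.and_eq_true, Nat.beq_eq, decide_eq_true_eq, List.all_eq_true] at h1
    obtain ⟨a1, a2, a3, a4⟩ := h1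
    obtain ⟨a, k, z⟩ := e
    simp only at a1 a2 a3
    subst a1 a2 a3
    refine ⟨tl, ?_, ?_⟩
    · rw [colVal_cons, Matrix.one_apply]
      by_cases hij : i = j
      · subst hij; simp
      · rw [if_neg (fun hh => hij (code_inj hh).symm), if_neg hij]; simp
    · intro e he
      have := a4 e he
      constructor
      · intro hpos
        rw [Nat.ble_eq_true_of_le hpos, cond_true, Nat.blt_eq] at this
        exact this
      · intro hneg
        have hb : Nat.ble (D.nroots / 2) r = false := by
          rw [← Bool.not_eq_true]; intro hh; have := Nat.le_of_ble_eq_true hh; omega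
        rw [hb, cond_false, Nat.blt_eq] at this
        exact this

theorem x_fil_pos {D : ChevalleyDatum} (hD : D ∈ allData) {F : Type*} [Field F] {r : ℕ}
    (hr : r < D.nroots) (hpos : D.nroots / 2 ≤ r) (t : F) : Fil (posI D) 1 (D.x F r t - 1) := by
  intro i j hij
  obtain ⟨tl, h1, h2⟩ := x_sub_one_apply hD hr t i j
  rw [h1]
  apply colVal_eq_zero
  intro e he hh
  have := (h2 e he).1 hpos
  rw [hh] at this
  unfold posI at hij
  omega

theorem x_fil_neg {D : ChevalleyDatum} (hD : D ∈ allData) {F : Type*} [Field F] {r : ℕ}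
    (hneg : r < D.nroots / 2) (t : F) : Fil (posI' D) 1 (D.x F r t - 1) := by
  intro i j hij
  obtain ⟨tl, h1, h2⟩ := x_sub_one_apply hD (show r < D.nroots by omega) t i j
  rw [h1]
  apply colVal_eq_zero
  intro e he hh
  have := (h2 e he).2 hneg
  rw [hh] at this
  have h3 := posI_lt D i
  have h4 := posI_lt D j
  unfold posI' at hij
  unfold posI at h3 h4
  omega

end Cfsg.Agent.Lib.Helper8
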