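import Cfsg.Agent.Lib.Helper8.IdR3

set_option autoImplicit false
set_option linter.unusedSimpArgs false
set_option linter.unusedVariables false

namespace Cfsg.Agent.Lib.Helper8

open Cfsg Cfsg.Lie

/-! ### combinatorial checks on the packed rows of the `n_{p_i}` -/

/-- image of `s` under the permutation stored in a packed row -/
def w9 (row s : ℕ) : ℕ := Nat.land (look9 row s) 255
/-- sign stored in a packed row -/
noncomputable def e9 (row s : ℕ) : ℤ := sgn9 (look9 row s)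

noncomputable def chkW1 (D : ChevalleyDatum) (row i s : ℕ) : Bool :=
  decide (w9 row s = D.reflectRoot i s) && (Nat.blt (w9 row s) D.nroots &&
  (decide (e9 row s * e9 row (w9 row s) = (-1) ^ (D.cartan i s).natAbs) &&
  (decide (e9 row s * e9 row (D.neg s) = 1) &&
  (Nat.beq (w9 row (w9 row s)) s && (Nat.beq (w9 row (D.neg s)) (D.neg (w9 row s)) &&
  (Nat.blt s (D.nroots / 2) || (Nat.beq s (D.simple i) || Nat.ble (D.nroots / 2) (w9 row s))))))))

noncomputable def chkW (D : ChevalleyDatum) (get : ℕ → RootRec) (row i : ℕ) : Bool :=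
  allR (chkW1 D row i) D.nroots &&
  (decide (e9 row (D.simple i) = -1) && (decide (e9 row (D.neg (D.simple i)) = -1) &&
  (Nat.blt (D.simple i) D.nroots && (Nat.ble (D.nroots / 2) (D.simple i) &&
  allR (fun j => eqVec (opN1 D.rank D.nroots get (D.simple i) j)
    [⟨j, 0, 0, 1⟩, ⟨i, 0, 0, -(D.cartan j (D.simple i))⟩]) D.rank))))

def WOK (D : ChevalleyDatum) (get : ℕ → RootRec) (nrow : ℕ → ℕ) : Prop :=
  ∀ i < D.rank, chkW D get (nrow i) i = true

/-- positive roots are the second half, `neg` reverses the list -/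
def chkPos (D : ChevalleyDatum) : Bool :=
  Nat.beq (2 * (D.nroots / 2)) D.nroots &&
  (List.range D.nroots).all fun r =>
    Nat.beq (D.neg r) (D.nroots - 1 - r) &&
    (decide (D.IsPosRoot r) == Nat.ble (D.nroots / 2) r) && (decide (D.IsNegRoot r) == Nat.blt r (D.nroots / 2))

theorem chkW_spec1 {D : ChevalleyDatum} {get : ℕ → RootRec} {row i : ℕ} (h : chkW D get row i = true)
    {s : ℕ} (hs : s < D.nroots) :
    w9 row s = D.reflectRoot i s ∧ w9 row s < D.nroots ∧
    e9 row s * e9 row (w9 row s) = (-1) ^ (D.cartan i s).natAbs ∧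
    e9 row s * e9 row (D.neg s) = 1 ∧ w9 row (w9 row s) = s ∧ w9 row (D.neg s) = D.neg (w9 row s) ∧
    (D.nroots / 2 ≤ s → s ≠ D.simple i → D.nroots / 2 ≤ w9 row s) := by
  rw [chkW, Bool.and_eq_true] at h
  have h1 := (allR_iff _ _).mp h.1 s hs
  simp only [chkW1, Bool.and_eq_true, Bool.or_eq_true, decide_eq_true_eq, Nat.blt_eq, Nat.beq_eq,
    Nat.ble_eq] at h1
  obtain ⟨a1, a2, a3, a4, a5, a6, a7⟩ := h1
  refine ⟨a1, a2, a3, a4, a5, a6, fun h1 h2 => ?_⟩
  rcases a7 with a7 | a7 | a7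
  · omega
  · exact absurd a7 h2
  · exact a7

theorem chkW_spec2 {D : ChevalleyDatum} {get : ℕ → RootRec} {row i : ℕ} (h : chkW D get row i = true) :
    e9 row (D.simple i) = -1 ∧ e9 row (D.neg (D.simple i)) = -1 ∧ D.simple i < D.nroots ∧
    D.nroots / 2 ≤ D.simple i ∧
    ∀ j < D.rank, eqVec (opN1 D.rank D.nroots get (D.simple i) j)
      [⟨j, 0, 0, 1⟩, ⟨i, 0, 0, -(D.cartan j (D.simple i))⟩] = true := by
  rw [chkW, Bool.and_eq_true] at h
  have h2 := h.2
  simp only [Bool.and_eq_true, decide_eq_true_eq, Nat.blt_eq, Nat.ble_eq, allR_iff] at h2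
  exact h2

theorem chkPos_spec {D : ChevalleyDatum} (h : chkPos D = true) :
    2 * (D.nroots / 2) = D.nroots ∧ ∀ r < D.nroots, D.neg r = D.nroots - 1 - r ∧
      (D.IsPosRoot r ↔ D.nroots / 2 ≤ r) ∧ (D.IsNegRoot r ↔ r < D.nroots / 2) := by
  simp only [chkPos, Bool.and_eq_true, List.all_eq_true, List.mem_range, Nat.beq_eq, beq_iff_eq] at h
  refine ⟨h.1, fun r hr => ?_⟩
  obtain ⟨⟨a1, a2⟩, a3⟩ := h.2 r hr
  refine ⟨a1, ?_, ?_⟩
  · rw [← Nat.ble_eq, ← a2, decide_eq_true_eq]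
  · rw [← Nat.blt_eq, ← a3, decide_eq_true_eq]

end Cfsg.Agent.Lib.Helper8
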