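import Mathlib

set_option autoImplicit false
set_option linter.unusedSectionVars false
set_option linter.unusedVariables false

/-!
Block triangular matrices with respect to a subset `p` of the index set, the two diagonal blocks
being compared through a permutation `π` of the index set which interchanges `p` and its complement.
-/

namespace Cfsg.Agent.Lib.Helper8

section
variable {ι : Type*} [Fintype ι] [DecidableEq ι] {R : Type*} [CommRing R]
  (p : ι → Prop) [DecidablePred p] (π : Equiv.Perm ι)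

/-- `M` preserves the span of the basis vectors in `p` -/
def InvI (M : Matrix ι ι R) : Prop := ∀ i j, ¬ p i → p j → M i j = 0

/-- the block on `p` -/
def sub1 (M : Matrix ι ι R) : Matrix {i // p i} {i // p i} R := fun a b => M a b
/-- the block on the complement of `p`, transported by `π` -/
def sub2 (M : Matrix ι ι R) : Matrix {i // p i} {i // p i} R := fun a b => M (π a) (π b)

variable {p π}

theorem sum_split (hπ : ∀ i, p (π i) ↔ ¬ p i) (f : ι → R) :
    ∑ k, f k = ∑ a : {i // p i}, f a + ∑ a : {i // p i}, f (π a) := by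
  rw [← Fintype.sum_subtype_add_sum_subtype p f]
  congr 1
  let e : {i // p i} ≃ {i // ¬ p i} := π.subtypeEquiv (fun a => by rw [hπ a, not_not])
  exact (Equiv.sum_comp e (fun a : {i // ¬ p i} => f a)).symm

theorem InvI.one : InvI p (1 : Matrix ι ι R) := fun i j hi hj =>
  Matrix.one_apply_ne (fun h => hi (h ▸ hj))

theorem InvI.mul (hπ : ∀ i, p (π i) ↔ ¬ p i) {M N : Matrix ι ι R} (hM : InvI p M) (hN : InvI p N) :
    InvI p (M * N) := by
  intro i j hi hj
  rw [Matrix.mul_apply]
  apply Finset.sum_eq_zero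
  intro k _
  by_cases hk : p k
  · rw [hM i k hi hk, zero_mul]
  · rw [hN k j hk hj, mul_zero]

theorem sub1_one : sub1 p (1 : Matrix ι ι R) = 1 := by
  ext a b
  simp only [sub1, Matrix.one_apply, Subtype.ext_iff]

theorem sub2_one : sub2 p π (1 : Matrix ι ι R) = 1 := by
  ext a b
  simp only [sub2, Matrix.one_apply, Subtype.ext_iff, EmbeddingLike.apply_eq_iff_eq]

theorem sub1_mul (hπ : ∀ i, p (π i) ↔ ¬ p i) (M : Matrix ι ι R) {N : Matrix ι ι R} (hN : InvI p N) :
    sub1 p (M * N) = sub1 p M * sub1 p N := by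
  ext a b
  rw [sub1, Matrix.mul_apply, Matrix.mul_apply, sum_split hπ]
  have : ∑ c : {i // p i}, M a (π c) * N (π c) b = 0 := by
    apply Finset.sum_eq_zero
    intro c _
    rw [hN (π c) b ((hπ c).not.mpr (not_not.mpr c.2)) b.2, mul_zero]
  rw [this, add_zero]
  rfl

theorem sub2_mul (hπ : ∀ i, p (π i) ↔ ¬ p i) {M : Matrix ι ι R} (N : Matrix ι ι R) (hM : InvI p M) :
    sub2 p π (M * N) = sub2 p π M * sub2 p π N := by
  ext a b
  rw [sub2, Matrix.mul_apply, Matrix.mul_apply, sum_split hπ]
  have : ∑ c : {i // p i}, M (π a) c * N c (π b) = 0 := by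
    apply Finset.sum_eq_zero
    intro c _
    rw [hM (π a) c ((hπ a).not.mpr (not_not.mpr a.2)) c.2, zero_mul]
  rw [this, zero_add]
  rfl

variable (p π) (R)

/-- the group of invertible matrices preserving the span of `p` -/
def stabI (hπ : ∀ i, p (π i) ↔ ¬ p i) : Subgroup (GL ι R) where
  carrier := {g | InvI p (g : Matrix ι ι R) ∧ InvI p ((g⁻¹ : GL ι R) : Matrix ι ι R)}
  mul_mem' := by
    rintro a b ⟨ha, ha'⟩ ⟨hb, hb'⟩
    refine ⟨?_, ?_⟩
    · rw [Units.val_mul]; exact ha.mul hπ hb
    · rw [mul_inv_rev, Units.val_mul]; exact hb'.mul hπ ha'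
  one_mem' := ⟨by rw [Units.val_one]; exact InvI.one, by rw [inv_one, Units.val_one]; exact InvI.one⟩
  inv_mem' := by
    rintro a ⟨ha, ha'⟩
    exact ⟨ha', by rw [inv_inv]; exact ha⟩

/-- the representation on the span of `p` -/
def rep1 (hπ : ∀ i, p (π i) ↔ ¬ p i) : ↥(stabI R p π hπ) →* GL {i // p i} R :=
  MonoidHom.toHomUnits
    { toFun := fun g => sub1 p ((g : GL ι R) : Matrix ι ι R)
      map_one' := by rw [Subgroup.coe_one, Units.val_one]; exact sub1_one
      map_mul' := fun g h => by rw [Subgroup.coe_mul, Units.val_mul]; exact sub1_mul hπ _ h.2.1 }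

/-- the representation on the quotient -/
def rep2 (hπ : ∀ i, p (π i) ↔ ¬ p i) : ↥(stabI R p π hπ) →* GL {i // p i} R :=
  MonoidHom.toHomUnits
    { toFun := fun g => sub2 p π ((g : GL ι R) : Matrix ι ι R)
      map_one' := by rw [Subgroup.coe_one, Units.val_one]; exact sub2_one
      map_mul' := fun g h => by rw [Subgroup.coe_mul, Units.val_mul]; exact sub2_mul hπ _ g.2.1 }

variable {p π R}

theorem rep1_coe (hπ : ∀ i, p (π i) ↔ ¬ p i) (g : ↥(stabI R p π hπ)) :
    ((rep1 R p π hπ g : GL {i // p i} R) : Matrix {i // p i} {i // p i} R) =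
      sub1 p ((g : GL ι R) : Matrix ι ι R) := rfl

theorem rep2_coe (hπ : ∀ i, p (π i) ↔ ¬ p i) (g : ↥(stabI R p π hπ)) :
    ((rep2 R p π hπ g : GL {i // p i} R) : Matrix {i // p i} {i // p i} R) =
      sub2 p π ((g : GL ι R) : Matrix ι ι R) := rfl

end

end Cfsg.Agent.Lib.Helper8
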