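import Cfsg.Agent.Lib.Helper8.Perfect
import Cfsg.Agent.S0319

set_option autoImplicit false
set_option linter.unusedSectionVars false
set_option linter.style.haveILetI false

namespace Cfsg.Agent.Lib.Helper8

open Cfsg Cfsg.Lie

/-! ### simplicity of the Chevalley groups -/

noncomputable def adj9 (D : ChevalleyDatum) (nrow : ℕ → ℕ) (i j : ℕ) : Bool :=
  !(Nat.beq (w9 (nrow i) (w9 (nrow j) (w9 (nrow i) (w9 (nrow j) (D.simple j))))) (D.simple j))

noncomputable def chkConn (D : ChevalleyDatum) (nrow : ℕ → ℕ) (dist : List ℕ) : Bool :=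
  allR (fun i => Nat.beq i 0 || anyR (fun j => Nat.blt (dist.getD j 0) (dist.getD i 0) && adj9 D nrow i j)
    D.rank) D.rank

theorem chkConn_all : ∀ D ∈ allData, chkConn D (nrowOf D) (distOf D) = true := by
  apply all_of <;> decide +kernel

section
variable {D : ChevalleyDatum} (hD : D ∈ allData) {F : Type*} [Field F]
include hD

theorem act_nS_invS {i : ℕ} (hi : i < D.rank) : Act hD (nS hD F i)⁻¹ (D.reflectRoot i) := by
  have h1 : (nS hD F i * nS hD F i)⁻¹ ∈ D.diagonalSubgroup F :=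
    Subgroup.inv_mem _ (nS_sq_mem_diag hD hi)
  rw [diag_eq_torus hD] at h1
  obtain ⟨c, hc⟩ := h1
  have a := (act_nS (F := F) hD hi).mul (act_tG hD c)
  rw [hc] at a
  have e : nS hD F i * (nS hD F i * nS hD F i)⁻¹ = (nS hD F i)⁻¹ := by group
  rw [e] at a
  exact a

theorem comm_not_mem {i j : ℕ} (hi : i < D.rank) (hj : j < D.rank)
    (hadj : adj9 D (nrowOf D) i j = true) :
    nS hD F i * nS hD F j * (nS hD F i)⁻¹ * (nS hD F j)⁻¹ ∉ D.borelSubgroup F := by
  intro h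
  have hN : nS hD F i * nS hD F j * (nS hD F i)⁻¹ * (nS hD F j)⁻¹ ∈ D.monomialSubgroup F :=
    Subgroup.mul_mem _ (Subgroup.mul_mem _ (Subgroup.mul_mem _ (nS_mem_mono hD hi) (nS_mem_mono hD hj))
      (Subgroup.inv_mem _ (nS_mem_mono hD hi))) (Subgroup.inv_mem _ (nS_mem_mono hD hj))
  have h1 : nS hD F i * nS hD F j * (nS hD F i)⁻¹ * (nS hD F j)⁻¹ ∈
      D.borelSubgroup F ⊓ D.monomialSubgroup F := ⟨h, hN⟩
  rw [borel_inf_mono hD, diag_eq_torus hD] at h1
  obtain ⟨c, hc⟩ := h1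
  have a1 := (((act_nS (F := F) hD hi).mul (act_nS hD hj)).mul (act_nS_invS hD hi)).mul (act_nS_invS hD hj)
  rw [← hc] at a1
  have h2 := a1.unique (act_tG hD c) _ (simple_lt hD hj)
  simp only [Function.comp, id] at h2
  have hp := simple_lt hD hj
  rw [adj9, w9_eq hD hj hp, w9_eq hD hi (reflect_lt hD hj hp),
    w9_eq hD hj (reflect_lt hD hi (reflect_lt hD hj hp)),
    w9_eq hD hi (reflect_lt hD hj (reflect_lt hD hi (reflect_lt hD hj hp))), h2, Nat.beq_refl] at hadj
  simp at hadj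

theorem bnPair_irreducible : (bnPair (F := F) hD).Irreducible := by
  intro J hJ hne hne'
  by_contra hcon
  push Not at hcon
  let sG : ℕ → ↥(D.group F) := fun i => ⟨nS hD F i, nG_mem_group hD _ _⟩
  have hS : ∀ i < D.rank, sG i ∈ (bnPair (F := F) hD).S := fun i hi => ⟨i, hi, nG_coe hD _ _⟩
  have hS' : ∀ s ∈ (bnPair (F := F) hD).S, ∃ i < D.rank, s = sG i := by
    rintro s ⟨i, hi, hs⟩
    exact ⟨i, hi, Subtype.ext (eq_nG hD hs)⟩
  have hadj : ∀ i < D.rank, ∀ j < D.rank, adj9 D (nrowOf D) i j = true → (sG i ∈ J ↔ sG j ∈ J) := by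
    intro i hi j hj ha
    have hnot := comm_not_mem (F := F) hD hi hj ha
    by_cases h1 : sG i ∈ J <;> by_cases h2 : sG j ∈ J
    · exact ⟨fun _ => h2, fun _ => h1⟩
    · exact absurd (hcon (sG i) h1 (sG j) ⟨hS j hj, h2⟩) hnot
    · exfalso
      have h3 : nS hD F j * nS hD F i * (nS hD F j)⁻¹ * (nS hD F i)⁻¹ ∈ D.borelSubgroup F :=
        hcon (sG j) h2 (sG i) ⟨hS i hi, h1⟩
      apply hnot
      have e : nS hD F i * nS hD F j * (nS hD F i)⁻¹ * (nS hD F j)⁻¹ =
          (nS hD F j * nS hD F i * (nS hD F j)⁻¹ * (nS hD F i)⁻¹)⁻¹ := by group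
      rw [e]
      exact Subgroup.inv_mem _ h3
    · exact ⟨fun h => absurd h h1, fun h => absurd h h2⟩
  have hall : ∀ m i, (distOf D).getD i 0 = m → i < D.rank → (sG i ∈ J ↔ sG 0 ∈ J) := by
    intro m
    induction m using Nat.strong_induction_on with
    | _ m ih =>
      intro i hm hi
      have h := chkConn_all D hD
      rw [chkConn, allR_iff] at h
      have h1 := h i hi
      rw [Bool.or_eq_true, Nat.beq_eq, anyR_iff] at h1
      rcases h1 with h1 | ⟨j, hj, h1⟩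
      · rw [h1]
      · rw [Bool.and_eq_true, Nat.blt_eq] at h1
        rw [hadj i hi j hj h1.2]
        exact ih _ (by rw [← hm]; exact h1.1) j rfl hj
  obtain ⟨s, hs⟩ := hne
  obtain ⟨s', hs', hs'J⟩ := hne'
  obtain ⟨i, hi, rfl⟩ := hS' s (hJ hs)
  obtain ⟨j, hj, rfl⟩ := hS' s' hs'
  exact hs'J ((hall _ j rfl hj).mpr ((hall _ i rfl hi).mp hs))

theorem group_nontrivial : Nontrivial ↥(D.group F) := by
  have h0 : 0 < D.rank := rank_pos hD
  refine ⟨⟨⟨xG hD F (D.simple 0) 1, xG_mem_group hD _ _⟩, 1, ?_⟩⟩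
  intro h
  have h1 : xG hD F (D.simple 0) 1 = 1 := congrArg Subtype.val h
  rw [xG_eq_one_iff hD (simple_lt hD h0)] at h1
  exact one_ne_zero h1

theorem group_not_comm : ¬ IsMulCommutative ↥(D.group F) := by
  intro hc
  have h0 : 0 < D.rank := rank_pos hD
  have hp := simple_lt hD h0
  have h1 := hc.is_comm.comm (⟨nS hD F 0, nG_mem_group hD _ _⟩ : ↥(D.group F))
    ⟨xG hD F (D.simple 0) 1, xG_mem_group hD _ _⟩
  have h2 : nS hD F 0 * xG hD F (D.simple 0) 1 = xG hD F (D.simple 0) 1 * nS hD F 0 :=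
    congrArg Subtype.val h1
  rw [nS_x_simple hD h0, mul_left_inj] at h2
  have h3 := xG_root_inj hD (neg_lt' hD _ hp) hp (by simp) h2
  exact neg_ne hD hp h3

theorem group_simple (h2 : D = chevG2 ∨ D = chevB2 → ∃ a : F, a ≠ 0 ∧ a ≠ 1) :
    IsSimpleGroup ↥(D.group F) ∧ ¬ IsMulCommutative ↥(D.group F) := by
  refine ⟨?_, group_not_comm hD⟩
  haveI := group_nontrivial (F := F) hD
  refine Cfsg.Agent.S0319.result (bnPair hD) (bnPair_irreducible hD) ?_ (group_perfect hD h2)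
    (borel_core hD)
  haveI := borel_solvable (F := F) hD
  exact Group.isSolvable_of_isSolvable_injective
    (f := (Subgroup.subgroupOfEquivOfLe (borel_le_group (F := F) hD)).toMonoidHom)
    (Subgroup.subgroupOfEquivOfLe (borel_le_group (F := F) hD)).injective

end

end Cfsg.Agent.Lib.Helper8
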