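import Cfsg.Agent.Lib.Helper8.IsoA
import Cfsg.Agent.Lib.Helper8.Simple

set_option autoImplicit false
set_option linter.unusedSectionVars false
set_option linter.unusedVariables false
set_option linter.unusedSimpArgs false

/-!
The ideal of the adjoint module spanned by the short root vectors in the special characteristic:
table checks.
-/

namespace Cfsg.Agent.Lib.Helper8

open Cfsg Cfsg.Lie

/-- the data of a special isogeny -/
structure IsoData where
  c : ℕ
  pc : List ℕ
  isI : List Bool
  lam : List ℕ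

namespace IsoData
variable (T : IsoData)
def pcF (j : ℕ) : ℕ := T.pc.getD j 0
def inI (j : ℕ) : Bool := T.isI.getD j false
def lamF (r : ℕ) : ℕ := T.lam.getD r 1
def rho (l r : ℕ) : ℕ := T.pcF (l + r) - l
end IsoData

/-- the entries of a column in row `i` -/
def cfL (C : List (ℕ × ℕ × ℤ)) (i : ℕ) : List (ℕ × ℤ) := (C.filter (fun e => Nat.beq e.1 i)).map (fun e => e.2)

/-- reduction of the coefficients modulo `c` -/
def normL (c : ℕ) (L : List (ℕ × ℤ)) : List (ℕ × ℤ) :=
  (L.filter (fun e => !decide (e.2 % (c : ℤ) = 0))).map (fun e => (e.1, e.2 % (c : ℤ)))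

def evalL {F : Type*} [Field F] (t : F) (L : List (ℕ × ℤ)) : F := (L.map fun e => ((e.2 : ℤ) : F) * t ^ e.1).sum

theorem colVal_eq_evalL {F : Type*} [Field F] (t : F) (i : ℕ) (C : List (ℕ × ℕ × ℤ)) :
    colVal t i C = evalL t (cfL C i) := by
  induction C with
  | nil => rfl
  | cons e C ih =>
    obtain ⟨a, k, z⟩ := e
    rw [colVal_cons, ih]
    by_cases h : a = i
    · subst h
      simp [cfL, evalL]
    · have : Nat.beq a i = false := by
        rw [← Bool.not_eq_true]; intro hh; exact h (Nat.eq_of_beq_eq_true hh)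
      simp [cfL, evalL, h, this]

theorem evalL_normL {F : Type*} [Field F] (c : ℕ) [CharP F c] (t : F) (L : List (ℕ × ℤ)) :
    evalL t (normL c L) = evalL t L := by
  induction L with
  | nil => rfl
  | cons e L ih =>
    obtain ⟨k, z⟩ := e
    have hz : ((z % (c : ℤ) : ℤ) : F) = (z : F) := by
      rw [CharP.intCast_eq_intCast F c]
      exact Int.mod_modEq z c
    have e1 : evalL t ((k, z) :: L) = (z : F) * t ^ k + evalL t L := by simp [evalL]
    rw [e1, ← ih]
    by_cases h : z % (c : ℤ) = 0
    · have : (z : F) = 0 := by rw [← hz, h, Int.cast_zero]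
      have h' : (c : ℤ) ∣ z := Int.dvd_of_emod_eq_zero h
      rw [this, zero_mul, zero_add]
      simp [normL, h']
    · have h' : ¬ (c : ℤ) ∣ z := fun hh => h (Int.emod_eq_zero_of_dvd hh)
      simp [normL, h', evalL, hz]

theorem evalL_pow {F : Type*} [Field F] (t : F) (m : ℕ) (L : List (ℕ × ℤ)) :
    evalL (t ^ m) L = evalL t (L.map fun e => (e.1 * m, e.2)) := by
  induction L with
  | nil => rfl
  | cons e L ih =>
    simp only [evalL, List.map_cons, List.sum_cons] at ih ⊢
    rw [ih, ← pow_mul, mul_comm m]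

noncomputable def chkIsoP (T : IsoData) (l n : ℕ) : Bool :=
  allR (fun j => Nat.blt (T.pcF j) (l + n) && (Nat.beq (T.pcF (T.pcF j)) j &&
    ((T.inI (T.pcF j) != T.inI j) && (Nat.blt j l == Nat.blt (T.pcF j) l)))) (l + n)

noncomputable def chkIsoX (T : IsoData) (l n : ℕ) (get : ℕ → RootRec) : Bool :=
  allR (fun r => allR (fun j => !T.inI j ||
    ((colFast l n get r j).all (fun e => T.inI e.1 || decide (e.2.2 % (T.c : ℤ) = 0)) &&
      allR (fun i => !T.inI i ||
        decide (normL T.c (cfL (colFast l n get r (T.pcF j)) (T.pcF i)) =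
          (normL T.c (cfL (colFast l n get (T.rho l r) j) i)).map (fun e => (e.1 * T.lamF r, e.2)))) (l + n)))
    (l + n)) n

/-- validity of the data -/
structure IsoOK (D : ChevalleyDatum) (T : IsoData) : Prop where
  hP : chkIsoP T D.rank D.nroots = true
  hX : chkIsoX T D.rank D.nroots (getOf D) = true

section
variable {D : ChevalleyDatum} {T : IsoData} (hT : IsoOK D T)

def piFun (D : ChevalleyDatum) (T : IsoData) (i : D.Idx) : D.Idx :=
  if h : T.pcF (code i) < D.rank then Sum.inl ⟨_, h⟩
  else if h2 : T.pcF (code i) - D.rank < D.nroots then Sum.inr ⟨_, h2⟩ else i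

include hT

theorem IsoOK.spec {j : ℕ} (hj : j < D.rank + D.nroots) :
    T.pcF j < D.rank + D.nroots ∧ T.pcF (T.pcF j) = j ∧ T.inI (T.pcF j) ≠ T.inI j ∧
      (j < D.rank ↔ T.pcF j < D.rank) := by
  have h := (allR_iff _ _).mp hT.hP j hj
  simp only [Bool.and_eq_true, Nat.blt_eq, Nat.beq_eq, bne_iff_ne, beq_iff_eq] at h
  refine ⟨h.1, h.2.1, h.2.2.1, ?_⟩
  have h3 := h.2.2.2
  constructor
  · intro h4
    rw [← Nat.blt_eq, ← h3, Nat.blt_eq]; exact h4
  · intro h4
    rw [← Nat.blt_eq, h3, Nat.blt_eq]; exact h4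

theorem code_piFun (i : D.Idx) : code (piFun D T i) = T.pcF (code i) := by
  have h := (hT.spec (code_lt i)).1
  unfold piFun
  by_cases h1 : T.pcF (code i) < D.rank
  · rw [dif_pos h1]; rfl
  · rw [dif_neg h1, dif_pos (by omega)]
    simp only [code_inr]; omega

theorem piFun_piFun (i : D.Idx) : piFun D T (piFun D T i) = i := by
  apply code_inj
  rw [code_piFun hT, code_piFun hT, (hT.spec (code_lt i)).2.1]

/-- the permutation of the index set -/
def piE : Equiv.Perm D.Idx := ⟨piFun D T, piFun D T, piFun_piFun hT, piFun_piFun hT⟩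

omit hT in
/-- the index set of the ideal -/
def pI (D : ChevalleyDatum) (T : IsoData) (i : D.Idx) : Prop := T.inI (code i) = true

omit hT in
instance (D : ChevalleyDatum) (T : IsoData) : DecidablePred (pI D T) := fun i => by unfold pI; infer_instance

theorem piE_spec (i : D.Idx) : pI D T (piE hT i) ↔ ¬ pI D T i := by
  have h := (hT.spec (code_lt i)).2.2.1
  show T.inI (code (piFun D T i)) = true ↔ ¬ T.inI (code i) = true
  rw [code_piFun hT]
  cases h1 : T.inI (T.pcF (code i)) <;> cases h2 : T.inI (code i) <;> simp_all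

theorem IsoOK.rho_lt {r : ℕ} (hr : r < D.nroots) : T.rho D.rank r < D.nroots := by
  have h := hT.spec (show D.rank + r < D.rank + D.nroots by omega)
  unfold IsoData.rho
  have h1 := h.1
  have h2 := h.2.2.2
  omega

theorem IsoOK.rho_rho {r : ℕ} (hr : r < D.nroots) : T.rho D.rank (T.rho D.rank r) = r := by
  have h := hT.spec (show D.rank + r < D.rank + D.nroots by omega)
  have h2 := h.2.2.2
  have h3 : D.rank + T.rho D.rank r = T.pcF (D.rank + r) := by unfold IsoData.rho; omega
  rw [IsoData.rho, h3, h.2.1]; omega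

variable (hD : D ∈ allData) {F : Type*} [Field F] [CharP F T.c]
include hD

theorem x_invI {r : ℕ} (hr : r < D.nroots) (t : F) : InvI (pI D T) (D.x F r t) := by
  intro i j hi hj
  have h := (allR_iff _ _).mp ((allR_iff _ _).mp hT.hX r hr) (code j) (code_lt j)
  have hj' : T.inI (code j) = true := hj
  rw [hj', Bool.not_true, Bool.false_or, Bool.and_eq_true] at h
  have h1 := h.1
  have hcol : colFast D.rank D.nroots (getOf D) r (code j) = colSpec D r (code j) :=
    colFast_ok (treeOf_ok hD) r hr (code j)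
  rw [hcol, List.all_eq_true] at h1
  rw [ChevalleyDatum.x, dif_pos hr, xMat_colSpec]
  unfold colVal
  apply List.sum_eq_zero
  intro v hv
  simp only [List.mem_map] at hv
  obtain ⟨e, he, rfl⟩ := hv
  by_cases hc : e.1 = code i
  · rw [if_pos hc]
    have h2 := h1 e he
    rw [hc, Bool.or_eq_true, decide_eq_true_eq] at h2
    rcases h2 with h2 | h2
    · exact absurd h2 hi
    · have : ((e.2.2 : ℤ) : F) = 0 := by
        rw [CharP.intCast_eq_zero_iff F T.c]
        exact Int.dvd_of_emod_eq_zero h2
      rw [this, zero_mul]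
  · rw [if_neg hc]

theorem x_sub2 {r : ℕ} (hr : r < D.nroots) (t : F) :
    sub2 (pI D T) (piE hT) (D.x F r t) = sub1 (pI D T) (D.x F (T.rho D.rank r) (t ^ T.lamF r)) := by
  ext a b
  have h := (allR_iff _ _).mp ((allR_iff _ _).mp hT.hX r hr) (code b.1) (code_lt b.1)
  have hb' : T.inI (code b.1) = true := b.2
  have ha' : T.inI (code a.1) = true := a.2
  rw [hb', Bool.not_true, Bool.false_or, Bool.and_eq_true] at h
  have h1 := (allR_iff _ _).mp h.2 (code a.1) (code_lt a.1)
  have hcol1 : colFast D.rank D.nroots (getOf D) r (T.pcF (code b.1)) = colSpec D r (T.pcF (code b.1)) :=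
    colFast_ok (treeOf_ok hD) r hr _
  have hcol2 : colFast D.rank D.nroots (getOf D) (T.rho D.rank r) (code b.1) =
      colSpec D (T.rho D.rank r) (code b.1) := colFast_ok (treeOf_ok hD) _ (hT.rho_lt hr) _
  rw [ha', Bool.not_true, Bool.false_or, decide_eq_true_eq, hcol1, hcol2] at h1
  show D.x F r t (piFun D T a.1) (piFun D T b.1) = D.x F (T.rho D.rank r) (t ^ T.lamF r) a.1 b.1
  rw [ChevalleyDatum.x, dif_pos hr, xMat_colSpec, ChevalleyDatum.x, dif_pos (hT.rho_lt hr), xMat_colSpec,
    code_piFun hT, code_piFun hT, colVal_eq_evalL, colVal_eq_evalL, ← evalL_normL T.c, h1,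
    ← evalL_normL T.c (t ^ T.lamF r), evalL_pow]

end

end Cfsg.Agent.Lib.Helper8
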