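import Cfsg.Agent.Lib.Helper8.Struct2
import Cfsg.Prelude.Def_ChevAutomorphisms

set_option autoImplicit false
set_option linter.unusedSectionVars false
namespace Cfsg.Agent.Lib.Helper8
open Cfsg Cfsg.Lie

instance decDiagSym (D : ChevalleyDatum) (π : Equiv.Perm (Fin D.rank)) : Decidable (D.IsDiagramSymmetry π) := by
  unfold ChevalleyDatum.IsDiagramSymmetry; infer_instance

def permOK (D : ChevalleyDatum) : Prop :=
  ∀ π : Equiv.Perm (Fin D.rank), D.IsDiagramSymmetry π →
    (∀ i : Fin D.rank, D.permRoot π (D.simple i) = D.simple (π i)) ∧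
    ∀ (r : Fin D.nroots), D.permRoot π r < D.nroots ∧ ∀ (i : Fin D.rank),
      D.permRoot π r = D.reflectRoot (π i) (D.permRoot π (D.reflectRoot i r))

instance decPermOK (D : ChevalleyDatum) : Decidable (permOK D) := by unfold permOK; infer_instance

theorem permOK_D4 : permOK chevD4 := by decide +kernel
theorem permOK_E6 : permOK chevE6 := by decide +kernel

section
variable {D : ChevalleyDatum} (hD : D ∈ allData) {F : Type*} [Field F]
include hD

/-- the root elements as elements of the subtype -/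
def xS (r : ℕ) (t : F) : ↥(D.group F) := ⟨xG hD F r t, xG_mem_group hD r t⟩

theorem graph_on_roots (hok : permOK D) (π : Equiv.Perm (Fin D.rank)) (hπ : D.IsDiagramSymmetry π)
    (φ : ↥(D.group F) ≃* ↥(D.group F))
    (h1 : ∀ (i : Fin D.rank) (t : F), ((φ (xS hD (D.simple i) t) : ↥(D.group F)) : GL D.Idx F) = xG hD F (D.simple (π i)) t)
    (h2 : ∀ (i : Fin D.rank) (t : F), ((φ (xS hD (D.neg (D.simple i)) t) : ↥(D.group F)) : GL D.Idx F) =
      xG hD F (D.neg (D.simple (π i))) t) {r : ℕ} (hr : r < D.nroots) :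
    ∃ ε : F, (ε = 1 ∨ ε = -1) ∧ ∀ t : F,
      ((φ (xS hD r t) : ↥(D.group F)) : GL D.Idx F) = xG hD F (D.permRoot π r) (ε * t) := by
  obtain ⟨hs, hw⟩ := hok π hπ
  refine root_induction hD (P := fun r => ∃ ε : F, (ε = 1 ∨ ε = -1) ∧ ∀ t : F,
      ((φ (xS hD r t) : ↥(D.group F)) : GL D.Idx F) = xG hD F (D.permRoot π r) (ε * t)) ?_ ?_ r hr
  · intro i hi
    refine ⟨1, Or.inl rfl, fun t => ?_⟩
    rw [one_mul, hs ⟨i, hi⟩]
    exact h1 ⟨i, hi⟩ t
  · intro i hi r hr ⟨ε, hε, ih⟩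
    set s := D.reflectRoot i r with hsdef
    have hslt : s < D.nroots := reflect_lt hD hi hr
    have hw1 := (hw ⟨r, hr⟩).2 ⟨i, hi⟩
    have hplt := (hw ⟨s, hslt⟩).1
    simp only at hw1 hplt
    let nn : ↥(D.group F) := xS hD (D.simple i) 1 * xS hD (D.neg (D.simple i)) (-(1 : F)⁻¹) * xS hD (D.simple i) 1
    have hnn : ((φ nn : ↥(D.group F)) : GL D.Idx F) = nS hD F (π ⟨i, hi⟩) := by
      show ((φ (xS hD (D.simple i) 1 * xS hD (D.neg (D.simple i)) (-(1 : F)⁻¹) * xS hD (D.simple i) 1) :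
        ↥(D.group F)) : GL D.Idx F) = _
      rw [map_mul, map_mul, Subgroup.coe_mul, Subgroup.coe_mul, h1 ⟨i, hi⟩, h2 ⟨i, hi⟩]
      rfl
    have hx : ∀ t : F, xS hD r t = nn * xS hD s ((etaOf D i s : F) * t) * nn⁻¹ := by
      intro t
      apply Subtype.ext
      have h3 := conj_nS_x hD hi hslt ((etaOf D i s : F) * t)
      rw [hsdef, reflect_reflect hD hi hr, ← mul_assoc, etaF_sq, one_mul, MulAut.conj_apply] at h3
      exact h3.symm
    refine ⟨(etaOf D (π ⟨i, hi⟩) (D.permRoot π s) : F) * (ε * (etaOf D i s : F)), ?_, fun t => ?_⟩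
    · rcases eta_cases (D := D) (π ⟨i, hi⟩) (D.permRoot π s) with e1 | e1 <;>
        rcases eta_cases (D := D) i s with e2 | e2 <;> rcases hε with e3 | e3 <;>
        rw [e1, e2, e3] <;> simp
    · rw [hx t, map_mul, map_mul, map_inv, Subgroup.coe_mul, Subgroup.coe_mul, Subgroup.coe_inv, hnn, ih]
      have h4 := conj_nS_x hD (π ⟨i, hi⟩).2 hplt (ε * ((etaOf D i s : F) * t))
      rw [MulAut.conj_apply] at h4
      rw [h4, hw1]
      congr 1
      ring

end

end Cfsg.Agent.Lib.Helper8
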