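import Cfsg.Agent.Lib.Helper8.IsoB
import Cfsg.Agent.Lib.Helper8.PermAut

set_option autoImplicit false
set_option linter.unusedSectionVars false
set_option linter.unusedVariables false
set_option linter.unusedSimpArgs false

/-! The special isogenies of G₂ (characteristic 3) and F₄ (characteristic 2). -/

namespace Cfsg.Agent.Lib.Helper8

open Cfsg Cfsg.Lie

def isoG2 : IsoData where
  c := 3
  pc := [1, 0, 4, 5, 2, 3, 7, 6, 9, 8, 12, 13, 10, 11]
  isI := [true, false, false, false, true, true, true, false, false, true, true, true, false, false]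
  lam := [1, 1, 3, 3, 3, 1, 1, 3, 3, 3, 1, 1]

def isoF4 : IsoData where
  c := 2
  pc := [3, 2, 1, 0, 7, 11, 12, 4, 13, 15, 22, 5, 6, 8, 19, 9, 20, 25, 27, 14, 16, 23, 10, 21, 26, 17, 24, 18, 37, 31, 38, 29, 34, 45, 32, 39, 41, 28, 30, 35, 46, 36, 47, 49, 50, 33, 40, 42, 51, 43, 44, 48]
  isI := [true, true, false, false, false, false, false, true, false, false, false, true, true, true, true, true, true, true, true, false, false, false, true, true, true, false, false, false, false, false, false, true, true, true, false, false, false, true, true, true, true, true, true, true, true, false, false, false, true, false, false, false]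
  lam := [1, 1, 1, 2, 1, 1, 1, 2, 2, 2, 2, 2, 2, 2, 2, 1, 1, 1, 2, 2, 2, 1, 1, 1, 1, 1, 1, 2, 2, 2, 1, 1, 1, 2, 2, 2, 2, 2, 2, 2, 2, 1, 1, 1, 2, 1, 1, 1]

def isoB2 : IsoData where
  c := 2
  pc := [1, 0, 3, 2, 5, 4, 7, 6, 9, 8]
  isI := [true, false, false, true, true, false, false, true, true, false]
  lam := [1, 2, 2, 1, 1, 2, 2, 1]

theorem isoOK_G2 : IsoOK chevG2 isoG2 := ⟨by decide +kernel, by decide +kernel⟩
theorem isoOK_F4 : IsoOK chevF4 isoF4 := ⟨by decide +kernel, by decide +kernel⟩
theorem isoOK_B2 : IsoOK chevB2 isoB2 := ⟨by decide +kernel, by decide +kernel⟩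

section
variable {D : ChevalleyDatum} (hD : D ∈ allData) {T : IsoData} (hT : IsoOK D T)
  {F : Type*} [Field F] [CharP F T.c]
include hD

theorem group_induction {P : ↥(D.group F) → Prop} (hx : ∀ r < D.nroots, ∀ t, P (xS hD r t)) (h1 : P 1)
    (hmul : ∀ a b, P a → P b → P (a * b)) (hinv : ∀ a, P a → P a⁻¹) : ∀ g, P g := by
  rintro ⟨g, hg⟩
  induction hg using Subgroup.closure_induction with
  | mem x hx' =>
    obtain ⟨r, t, e⟩ := id hx'
    have : (⟨x, Subgroup.subset_closure hx'⟩ : ↥(D.group F)) = xS hD r.1 t := by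
      apply Subtype.ext
      apply Units.ext
      show (x : Matrix D.Idx D.Idx F) = D.x F r.1 t
      rw [e, ChevalleyDatum.x, dif_pos r.2]
    show P ⟨x, Subgroup.subset_closure hx'⟩
    rw [this]
    exact hx r.1 r.2 t
  | one => exact h1
  | mul x y hx' hy' ihx ihy => exact hmul _ _ ihx ihy
  | inv x hx' ih => exact hinv _ ih

theorem group_le_stabI : D.group F ≤ stabI F (pI D T) (piE hT) (piE_spec hT) := by
  rw [ChevalleyDatum.group, Subgroup.closure_le]
  rintro g ⟨r, t, hg⟩
  have : g = xG hD F r.1 t := Units.ext (by rw [hg, xG_coe, ChevalleyDatum.x, dif_pos r.2])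
  rw [this]
  refine ⟨x_invI hT hD r.2 t, ?_⟩
  rw [xG_inv]
  exact x_invI hT hD r.2 (-t)

/-- the action on the ideal -/
def isoR1 : ↥(D.group F) →* GL {i // pI D T i} F :=
  (rep1 F (pI D T) (piE hT) (piE_spec hT)).comp (Subgroup.inclusion (group_le_stabI hD hT))
/-- the action on the quotient by the ideal -/
def isoR2 : ↥(D.group F) →* GL {i // pI D T i} F :=
  (rep2 F (pI D T) (piE hT) (piE_spec hT)).comp (Subgroup.inclusion (group_le_stabI hD hT))

theorem isoR2_x {r : ℕ} (hr : r < D.nroots) (t : F) :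
    isoR2 hD hT (xS hD r t) = isoR1 hD hT (xS hD (T.rho D.rank r) (t ^ T.lamF r)) := by
  apply Units.ext
  exact x_sub2 hT hD hr t

end

end Cfsg.Agent.Lib.Helper8
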