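import Cfsg.Agent.Lib.Helper8.IsoC
import Cfsg.Agent.Lib.Helper8.FieldAut

set_option autoImplicit false
set_option linter.unusedSectionVars false
set_option linter.unusedVariables false
set_option linter.unusedSimpArgs false

/-! The special isogenies: construction of the endomorphism. -/

namespace Cfsg.Agent.Lib.Helper8

open Cfsg Cfsg.Lie

/-- a witness for the nontriviality of the action on the ideal -/
structure IsoW (D : ChevalleyDatum) (T : IsoData) (r0 : ℕ) : Prop where
  lt : r0 < D.nroots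
  nlt : D.neg r0 < D.nroots
  ne : D.neg r0 ≠ r0
  in1 : T.inI (D.rank + r0) = true
  in2 : T.inI (D.rank + D.neg r0) = true
  ent : normL T.c (cfL (colFast D.rank D.nroots (getOf D) r0 (D.rank + D.neg r0)) (D.rank + r0)) = [(2, (T.c : ℤ) - 1)]

theorem isoW_G2 : IsoW chevG2 isoG2 7 := ⟨by decide, by decide, by decide, by decide, by decide, by decide +kernel⟩
theorem isoW_F4 : IsoW chevF4 isoF4 33 := ⟨by decide, by decide, by decide, by decide, by decide, by decide +kernel⟩

section
variable {D : ChevalleyDatum} (hD : D ∈ allData) {T : IsoData} (hT : IsoOK D T)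
  {F : Type*} [Field F] [CharP F T.c]
include hD

theorem isoR1_ne_one {r0 : ℕ} (hW : IsoW D T r0) : isoR1 hD hT (xS hD r0 (1 : F)) ≠ 1 := by
  intro h
  have h1 := congrArg (fun g : GL {i // pI D T i} F => (g : Matrix {i // pI D T i} {i // pI D T i} F)
    ⟨Sum.inr ⟨r0, hW.lt⟩, hW.in1⟩ ⟨Sum.inr ⟨D.neg r0, hW.nlt⟩, hW.in2⟩) h
  have h2 : D.x F r0 (1 : F) (Sum.inr ⟨r0, hW.lt⟩) (Sum.inr ⟨D.neg r0, hW.nlt⟩) = 0 := by
    have : ((1 : GL {i // pI D T i} F) : Matrix {i // pI D T i} {i // pI D T i} F)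
      ⟨Sum.inr ⟨r0, hW.lt⟩, hW.in1⟩ ⟨Sum.inr ⟨D.neg r0, hW.nlt⟩, hW.in2⟩ = 0 := by
      rw [Units.val_one]
      apply Matrix.one_apply_ne
      intro hh
      have := congrArg (fun z : {i // pI D T i} => code z.1) hh
      simp only [code_inr] at this
      exact hW.ne (by omega)
    rw [← this]
    exact h1
  have hcol : colFast D.rank D.nroots (getOf D) r0 (D.rank + D.neg r0) = colSpec D r0 (D.rank + D.neg r0) :=
    colFast_ok (treeOf_ok hD) r0 hW.lt _
  have h3 := hW.ent
  rw [hcol] at h3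
  rw [ChevalleyDatum.x, dif_pos hW.lt, xMat_colSpec, colVal_eq_evalL, ← evalL_normL T.c] at h2
  simp only [code_inr] at h2
  rw [h3] at h2
  simp [evalL] at h2

variable (hinj : Function.Injective (isoR1 hD hT (F := F)))

theorem isoR1_injective (hs : IsSimpleGroup ↥(D.group F)) {r0 : ℕ} (hW : IsoW D T r0) :
    Function.Injective (isoR1 hD hT (F := F)) := by
  rw [← MonoidHom.ker_eq_bot_iff]
  rcases hs.eq_bot_or_eq_top_of_normal (isoR1 hD hT (F := F)).ker (MonoidHom.normal_ker _) with h | h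
  · exact h
  · exfalso
    have : xS hD r0 (1 : F) ∈ (isoR1 hD hT (F := F)).ker := by rw [h]; exact Subgroup.mem_top _
    exact isoR1_ne_one hD hT hW this

theorem isoR2_mem_range (g : ↥(D.group F)) : isoR2 hD hT g ∈ (isoR1 hD hT (F := F)).range := by
  refine group_induction hD (P := fun g => isoR2 hD hT g ∈ (isoR1 hD hT (F := F)).range) ?_ ?_ ?_ ?_ g
  · intro r hr t
    exact ⟨_, (isoR2_x hD hT hr t).symm⟩
  · rw [map_one]; exact one_mem _
  · intro a b ha hb
    rw [map_mul]; exact mul_mem ha hb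
  · intro a ha
    rw [map_inv]; exact inv_mem ha

/-- the special isogeny -/
noncomputable def isoTau : ↥(D.group F) →* ↥(D.group F) :=
  ((MonoidHom.ofInjective hinj).symm.toMonoidHom).comp
    ((isoR2 hD hT).codRestrict (isoR1 hD hT (F := F)).range (isoR2_mem_range hD hT))

theorem isoR1_tau (g : ↥(D.group F)) : isoR1 hD hT (isoTau hD hT hinj g) = isoR2 hD hT g := by
  have h := (MonoidHom.ofInjective hinj).apply_symm_apply
    ((isoR2 hD hT).codRestrict (isoR1 hD hT (F := F)).range (isoR2_mem_range hD hT) g)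
  exact congrArg Subtype.val h

theorem isoTau_x {r : ℕ} (hr : r < D.nroots) (t : F) :
    isoTau hD hT hinj (xS hD r t) = xS hD (T.rho D.rank r) (t ^ T.lamF r) := by
  apply hinj
  rw [isoR1_tau, isoR2_x hD hT hr]

theorem isoTau_injective (hs : IsSimpleGroup ↥(D.group F)) : Function.Injective (isoTau hD hT hinj) := by
  rw [← MonoidHom.ker_eq_bot_iff]
  rcases hs.eq_bot_or_eq_top_of_normal (isoTau hD hT hinj).ker (MonoidHom.normal_ker _) with h | h
  · exact h
  · exfalso
    have hn : 0 < D.nroots := by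
      have := all_of (P := fun D => 0 < D.nroots) (by decide) (by decide) (by decide) (by decide) (by decide)
        (by decide) (by decide) D hD
      exact this
    have h1 : xS hD 0 (1 : F) ∈ (isoTau hD hT hinj).ker := by rw [h]; exact Subgroup.mem_top _
    rw [MonoidHom.mem_ker, isoTau_x hD hT hinj hn, one_pow] at h1
    have h2 : xG hD F (T.rho D.rank 0) 1 = xG hD F (T.rho D.rank 0) 0 := by
      rw [xG_zero]; exact congrArg Subtype.val h1
    exact one_ne_zero (xG_inj hD (hT.rho_lt hn) h2)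

theorem isoTau_surjective (hperf : ∀ r < D.nroots, ∀ u : F, ∃ t : F, t ^ T.lamF r = u) :
    Function.Surjective (isoTau hD hT hinj) := by
  refine group_induction hD (P := fun g => ∃ a, isoTau hD hT hinj a = g) ?_ ?_ ?_ ?_
  · intro r hr u
    obtain ⟨t, ht⟩ := hperf _ (hT.rho_lt hr) u
    refine ⟨xS hD (T.rho D.rank r) t, ?_⟩
    rw [isoTau_x hD hT hinj (hT.rho_lt hr), hT.rho_rho hr, ht]
  · exact ⟨1, map_one _⟩
  · rintro a b ⟨a', rfl⟩ ⟨b', rfl⟩
    exact ⟨a' * b', map_mul _ _ _⟩
  · rintro a ⟨a', rfl⟩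
    exact ⟨a'⁻¹, map_inv _ _⟩

end

end Cfsg.Agent.Lib.Helper8
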