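import Cfsg.Agent.Lib.Helper8.BN2
import Cfsg.Agent.Lib.Helper8.WData

set_option autoImplicit false
set_option linter.unusedSectionVars false

namespace Cfsg.Agent.Lib.Helper8

open Cfsg Cfsg.Lie

/-! ### the longest element of the Weyl group -/

noncomputable def wR9 (nrow : ℕ → ℕ) (L : List ℕ) : ℕ → ℕ :=
  List.rec (fun s => s) (fun i _ ih s => ih (w9 (nrow i) s)) L

theorem wR9_cons (nrow : ℕ → ℕ) (i : ℕ) (L : List ℕ) (s : ℕ) :
    wR9 nrow (i :: L) s = wR9 nrow L (w9 (nrow i) s) := rfl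

noncomputable def chkW0 (D : ChevalleyDatum) (nrow : ℕ → ℕ) (L : List ℕ) : Bool :=
  L.all (fun i => Nat.blt i D.rank) &&
    allR (fun s => Nat.blt s (D.nroots / 2) || Nat.blt (wR9 nrow L s) (D.nroots / 2)) D.nroots

theorem chkW0_all : ∀ D ∈ allData, chkW0 D (nrowOf D) (w0Of D) = true := by
  apply all_of <;> decide +kernel

section
variable {D : ChevalleyDatum} (hD : D ∈ allData) {F : Type*} [Field F]
include hD

theorem wR9_eq (L : List ℕ) (hL : ∀ i ∈ L, i < D.rank) {s : ℕ} (hs : s < D.nroots) :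
    wR9 (nrowOf D) L s = wR D L s := by
  induction L generalizing s with
  | nil => rfl
  | cons i L ih =>
    have hi := hL i List.mem_cons_self
    rw [wR9_cons, w9_eq hD hi hs]
    exact ih (fun j hj => hL j (List.mem_cons_of_mem _ hj)) (reflect_lt hD hi hs)

theorem w0_lt : ∀ i ∈ w0Of D, i < D.rank := by
  have h := chkW0_all D hD
  rw [chkW0, Bool.and_eq_true, List.all_eq_true] at h
  intro i hi
  have := h.1 i hi
  rwa [Nat.blt_eq] at this

theorem w0_pos {s : ℕ} (hs : D.IsPosRoot s) : D.IsNegRoot (wR D (w0Of D) s) := by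
  have h := chkW0_all D hD
  rw [chkW0, Bool.and_eq_true, allR_iff] at h
  have h1 := h.2 s hs.1
  rw [wR9_eq hD _ (w0_lt hD) hs.1, Bool.or_eq_true, Nat.blt_eq, Nat.blt_eq] at h1
  rw [isPos_iff hD] at hs
  rw [isNeg_iff hD]
  omega

theorem w0_neg {s : ℕ} (hs : D.IsNegRoot s) : D.IsPosRoot (wR D (w0Of D) s) := by
  have hs' := hs.1
  have hact := act_nR (F := ℚ) hD (w0Of D) (w0_lt hD)
  have h1 := w0_pos hD ((isPos_neg_iff hD hs').mpr hs)
  rw [hact.neg s hs'] at h1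
  exact (isNeg_neg_iff hD (hact.lt s hs')).mp h1

/-- a representative of the longest element -/
def n0 (F : Type*) [Field F] : GL D.Idx F := nR hD F (w0Of D)

theorem n0_mem : n0 hD F ∈ D.monomialSubgroup F := nR_mem_mono hD _ (w0_lt hD)

theorem act_n0 : Act hD (n0 hD F) (wR D (w0Of D)) := act_nR hD _ (w0_lt hD)

/-- the inverse of an element of `N` acts by the inverse permutation -/
theorem act_inv {m : GL D.Idx F} (hm : m ∈ D.monomialSubgroup F) {π : ℕ → ℕ} (h : Act hD m π) :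
    ∃ π', Act hD m⁻¹ π' ∧ (∀ s < D.nroots, π (π' s) = s) ∧ (∀ s < D.nroots, π' (π s) = s) := by
  obtain ⟨π', h'⟩ := exists_act hD (Subgroup.inv_mem _ hm)
  have hone : Act hD (1 : GL D.Idx F) id := by
    refine ⟨fun _ h => h, fun _ _ => rfl, fun s _ => ⟨1, fun t => ?_⟩⟩
    simp
  refine ⟨π', h', fun s hs => ?_, fun s hs => ?_⟩
  · have a := h.mul h'
    rw [mul_inv_cancel] at a
    exact a.unique hone s hs
  · have a := h'.mul h
    rw [inv_mul_cancel] at a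
    exact a.unique hone s hs

theorem conj_n0_posU :
    (D.posUnipotent F).map (MulAut.conj (n0 hD F)).toMonoidHom = D.negUnipotent F := by
  have hact := act_n0 (F := F) hD
  apply le_antisymm
  · rw [Subgroup.map_le_iff_le_comap, ChevalleyDatum.posUnipotent, Subgroup.closure_le]
    rintro g ⟨r, t, hr, hg⟩
    rw [eq_xG hD hg]
    obtain ⟨κ, hκ⟩ := hact.conj r hr.1
    show n0 hD F * xG hD F r t * (n0 hD F)⁻¹ ∈ D.negUnipotent F
    rw [hκ]
    exact xG_mem_negU hD (w0_pos hD hr) _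
  · rw [ChevalleyDatum.negUnipotent, Subgroup.closure_le]
    rintro g ⟨r, t, hr, hg⟩
    rw [eq_xG hD hg]
    obtain ⟨π', h', h1, _⟩ := act_inv hD (n0_mem hD) hact
    obtain ⟨κ, hκ⟩ := h'.conj r hr.1
    have hpos : D.IsPosRoot (π' r) := by
      rcases pos_or_neg hD (h'.lt r hr.1) with h | h
      · exact h
      · exfalso
        have := w0_neg hD h
        rw [h1 r hr.1] at this
        exact not_pos_and_neg hD this hr
    refine ⟨xG hD F (π' r) (κ * t), xG_mem_posU hD hpos _, ?_⟩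
    show n0 hD F * xG hD F (π' r) (κ * t) * (n0 hD F)⁻¹ = _
    rw [← hκ]
    group

/-- `n₀ B n₀⁻¹ ≤ V H` -/
theorem conj_n0_borel {b : GL D.Idx F} (hb : b ∈ D.borelSubgroup F) :
    n0 hD F * b * (n0 hD F)⁻¹ ∈ D.negUnipotent F ⊔ D.diagonalSubgroup F := by
  obtain ⟨u, hu, h, hh, rfl⟩ := mem_borel hD hb
  have e : n0 hD F * (u * h) * (n0 hD F)⁻¹ =
      (n0 hD F * u * (n0 hD F)⁻¹) * (n0 hD F * h * (n0 hD F)⁻¹) := by group
  rw [e]
  refine Subgroup.mul_mem _ ((le_sup_left : D.negUnipotent F ≤ _) ?_)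
    ((le_sup_right : D.diagonalSubgroup F ≤ _) (mono_conj_diag hD (n0_mem hD) hh))
  rw [← conj_n0_posU hD]
  exact ⟨u, hu, rfl⟩

theorem tG_eq_one_of_chi {c : ℕ → Fˣ} (h : ∀ s < D.nroots, chi D c s = 1) : tG D c = 1 := by
  apply Units.ext
  rw [tG_coe, Units.val_one, tMat, ← Matrix.diagonal_one]
  congr 1
  funext k
  rcases k with k | s
  · rw [code_inl, chiC_inl D _ k.2]; rfl
  · rw [code_inr, chiC_inr, h s s.2]; rfl

/-- the normal core of `B` in the Chevalley group is trivial -/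
theorem borel_core : ((D.borelSubgroup F).subgroupOf (D.group F)).normalCore = ⊥ := by
  rw [eq_bot_iff]
  intro k hk
  rw [Subgroup.mem_bot]
  have hcore : ∀ g : ↥(D.group F), g * k * g⁻¹ ∈ (D.borelSubgroup F).subgroupOf (D.group F) := hk
  -- k ∈ B
  have hkB : (k : GL D.Idx F) ∈ D.borelSubgroup F := by
    have := hcore 1
    rw [one_mul, inv_one, mul_one] at this
    exact this
  -- k ∈ V H
  have hn0 : n0 hD F ∈ D.group F := mono_le_group hD (n0_mem hD)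
  have hkV : (k : GL D.Idx F) ∈ D.negUnipotent F ⊔ D.diagonalSubgroup F := by
    have h1 : (n0 hD F)⁻¹ * (k : GL D.Idx F) * (n0 hD F)⁻¹⁻¹ ∈ D.borelSubgroup F :=
      hcore (⟨n0 hD F, hn0⟩ : ↥(D.group F))⁻¹
    have h2 := conj_n0_borel hD h1
    have e : n0 hD F * ((n0 hD F)⁻¹ * (k : GL D.Idx F) * (n0 hD F)⁻¹⁻¹) * (n0 hD F)⁻¹ = k := by group
    rwa [e] at h2
  have hkH : (k : GL D.Idx F) ∈ D.diagonalSubgroup F := by
    rw [← borel_inf_negBorel hD]
    exact ⟨hkB, hkV⟩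
  rw [diag_eq_torus hD] at hkH
  obtain ⟨c, hc⟩ := hkH
  apply Subtype.ext
  rw [← hc, Subgroup.coe_one]
  apply tG_eq_one_of_chi hD
  intro s hs
  -- x_s(1) k x_s(1)⁻¹ ∈ core ≤ H
  have h1 : xG hD F s 1 * (k : GL D.Idx F) * (xG hD F s 1)⁻¹ ∈ D.borelSubgroup F :=
    hcore ⟨xG hD F s 1, xG_mem_group hD s 1⟩
  have h1' : xG hD F s 1 * (k : GL D.Idx F) * (xG hD F s 1)⁻¹ ∈
      D.negUnipotent F ⊔ D.diagonalSubgroup F := by
    have h3 : (n0 hD F)⁻¹ * (xG hD F s 1 * (k : GL D.Idx F) * (xG hD F s 1)⁻¹) * (n0 hD F)⁻¹⁻¹ ∈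
        D.borelSubgroup F := by
      have := hcore ((⟨n0 hD F, hn0⟩ : ↥(D.group F))⁻¹ * ⟨xG hD F s 1, xG_mem_group hD s 1⟩)
      have e : (((⟨n0 hD F, hn0⟩ : ↥(D.group F))⁻¹ * ⟨xG hD F s 1, xG_mem_group hD s 1⟩) * k *
          ((⟨n0 hD F, hn0⟩ : ↥(D.group F))⁻¹ * ⟨xG hD F s 1, xG_mem_group hD s 1⟩)⁻¹ : ↥(D.group F)).1 =
          (n0 hD F)⁻¹ * (xG hD F s 1 * (k : GL D.Idx F) * (xG hD F s 1)⁻¹) * (n0 hD F)⁻¹⁻¹ := by
        simp only [Subgroup.coe_mul, Subgroup.coe_inv]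
        group
      rw [← e]
      exact this
    have h2 := conj_n0_borel hD h3
    have e : n0 hD F * ((n0 hD F)⁻¹ * (xG hD F s 1 * (k : GL D.Idx F) * (xG hD F s 1)⁻¹) * (n0 hD F)⁻¹⁻¹) *
        (n0 hD F)⁻¹ = xG hD F s 1 * (k : GL D.Idx F) * (xG hD F s 1)⁻¹ := by group
    rwa [e] at h2
  have h2 : xG hD F s 1 * (k : GL D.Idx F) * (xG hD F s 1)⁻¹ ∈ D.diagonalSubgroup F := by
    rw [← borel_inf_negBorel hD]
    exact ⟨h1, h1'⟩
  -- hence x_s(1 - χ(s)) ∈ H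
  have h3 : xG hD F s (1 - (chi D c s : Fˣ)) ∈ D.diagonalSubgroup F := by
    have e : xG hD F s (1 - (chi D c s : Fˣ)) =
        (xG hD F s 1 * (k : GL D.Idx F) * (xG hD F s 1)⁻¹) * (k : GL D.Idx F)⁻¹ := by
      rw [← hc, mul_assoc, mul_assoc, xG_inv]
      have : tG D c * (xG hD F s (-1) * (tG D c)⁻¹) = xG hD F s ((chi D c s : Fˣ) * (-1)) := by
        rw [← mul_assoc, conj_tG_x hD c hs]
      rw [this, xG_mul]
      congr 1
      ring
    rw [e]
    refine Subgroup.mul_mem _ h2 (Subgroup.inv_mem _ ?_)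
    rw [diag_eq_torus hD]
    exact ⟨c, hc⟩
  have h4 : xG hD F s (1 - (chi D c s : Fˣ)) = 1 := by
    rcases pos_or_neg hD hs with hp | hn
    · have : xG hD F s (1 - (chi D c s : Fˣ)) ∈ D.posUnipotent F ⊓ D.diagonalSubgroup F :=
        ⟨xG_mem_posU hD hp _, h3⟩
      rwa [posU_inf_diag hD, Subgroup.mem_bot] at this
    · have : xG hD F s (1 - (chi D c s : Fˣ)) ∈ D.borelSubgroup F ⊓ D.negUnipotent F :=
        ⟨diag_le_borel hD h3, xG_mem_negU hD hn _⟩
      rwa [borel_inf_negU hD, Subgroup.mem_bot] at this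
  rw [xG_eq_one_iff hD hs, sub_eq_zero] at h4
  exact Units.ext h4.symm

end

end Cfsg.Agent.Lib.Helper8
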