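import Cfsg.Agent.Lib.Helper8.NTabs
import Cfsg.Agent.Lib.Helper8.IdComm

set_option autoImplicit false

namespace Cfsg.Agent.Lib.Helper8

open Cfsg Cfsg.Lie

/-! ### induction on roots along simple reflections -/

def muR (n r : ℕ) : ℕ := bif Nat.ble (n / 2) r then r - n / 2 else n - r

noncomputable def chkRootInd (D : ChevalleyDatum) (nrow : ℕ → ℕ) : Bool :=
  allR (fun r => anyR (fun i => Nat.beq r (D.simple i) ||
    Nat.blt (muR D.nroots (w9 (nrow i) r)) (muR D.nroots r)) D.rank) D.nroots

theorem chkRootInd_all : ∀ D ∈ allData, chkRootInd D (nrowOf D) = true := by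
  apply all_of <;> decide +kernel

theorem root_induction {D : ChevalleyDatum} (hD : D ∈ allData) {P : ℕ → Prop}
    (hs : ∀ i < D.rank, P (D.simple i))
    (hw : ∀ i < D.rank, ∀ r < D.nroots, P (D.reflectRoot i r) → P r) : ∀ r < D.nroots, P r := by
  have key : ∀ m r, muR D.nroots r = m → r < D.nroots → P r := by
    intro m
    induction m using Nat.strong_induction_on with
    | _ m ih =>
      intro r hm hr
      have h := chkRootInd_all D hD
      rw [chkRootInd, allR_iff] at h
      obtain ⟨i, hi, h1⟩ := (anyR_iff _ _).mp (h r hr)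
      rw [Bool.or_eq_true, Nat.beq_eq, Nat.blt_eq, w9_eq hD hi hr] at h1
      rcases h1 with h1 | h1
      · rw [h1]; exact hs i hi
      · exact hw i hi r hr (ih _ (by omega) _ rfl (reflect_lt hD hi hr))
  intro r hr
  exact key _ r rfl hr

end Cfsg.Agent.Lib.Helper8
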