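import Cfsg.Agent.Lib.Helper8.Torus
import Cfsg.Agent.Lib.Helper8.RootInd

set_option autoImplicit false

namespace Cfsg.Agent.Lib.Helper8

open Cfsg Cfsg.Lie

/-! ### the elements `n_r(t)`, `h_r(t)` of the general linear group -/

section
variable {D : ChevalleyDatum} (hD : D ∈ allData) (F : Type*) [Field F]

def nG (r : ℕ) (t : F) : GL D.Idx F := xG hD F r t * xG hD F (D.neg r) (-t⁻¹) * xG hD F r t

def hG (r : ℕ) (t : F) : GL D.Idx F := nG hD F r t * nG hD F r (-1)

/-- `n_{p_i}` -/
abbrev nS (i : ℕ) : GL D.Idx F := nG hD F (D.simple i) 1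

variable {F}

@[simp] theorem nG_coe (r : ℕ) (t : F) :
    ((nG hD F r t : GL D.Idx F) : Matrix D.Idx D.Idx F) = D.nMat F r t := by
  rw [nMat_eq]
  simp [nG, mul_assoc]

@[simp] theorem hG_coe (r : ℕ) (t : F) :
    ((hG hD F r t : GL D.Idx F) : Matrix D.Idx D.Idx F) = D.hMat F r t := by
  rw [hMat_eq]
  simp [hG]

theorem eq_nG {r : ℕ} {t : F} {g : GL D.Idx F} (h : (g : Matrix D.Idx D.Idx F) = D.nMat F r t) :
    g = nG hD F r t := Units.ext (by rw [h, nG_coe])

theorem eq_hG {r : ℕ} {t : F} {g : GL D.Idx F} (h : (g : Matrix D.Idx D.Idx F) = D.hMat F r t) :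
    g = hG hD F r t := Units.ext (by rw [h, hG_coe])

theorem nG_inv (r : ℕ) (t : F) : (nG hD F r t)⁻¹ = nG hD F r (-t) := by
  unfold nG
  rw [mul_inv_rev, mul_inv_rev, xG_inv, xG_inv, inv_neg, mul_assoc]

theorem hG_mul {r : ℕ} (hr : r < D.nroots) {t₁ t₂ : F} (h₁ : t₁ ≠ 0) (h₂ : t₂ ≠ 0) :
    hG hD F r t₁ * hG hD F r t₂ = hG hD F r (t₁ * t₂) :=
  Units.ext (by simp only [Units.val_mul, hG_coe]; exact hMat_mul hD hr h₁ h₂)

theorem etaF_sq (i s : ℕ) : ((etaOf D i s : ℤ) : F) * ((etaOf D i s : ℤ) : F) = 1 := by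
  rcases eta_cases (D := D) i s with h | h <;> simp [h]

theorem etaF_inv (i s : ℕ) : (((etaOf D i s : ℤ) : F))⁻¹ = ((etaOf D i s : ℤ) : F) :=
  inv_eq_of_mul_eq_one_left (etaF_sq i s)

include hD in
theorem eta_neg {i s : ℕ} (hi : i < D.rank) (hs : s < D.nroots) :
    etaOf D i (D.neg s) = etaOf D i s := by
  have h := eta_mul_neg hD hi hs
  rcases eta_cases (D := D) i s with h1 | h1 <;> rcases eta_cases (D := D) i (D.neg s) with h2 | h2 <;>
    rw [h1, h2] at h <;> simp_all

theorem conj_nS_x {i s : ℕ} (hi : i < D.rank) (hs : s < D.nroots) (t : F) :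
    MulAut.conj (nS hD F i) (xG hD F s t) = xG hD F (D.reflectRoot i s) ((etaOf D i s : F) * t) := by
  rw [MulAut.conj_apply, mul_inv_eq_iff_eq_mul]
  apply Units.ext
  simp only [Units.val_mul, nG_coe, xG_coe]
  exact n_simple_x hD hi hs t

theorem conj_nS_n {i r : ℕ} (hi : i < D.rank) (hr : r < D.nroots) (t : F) :
    MulAut.conj (nS hD F i) (nG hD F r t) = nG hD F (D.reflectRoot i r) ((etaOf D i r : F) * t) := by
  unfold nG
  rw [map_mul, map_mul, conj_nS_x hD hi hr, conj_nS_x hD hi (neg_lt' hD r hr), reflect_neg hD hi hr,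
    eta_neg hD hi hr, mul_inv, etaF_inv, mul_neg]

theorem nG_sq (r : ℕ) : nG hD F r 1 * nG hD F r 1 = (hG hD F r (-1))⁻¹ := by
  unfold hG
  rw [mul_inv_rev, nG_inv, neg_neg]

theorem conj_nS_h {i r : ℕ} (hi : i < D.rank) (hr : r < D.nroots) {t : F} (ht : t ≠ 0) :
    MulAut.conj (nS hD F i) (hG hD F r t) = hG hD F (D.reflectRoot i r) t := by
  have hw := reflect_lt hD hi hr
  conv_lhs => unfold hG
  rw [map_mul, conj_nS_n hD hi hr, conj_nS_n hD hi hr]
  rcases eta_cases (D := D) i r with h | h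
  · rw [h]; simp [hG]
  · rw [h]
    simp only [Int.cast_neg, Int.cast_one, neg_mul, one_mul, neg_neg]
    have h1 : nG hD F (D.reflectRoot i r) (-t) = hG hD F (D.reflectRoot i r) (-t) * nG hD F (D.reflectRoot i r) 1 := by
      unfold hG
      rw [mul_assoc, ← nG_inv hD _ (1 : F), inv_mul_cancel, mul_one]
    rw [h1, mul_assoc, nG_sq, mul_inv_eq_iff_eq_mul, hG_mul hD hw ht (neg_ne_zero.mpr one_ne_zero)]
    simp

end

/-! ### the action of `n_{p_i}` on the torus -/

def hcoI (get : ℕ → RootRec) (s j : ℕ) : ℤ := (get s).hco.getD j 0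

noncomputable def chkRefl (D : ChevalleyDatum) (get : ℕ → RootRec) (nrow : ℕ → ℕ) : Bool :=
  allR (fun i => allR (fun s => allR (fun j =>
    decide (hcoI get (w9 (nrow i) s) j = hcoI get s j + hcoI get s i * hcoI get (D.simple i) j))
      D.rank) D.nroots) D.rank

theorem chkRefl_all : ∀ D ∈ allData, chkRefl D (getOf D) (nrowOf D) = true := by
  apply all_of <;> decide +kernel

section
variable {D : ChevalleyDatum} (hD : D ∈ allData) {F : Type*} [Field F]
include hD

theorem cartan_reflect {i j s : ℕ} (hi : i < D.rank) (hj : j < D.rank) (hs : s < D.nroots) :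
    D.cartan j (D.reflectRoot i s) = D.cartan j s - D.cartan i s * D.cartan j (D.simple i) := by
  have h := chkRefl_all D hD
  simp only [chkRefl, allR_iff, decide_eq_true_eq] at h
  have h1 := h i hi s hs j hj
  rw [w9_eq hD hi hs] at h1
  have e1 : hcoI (getOf D) (D.reflectRoot i s) j = - D.cartan j (D.reflectRoot i s) :=
    get_hco (treeOf_ok hD) (reflect_lt hD hi hs) hj
  have e2 : hcoI (getOf D) s j = - D.cartan j s := get_hco (treeOf_ok hD) hs hj
  have e3 : hcoI (getOf D) s i = - D.cartan i s := get_hco (treeOf_ok hD) hs hi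
  have e4 : hcoI (getOf D) (D.simple i) j = - D.cartan j (D.simple i) :=
    get_hco (treeOf_ok hD) (simple_lt hD hi) hj
  rw [e1, e2, e3, e4] at h1
  linarith

theorem chi_reflect (c : ℕ → Fˣ) {i s : ℕ} (hi : i < D.rank) (hs : s < D.nroots) :
    chi D c (D.reflectRoot i s) = chi D c s * (chi D c (D.simple i)) ^ (- D.cartan i s) := by
  unfold chi
  rw [← Finset.prod_zpow, ← Finset.prod_mul_distrib]
  apply Finset.prod_congr rfl
  intro j hj
  rw [cartan_reflect hD hi (Finset.mem_range.mp hj) hs, ← zpow_mul, ← zpow_add]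
  congr 1
  ring

theorem cartan_self {i : ℕ} (hi : i < D.rank) : D.cartan i (D.simple i) = 2 := by
  rw [← AOf_simple hD hi (simple_lt hD hi)]
  unfold AOf aInt
  rw [Nat.beq_refl]
  rfl

/-- `n_{p_i} h(χ) = h(χ ∘ w_i) n_{p_i}` -/
theorem nS_tG (c : ℕ → Fˣ) {i : ℕ} (hi : i < D.rank) :
    nS hD F i * tG D c =
      tG D (c * Function.update (1 : ℕ → Fˣ) i (chi D c (D.simple i))⁻¹) * nS hD F i := by
  apply Units.ext
  simp only [Units.val_mul, nG_coe, tG_coe]
  unfold tMat
  apply mul_diag_eq_diag_mul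
  intro row col hne
  rcases col with j0 | s
  · rw [nMat_simple_inl hD hi] at hne
    rcases row with j' | s'
    · rw [code_inl, code_inl, chiC_inl D _ j0.2, chiC_inl D _ j'.2]
    · exfalso
      apply hne
      have h1 : code (Sum.inr s' : D.Idx) ≠ j0.val := by
        have := j0.2; simp only [code_inr]; omega
      have h2 : code (Sum.inr s' : D.Idx) ≠ i := by
        simp only [code_inr]; omega
      rw [if_neg h1, if_neg h2, sub_zero]
  · rw [nMat_simple_inr hD hi] at hne
    have h1 : code row = D.rank + D.reflectRoot i s := by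
      by_contra hh
      exact hne (if_neg hh)
    rw [h1, code_inr, chiC_inr, chiC_inr, chi_mul, chi_update D hi, chi_reflect hD c hi s.2,
      cartan_reflect hD hi hi s.2, cartan_self hD hi]
    congr 1
    rw [mul_assoc, inv_zpow', ← zpow_add]
    have : -D.cartan i ↑s + -(D.cartan i ↑s - D.cartan i ↑s * 2) = 0 := by ring
    rw [this, zpow_zero, mul_one]

theorem conj_nS_tG (c : ℕ → Fˣ) {i : ℕ} (hi : i < D.rank) :
    MulAut.conj (nS hD F i) (tG D c) =
      tG D (c * Function.update (1 : ℕ → Fˣ) i (chi D c (D.simple i))⁻¹) := by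
  rw [MulAut.conj_apply, mul_inv_eq_iff_eq_mul]
  exact nS_tG hD c hi

theorem hG_simple_eq_tG {i : ℕ} (hi : i < D.rank) (a : Fˣ) :
    hG hD F (D.simple i) (a : F) = tG D (Function.update (1 : ℕ → Fˣ) i a) :=
  Units.ext (by rw [hG_coe, tG_coe]; exact hMat_simple_eq_tMat hD hi a)

theorem hG_mem_torus {r : ℕ} (hr : r < D.nroots) : ∀ a : Fˣ, hG hD F r (a : F) ∈ torus D F := by
  refine root_induction hD (P := fun r => ∀ a : Fˣ, hG hD F r (a : F) ∈ torus D F) ?_ ?_ r hr
  · intro i hi a
    exact ⟨_, (hG_simple_eq_tG hD hi a).symm⟩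
  · intro i hi r hr ih a
    obtain ⟨c, hc⟩ := ih a
    have h1 := conj_nS_h hD hi (reflect_lt hD hi hr) (t := (a : F)) a.ne_zero
    rw [reflect_reflect hD hi hr, ← hc, conj_nS_tG hD c hi] at h1
    exact ⟨_, h1⟩

theorem diag_le_torus : D.diagonalSubgroup F ≤ torus D F := by
  rw [ChevalleyDatum.diagonalSubgroup, Subgroup.closure_le]
  rintro g ⟨r, t, hr, ht, hg⟩
  rw [eq_hG hD hg]
  exact hG_mem_torus hD hr (Units.mk0 t ht)

theorem hG_mem_diag {r : ℕ} (hr : r < D.nroots) {t : F} (ht : t ≠ 0) :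
    hG hD F r t ∈ D.diagonalSubgroup F :=
  Subgroup.subset_closure ⟨r, t, hr, ht, hG_coe hD r t⟩

omit hD in
theorem tMat_congr {c c' : ℕ → Fˣ} (h : ∀ i < D.rank, c i = c' i) : tMat D c = tMat D c' := by
  unfold tMat chiC
  congr 1
  funext k
  congr 1
  apply Finset.prod_congr rfl
  intro i hi
  rw [h i (Finset.mem_range.mp hi)]

theorem prod_hMat (c : ℕ → Fˣ) (m : ℕ) (hm : m ≤ D.rank) :
    ((List.range m).map (fun i => D.hMat F (D.simple i) (c i : F))).prod =
      tMat D (fun i => if i < m then c i else 1) := by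
  induction m with
  | zero =>
    simp only [List.range_zero, List.map_nil, List.prod_nil, Nat.not_lt_zero, if_false]
    exact (tMat_one D).symm
  | succ m ih =>
    rw [List.range_succ, List.map_append, List.prod_append, ih (by omega), List.map_singleton,
      List.prod_singleton, hMat_simple_eq_tMat hD (by omega), tMat_mul]
    congr 1
    funext i
    rw [Pi.mul_apply]
    by_cases h1 : i = m
    · subst h1; simp
    · rw [Function.update_of_ne h1]
      by_cases h2 : i < m
      · rw [if_pos h2, if_pos (by omega)]; simp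
      · rw [if_neg h2, if_neg (by omega)]; simp

theorem tMat_eq_prod (c : ℕ → Fˣ) :
    tMat D c = ((List.range D.rank).map (fun i => D.hMat F (D.simple i) (c i : F))).prod := by
  rw [prod_hMat hD c D.rank le_rfl]
  apply tMat_congr
  intro i hi
  rw [if_pos hi]

theorem tG_eq_prod (c : ℕ → Fˣ) :
    tG D c = ((List.range D.rank).map (fun i => hG hD F (D.simple i) (c i : F))).prod := by
  apply Units.ext
  rw [tG_coe, tMat_eq_prod hD]
  have : ∀ L : List ℕ, (((L.map (fun i => hG hD F (D.simple i) (c i : F))).prod : GL D.Idx F) :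
      Matrix D.Idx D.Idx F) = (L.map (fun i => D.hMat F (D.simple i) (c i : F))).prod := by
    intro L
    induction L with
    | nil => simp
    | cons a L ih => simp only [List.map_cons, List.prod_cons, Units.val_mul, hG_coe, ih]
  rw [this]

theorem torus_le_diag : torus D F ≤ D.diagonalSubgroup F := by
  rintro _ ⟨c, rfl⟩
  rw [tG_eq_prod hD]
  apply Subgroup.list_prod_mem
  intro x hx
  simp only [List.mem_map, List.mem_range] at hx
  obtain ⟨i, hi, rfl⟩ := hx
  exact hG_mem_diag hD (simple_lt hD hi) (c i).ne_zero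

/-- `H` is the torus -/
theorem diag_eq_torus : D.diagonalSubgroup F = torus D F :=
  le_antisymm (diag_le_torus hD) (torus_le_diag hD)

end

end Cfsg.Agent.Lib.Helper8
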