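import Cfsg.Agent.Lib.Helper8.Struct2

set_option autoImplicit false

namespace Cfsg.Agent.Lib.Helper8

open Cfsg Cfsg.Lie

/-! ### distinct root subgroups meet trivially -/

def chkInj1 (l n : ℕ) (get : ℕ → RootRec) (a b : ℕ) : Bool :=
  Nat.beq a b || (colFast l n get b (l + (get a).neg)).all (fun e => !(Nat.beq e.1 (l + a)))

noncomputable def chkInj (l n : ℕ) (get : ℕ → RootRec) : Bool :=
  allR (fun a => allR (fun b => chkInj1 l n get a b) n) n

theorem chkInj_all : ∀ D ∈ allData, chkInj D.rank D.nroots (getOf D) = true := by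
  apply all_of <;> decide +kernel

section
variable {D : ChevalleyDatum} (hD : D ∈ allData) {F : Type*} [Field F]
include hD

theorem x_entry_self {a : ℕ} (ha : a < D.nroots) (t : F) :
    D.x F a t (Sum.inr ⟨a, ha⟩) (Sum.inr ⟨D.neg a, neg_lt' hD a ha⟩) = -(t ^ 2) := by
  have hne := neg_ne hD ha
  have hne' : (⟨D.neg a, neg_lt' hD a ha⟩ : Fin D.nroots) ≠ ⟨a, ha⟩ := by
    intro hh; exact hne (Fin.mk.inj_iff.mp hh)
  rw [ChevalleyDatum.x, dif_pos ha]
  simp only [ChevalleyDatum.xMat, Matrix.of_apply]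
  rw [if_neg hne', if_pos (show D.neg a = D.negIdx.getD a 0 from rfl), if_neg hne'.symm, if_pos trivial]

theorem x_entry_other {a b : ℕ} (ha : a < D.nroots) (hb : b < D.nroots) (hab : a ≠ b) (u : F) :
    D.x F b u (Sum.inr ⟨a, ha⟩) (Sum.inr ⟨D.neg a, neg_lt' hD a ha⟩) = 0 := by
  have h := chkInj_all D hD
  simp only [chkInj, allR_iff] at h
  have h1 := h a ha b hb
  have hcol : colFast D.rank D.nroots (getOf D) b (D.rank + (getOf D a).neg) =
      colSpec D b (D.rank + (getOf D a).neg) := colFast_ok (treeOf_ok hD) b hb _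
  have hneg : (getOf D a).neg = D.neg a := get_neg (treeOf_ok hD) ha
  rw [chkInj1, hcol, hneg, Bool.or_eq_true, Nat.beq_eq, List.all_eq_true] at h1
  rcases h1 with h1 | h1
  · exact absurd h1 hab
  · rw [ChevalleyDatum.x, dif_pos hb, xMat_colSpec]
    apply colVal_eq_zero
    intro e he hh
    have := h1 e he
    simp only [code_inr] at hh
    rw [hh, Nat.beq_refl] at this
    simp at this

theorem xG_root_inj {a b : ℕ} (ha : a < D.nroots) (hb : b < D.nroots) {t u : F} (ht : t ≠ 0)
    (h : xG hD F a t = xG hD F b u) : a = b := by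
  by_contra hab
  have h1 : D.x F a t = D.x F b u := congrArg Units.val h
  have h2 := congrFun (congrFun h1 (Sum.inr ⟨a, ha⟩)) (Sum.inr ⟨D.neg a, neg_lt' hD a ha⟩)
  rw [x_entry_self hD ha, x_entry_other hD ha hb hab] at h2
  exact ht (by simpa using h2)

theorem xG_eq_one_iff {r : ℕ} (hr : r < D.nroots) (t : F) : xG hD F r t = 1 ↔ t = 0 := by
  rw [← x_eq_one_iff hD F hr t]
  constructor
  · intro h; exact congrArg Units.val h
  · intro h; exact Units.ext h

end

/-! ### the action of monomial elements on the root subgroups -/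

/-- `m` conjugates `X_s` onto `X_{π s}` -/
structure Act {D : ChevalleyDatum} (hD : D ∈ allData) {F : Type*} [Field F] (m : GL D.Idx F)
    (π : ℕ → ℕ) : Prop where
  lt : ∀ s < D.nroots, π s < D.nroots
  neg : ∀ s < D.nroots, π (D.neg s) = D.neg (π s)
  conj : ∀ s < D.nroots, ∃ κ : Fˣ, ∀ t : F, m * xG hD F s t * m⁻¹ = xG hD F (π s) (κ * t)

section
variable {D : ChevalleyDatum} (hD : D ∈ allData) {F : Type*} [Field F]

theorem act_tG (c : ℕ → Fˣ) : Act hD (tG D c : GL D.Idx F) id :=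
  ⟨fun _ h => h, fun _ _ => rfl, fun s hs => ⟨chi D c s, fun t => conj_tG_x hD c hs t⟩⟩

theorem etaF_ne_zero (i s : ℕ) : ((etaOf D i s : ℤ) : F) ≠ 0 := by
  intro h
  have := etaF_sq (D := D) (F := F) i s
  rw [h, mul_zero] at this
  exact zero_ne_one this

theorem act_nS {i : ℕ} (hi : i < D.rank) : Act hD (nS hD F i) (D.reflectRoot i) :=
  ⟨fun _ h => reflect_lt hD hi h, fun _ h => reflect_neg hD hi h,
    fun s hs => ⟨Units.mk0 _ (etaF_ne_zero i s), fun t => conj_nS_x hD hi hs t⟩⟩

variable {hD}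

theorem Act.mul {m m' : GL D.Idx F} {π π' : ℕ → ℕ} (h : Act hD m π) (h' : Act hD m' π') :
    Act hD (m * m') (π ∘ π') := by
  refine ⟨fun s hs => h.lt _ (h'.lt s hs), fun s hs => ?_, fun s hs => ?_⟩
  · simp only [Function.comp]
    rw [h'.neg s hs, h.neg _ (h'.lt s hs)]
  · obtain ⟨κ', hκ'⟩ := h'.conj s hs
    obtain ⟨κ, hκ⟩ := h.conj _ (h'.lt s hs)
    refine ⟨κ * κ', fun t => ?_⟩
    have : m * m' * xG hD F s t * (m * m')⁻¹ = m * (m' * xG hD F s t * m'⁻¹) * m⁻¹ := by group
    rw [this, hκ', hκ, Units.val_mul, mul_assoc]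
    rfl

theorem Act.unique {m : GL D.Idx F} {π π' : ℕ → ℕ} (h : Act hD m π) (h' : Act hD m π') :
    ∀ s < D.nroots, π s = π' s := by
  intro s hs
  obtain ⟨κ, hκ⟩ := h.conj s hs
  obtain ⟨κ', hκ'⟩ := h'.conj s hs
  have := (hκ 1).symm.trans (hκ' 1)
  exact xG_root_inj hD (h.lt s hs) (h'.lt s hs) (by simp) this

end

/-! ### words in the fundamental reflections -/

/-- the composite of the reflections of a word, the head acting first -/
def wR (D : ChevalleyDatum) : List ℕ → ℕ → ℕ
  | [], s => s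
  | i :: L, s => wR D L (D.reflectRoot i s)

/-- the product of the `n_{p_i}` of a word, in reverse order -/
def nR {D : ChevalleyDatum} (hD : D ∈ allData) (F : Type*) [Field F] : List ℕ → GL D.Idx F
  | [] => 1
  | i :: L => nR hD F L * nS hD F i

theorem wR_append (D : ChevalleyDatum) (A B : List ℕ) (s : ℕ) : wR D (A ++ B) s = wR D B (wR D A s) := by
  induction A generalizing s with
  | nil => rfl
  | cons i A ih => exact ih _

section
variable {D : ChevalleyDatum} (hD : D ∈ allData) {F : Type*} [Field F]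

theorem nR_append (A B : List ℕ) : nR hD F (A ++ B) = nR hD F B * nR hD F A := by
  induction A with
  | nil => simp [nR]
  | cons i A ih =>
    show nR hD F (A ++ B) * nS hD F i = nR hD F B * (nR hD F A * nS hD F i)
    rw [ih, mul_assoc]

theorem act_nR (L : List ℕ) (hL : ∀ i ∈ L, i < D.rank) : Act hD (nR hD F L) (wR D L) := by
  induction L with
  | nil =>
    refine ⟨fun _ h => h, fun _ _ => rfl, fun s _ => ⟨1, fun t => ?_⟩⟩
    simp [nR, wR]
  | cons i L ih =>
    exact (ih (fun j hj => hL j (List.mem_cons_of_mem _ hj))).mul (act_nS hD (hL i List.mem_cons_self))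

theorem nR_mem_mono (L : List ℕ) (hL : ∀ i ∈ L, i < D.rank) : nR hD F L ∈ D.monomialSubgroup F := by
  induction L with
  | nil => exact Subgroup.one_mem _
  | cons i L ih =>
    exact Subgroup.mul_mem _ (ih (fun j hj => hL j (List.mem_cons_of_mem _ hj)))
      (nS_mem_mono hD (hL i List.mem_cons_self))

theorem conj_nR_n (L : List ℕ) (hL : ∀ i ∈ L, i < D.rank) {r : ℕ} (hr : r < D.nroots) {ε : F}
    (hε : ε = 1 ∨ ε = -1) :
    ∃ ε' : F, (ε' = 1 ∨ ε' = -1) ∧
      nR hD F L * nG hD F r ε * (nR hD F L)⁻¹ = nG hD F (wR D L r) ε' := by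
  induction L generalizing r ε with
  | nil => exact ⟨ε, hε, by simp [nR, wR]⟩
  | cons i L ih =>
    have hi := hL i List.mem_cons_self
    have h1 := conj_nS_n hD hi hr ε
    rw [MulAut.conj_apply] at h1
    have hε2 : ((etaOf D i r : ℤ) : F) * ε = 1 ∨ ((etaOf D i r : ℤ) : F) * ε = -1 := by
      rcases eta_cases (D := D) i r with h | h <;> rcases hε with h' | h' <;> simp [h, h']
    obtain ⟨ε', hε', h2⟩ := ih (fun j hj => hL j (List.mem_cons_of_mem _ hj)) (reflect_lt hD hi hr) hε2
    refine ⟨ε', hε', ?_⟩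
    show nR hD F L * nS hD F i * nG hD F r ε * (nR hD F L * nS hD F i)⁻¹ = _
    have : nR hD F L * nS hD F i * nG hD F r ε * (nR hD F L * nS hD F i)⁻¹ =
        nR hD F L * (nS hD F i * nG hD F r ε * (nS hD F i)⁻¹) * (nR hD F L)⁻¹ := by group
    rw [this, h1, h2]
    rfl

end

end Cfsg.Agent.Lib.Helper8
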