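import Cfsg.Agent.Lib.Helper8.NStruct

set_option autoImplicit false

namespace Cfsg.Agent.Lib.Helper8

open Cfsg Cfsg.Lie

section
variable {D : ChevalleyDatum} (hD : D ∈ allData) {F : Type*} [Field F]
include hD

theorem nS_sq_mem_diag {i : ℕ} (hi : i < D.rank) : nS hD F i * nS hD F i ∈ D.diagonalSubgroup F := by
  rw [nG_sq]
  exact Subgroup.inv_mem _ (hG_mem_diag hD (simple_lt hD hi) (neg_ne_zero.mpr one_ne_zero))

theorem nS_conj_diag {i : ℕ} (hi : i < D.rank) {h : GL D.Idx F} (hh : h ∈ D.diagonalSubgroup F) :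
    nS hD F i * h * (nS hD F i)⁻¹ ∈ D.diagonalSubgroup F := by
  rw [diag_eq_torus hD] at hh ⊢
  obtain ⟨c, rfl⟩ := hh
  have := conj_nS_tG hD c hi
  rw [MulAut.conj_apply] at this
  rw [this]
  exact ⟨_, rfl⟩

theorem nS_mem_normalizer {i : ℕ} (hi : i < D.rank) :
    nS hD F i ∈ Subgroup.normalizer (D.diagonalSubgroup F : Set (GL D.Idx F)) := by
  rw [Subgroup.mem_normalizer_iff]
  intro h
  refine ⟨nS_conj_diag hD hi, fun hh => ?_⟩
  have h1 := nS_conj_diag hD hi hh
  have h2 := nS_sq_mem_diag (F := F) hD hi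
  have h3 : h = (nS hD F i * nS hD F i)⁻¹ *
      (nS hD F i * (nS hD F i * h * (nS hD F i)⁻¹) * (nS hD F i)⁻¹) * (nS hD F i * nS hD F i) := by group
  rw [h3]
  exact Subgroup.mul_mem _ (Subgroup.mul_mem _ (Subgroup.inv_mem _ h2) h1) h2

/-- the generators `H ∪ {n_{p_i}}` of `N` -/
def monoGens (F : Type*) [Field F] : Set (GL D.Idx F) :=
  (D.diagonalSubgroup F : Set (GL D.Idx F)) ∪ {g | ∃ i < D.rank, g = nS hD F i}

theorem nG_mem_closure {r : ℕ} (hr : r < D.nroots) :
    nG hD F r 1 ∈ Subgroup.closure (monoGens hD F) := by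
  refine root_induction hD (P := fun r => nG hD F r 1 ∈ Subgroup.closure (monoGens hD F)) ?_ ?_ r hr
  · intro i hi
    exact Subgroup.subset_closure (Or.inr ⟨i, hi, rfl⟩)
  · intro i hi r hr ih
    have hn : nS hD F i ∈ Subgroup.closure (monoGens hD F) :=
      Subgroup.subset_closure (Or.inr ⟨i, hi, rfl⟩)
    have h1 := conj_nS_n hD hi (reflect_lt hD hi hr) ((etaOf D i (D.reflectRoot i r) : ℤ) : F)
    rw [reflect_reflect hD hi hr, etaF_sq, MulAut.conj_apply] at h1
    rw [← h1]
    refine Subgroup.mul_mem _ (Subgroup.mul_mem _ hn ?_) (Subgroup.inv_mem _ hn)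
    rcases eta_cases (D := D) i (D.reflectRoot i r) with h | h
    · rw [h]; simpa using ih
    · rw [h]
      have : nG hD F (D.reflectRoot i r) (((-1 : ℤ) : F)) = (nG hD F (D.reflectRoot i r) 1)⁻¹ := by
        rw [nG_inv]; simp
      rw [this]
      exact Subgroup.inv_mem _ ih

theorem mono_eq_closure : D.monomialSubgroup F = Subgroup.closure (monoGens hD F) := by
  apply le_antisymm
  · apply sup_le
    · exact fun h hh => Subgroup.subset_closure (Or.inl hh)
    · rw [Subgroup.closure_le]
      rintro g ⟨r, hr, hg⟩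
      rw [eq_nG hD hg]
      exact nG_mem_closure hD hr
  · rw [Subgroup.closure_le]
    rintro g (hg | ⟨i, hi, rfl⟩)
    · exact diag_le_mono hD hg
    · exact nS_mem_mono hD hi

theorem mono_le_normalizer :
    D.monomialSubgroup F ≤ Subgroup.normalizer (D.diagonalSubgroup F : Set (GL D.Idx F)) := by
  rw [mono_eq_closure hD, Subgroup.closure_le]
  rintro g (hg | ⟨i, hi, rfl⟩)
  · exact Subgroup.le_normalizer hg
  · exact nS_mem_normalizer hD hi

theorem diag_normal_mono : ((D.diagonalSubgroup F).subgroupOf (D.monomialSubgroup F)).Normal :=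
  (Subgroup.normal_subgroupOf_iff_le_normalizer (diag_le_mono hD)).mpr (mono_le_normalizer hD)

theorem mono_conj_diag {n h : GL D.Idx F} (hn : n ∈ D.monomialSubgroup F)
    (hh : h ∈ D.diagonalSubgroup F) : n * h * n⁻¹ ∈ D.diagonalSubgroup F :=
  (Subgroup.le_normalizer_iff.mp (mono_le_normalizer hD)) n hn h hh

/-- every element of `N` is `h` times a word in the `n_{p_i}` -/
theorem mem_mono {n : GL D.Idx F} (hn : n ∈ D.monomialSubgroup F) :
    ∃ h ∈ D.diagonalSubgroup F, ∃ L : List ℕ, (∀ i ∈ L, i < D.rank) ∧ n = h * nR hD F L := by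
  rw [mono_eq_closure hD] at hn
  have hH : ∀ (h : GL D.Idx F) (L : List ℕ) (h' : GL D.Idx F), h ∈ D.diagonalSubgroup F →
      (∀ i ∈ L, i < D.rank) → h' ∈ D.diagonalSubgroup F →
      ∃ h₂ ∈ D.diagonalSubgroup F, h * nR hD F L * h' = h₂ * nR hD F L := by
    intro h L h' hh hL hh'
    refine ⟨h * (nR hD F L * h' * (nR hD F L)⁻¹),
      Subgroup.mul_mem _ hh (mono_conj_diag hD (nR_mem_mono hD L hL) hh'), by group⟩
  induction hn using Subgroup.closure_induction_right with
  | one => exact ⟨1, Subgroup.one_mem _, [], by simp, by simp [nR]⟩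
  | mul_right x _ y hy ih =>
    obtain ⟨h, hh, L, hL, rfl⟩ := ih
    rcases hy with hy | ⟨i, hi, rfl⟩
    · obtain ⟨h₂, hh₂, e⟩ := hH h L y hh hL hy
      exact ⟨h₂, hh₂, L, hL, e⟩
    · refine ⟨h, hh, i :: L, ?_, by rw [mul_assoc]; rfl⟩
      intro j hj
      rcases List.mem_cons.mp hj with rfl | hj
      · exact hi
      · exact hL j hj
  | mul_inv_cancel x _ y hy ih =>
    obtain ⟨h, hh, L, hL, rfl⟩ := ih
    rcases hy with hy | ⟨i, hi, rfl⟩
    · obtain ⟨h₂, hh₂, e⟩ := hH h L y⁻¹ hh hL (Subgroup.inv_mem _ hy)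
      exact ⟨h₂, hh₂, L, hL, e⟩
    · have hL' : ∀ j ∈ i :: L, j < D.rank := by
        intro j hj
        rcases List.mem_cons.mp hj with rfl | hj
        · exact hi
        · exact hL j hj
      obtain ⟨h₂, hh₂, e⟩ := hH h (i :: L) (nS hD F i * nS hD F i)⁻¹ hh hL'
        (Subgroup.inv_mem _ (nS_sq_mem_diag hD hi))
      refine ⟨h₂, hh₂, i :: L, hL', ?_⟩
      rw [← e]
      show _ = h * (nR hD F L * nS hD F i) * _
      group

theorem isPos_neg_iff {s : ℕ} (hs : s < D.nroots) : D.IsPosRoot (D.neg s) ↔ D.IsNegRoot s := by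
  rw [isPos_iff hD, isNeg_iff hD, neg_eq hD hs]
  have := two_mul_half hD
  omega

theorem isNeg_neg_iff {s : ℕ} (hs : s < D.nroots) : D.IsNegRoot (D.neg s) ↔ D.IsPosRoot s := by
  rw [isPos_iff hD, isNeg_iff hD, neg_eq hD hs]
  have := two_mul_half hD
  omega

theorem not_pos_and_neg {s : ℕ} (h1 : D.IsPosRoot s) (h2 : D.IsNegRoot s) : False := by
  rw [isPos_iff hD] at h1
  rw [isNeg_iff hD] at h2
  omega

theorem reflect_negRoot {i s : ℕ} (hi : i < D.rank) (hs : D.IsNegRoot s) (hne : s ≠ D.neg (D.simple i)) :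
    D.IsNegRoot (D.reflectRoot i s) := by
  have hs' := hs.1
  rw [← isPos_neg_iff hD (reflect_lt hD hi hs'), ← reflect_neg hD hi hs']
  apply reflect_pos hD hi ((isPos_neg_iff hD hs').mpr hs)
  intro h
  apply hne
  rw [← h, neg_neg' hD hs']

/-- a word which makes a negative root positive passes through the negative of a fundamental root -/
theorem exists_split (L : List ℕ) (hL : ∀ i ∈ L, i < D.rank) {β : ℕ} (hβ : D.IsNegRoot β)
    (hpos : D.IsPosRoot (wR D L β)) :
    ∃ v j pre, L = v ++ j :: pre ∧ wR D v β = D.neg (D.simple j) := by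
  induction L generalizing β with
  | nil => exact absurd hβ (fun h => not_pos_and_neg hD hpos h)
  | cons m L ih =>
    by_cases h : β = D.neg (D.simple m)
    · exact ⟨[], m, L, rfl, h⟩
    · obtain ⟨v, j, pre, e1, e2⟩ := ih (fun j hj => hL j (List.mem_cons_of_mem _ hj))
        (reflect_negRoot hD (hL m List.mem_cons_self) hβ h) hpos
      exact ⟨m :: v, j, pre, by rw [e1]; rfl, e2⟩

omit hD in
theorem reflect_simple (i : ℕ) : D.reflectRoot i (D.simple i) = D.neg (D.simple i) := by
  simp [ChevalleyDatum.reflectRoot]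

/-- a word which preserves the positive roots represents an element of `H` -/
theorem nR_mem_diag (L : List ℕ) (hL : ∀ i ∈ L, i < D.rank)
    (hpos : ∀ s, D.IsPosRoot s → D.IsPosRoot (wR D L s)) : nR hD F L ∈ D.diagonalSubgroup F := by
  induction hk : L.length using Nat.strong_induction_on generalizing L with
  | _ k ih =>
    cases L with
    | nil => exact Subgroup.one_mem _
    | cons k0 L' =>
      have hk0 := hL k0 List.mem_cons_self
      have hL' : ∀ i ∈ L', i < D.rank := fun j hj => hL j (List.mem_cons_of_mem _ hj)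
      have hp := simple_lt hD hk0
      have h1 : D.IsPosRoot (wR D L' (D.neg (D.simple k0))) := by
        have := hpos _ (simple_pos hD hk0)
        rwa [wR, reflect_simple] at this
      obtain ⟨v, j, pre, e1, e2⟩ := exists_split hD L' hL'
        ((isNeg_neg_iff hD hp).mpr (simple_pos hD hk0)) h1
      have hv : ∀ i ∈ v, i < D.rank := fun i hi => hL' i (by rw [e1]; simp [hi])
      have hj : j < D.rank := hL' j (by rw [e1]; simp)
      have hpre : ∀ i ∈ pre, i < D.rank := fun i hi => hL' i (by rw [e1]; simp [hi])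
      have hvp : ∀ i ∈ v ++ pre, i < D.rank := by
        intro i hi
        rcases List.mem_append.mp hi with h | h
        · exact hv i h
        · exact hpre i h
      have e3 : wR D v (D.simple k0) = D.simple j := by
        have a1 := (act_nR (F := F) hD v hv).neg _ hp
        rw [e2] at a1
        have a2 := congrArg D.neg a1
        rw [neg_neg' hD (simple_lt hD hj), neg_neg' hD ((act_nR (F := F) hD v hv).lt _ hp)] at a2
        exact a2.symm
      obtain ⟨ε', hε', e4⟩ := conj_nR_n (F := F) hD v hv hp (ε := 1) (Or.inl rfl)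
      rw [e3] at e4
      have h0 : nS hD F j * nG hD F (D.simple j) ε' ∈ D.diagonalSubgroup F := by
        rcases hε' with h | h
        · rw [h]; exact nS_sq_mem_diag hD hj
        · rw [h, ← nG_inv, mul_inv_cancel]; exact Subgroup.one_mem _
      have e5 : nR hD F (k0 :: L') =
          (nR hD F pre * (nS hD F j * nG hD F (D.simple j) ε') * (nR hD F pre)⁻¹) * nR hD F (v ++ pre) := by
        show nR hD F L' * nS hD F k0 = _
        rw [e1, nR_append, nR_append, ← e4]
        show nR hD F pre * nS hD F j * nR hD F v * nS hD F k0 = _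
        group
      have h2 := mono_conj_diag hD (nR_mem_mono hD pre hpre) h0
      have h3 : ∀ s < D.nroots, wR D (k0 :: L') s = wR D (v ++ pre) s := by
        have a1 := act_nR (F := F) hD (k0 :: L') hL
        rw [e5] at a1
        have h2' := h2
        rw [diag_eq_torus hD] at h2'
        obtain ⟨c, hc⟩ := h2'
        have a2 := (act_tG hD c).mul (act_nR (F := F) hD (v ++ pre) hvp)
        rw [hc] at a2
        exact a1.unique a2
      rw [e5]
      refine Subgroup.mul_mem _ h2 (ih (v ++ pre).length ?_ (v ++ pre) hvp ?_ rfl)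
      · rw [← hk, e1]
        simp only [List.length_cons, List.length_append]
        omega
      · intro s hs
        rw [← h3 s hs.1]
        exact hpos s hs

/-- `B ∩ N = H` -/
theorem borel_inf_mono : D.borelSubgroup F ⊓ D.monomialSubgroup F = D.diagonalSubgroup F := by
  apply le_antisymm
  · rintro n ⟨hB, hN⟩
    obtain ⟨h, hh, L, hL, rfl⟩ := mem_mono hD hN
    refine Subgroup.mul_mem _ hh (nR_mem_diag hD L hL ?_)
    have hB' : nR hD F L ∈ D.borelSubgroup F := by
      have := Subgroup.mul_mem _ (Subgroup.inv_mem _ ((le_sup_right : _ ≤ D.borelSubgroup F) hh)) hB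
      rwa [inv_mul_cancel_left] at this
    intro s hs
    have hact := act_nR (F := F) hD L hL
    rcases pos_or_neg hD (hact.lt s hs.1) with h1 | h1
    · exact h1
    · exfalso
      obtain ⟨κ, hκ⟩ := hact.conj s hs.1
      have h2 : xG hD F (wR D L s) (κ * 1) ∈ D.borelSubgroup F ⊓ D.negUnipotent F := by
        refine ⟨?_, xG_mem_negU hD h1 _⟩
        rw [← hκ 1]
        exact Subgroup.mul_mem _ (Subgroup.mul_mem _ hB'
          ((le_sup_left : _ ≤ D.borelSubgroup F) (xG_mem_posU hD hs 1))) (Subgroup.inv_mem _ hB')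
      rw [borel_inf_negU hD, Subgroup.mem_bot, xG_eq_one_iff hD (hact.lt s hs.1)] at h2
      simp at h2
  · exact le_inf le_sup_right (diag_le_mono hD)

theorem posU_inf_mono : D.posUnipotent F ⊓ D.monomialSubgroup F = ⊥ := by
  rw [eq_bot_iff]
  rintro g ⟨h1, h2⟩
  have h3 : g ∈ D.borelSubgroup F ⊓ D.monomialSubgroup F := ⟨(le_sup_left : _ ≤ D.borelSubgroup F) h1, h2⟩
  rw [borel_inf_mono hD] at h3
  have h4 : g ∈ D.posUnipotent F ⊓ D.diagonalSubgroup F := ⟨h1, h3⟩
  rwa [posU_inf_diag hD] at h4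

end

end Cfsg.Agent.Lib.Helper8
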