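import Cfsg.Agent.Lib.Helper8.Tabs
import Cfsg.Agent.Lib.Helper8.NTabG2
import Cfsg.Agent.Lib.Helper8.NTabB2
import Cfsg.Agent.Lib.Helper8.NTabD4
import Cfsg.Agent.Lib.Helper8.NTabF4
import Cfsg.Agent.Lib.Helper8.NTabE6
import Cfsg.Agent.Lib.Helper8.NTabE7
import Cfsg.Agent.Lib.Helper8.NTabE8

set_option autoImplicit false

namespace Cfsg.Agent.Lib.Helper8

open Cfsg Cfsg.Lie

/-- the packed rows of the `n_{p_i}`, selected by the number of roots -/
def nrowOf (D : ChevalleyDatum) : ℕ → ℕ :=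
  if D.nroots = 12 then nrowG2 else if D.nroots = 8 then nrowB2 else if D.nroots = 24 then nrowD4
  else if D.nroots = 48 then nrowF4 else if D.nroots = 72 then nrowE6
  else if D.nroots = 126 then nrowE7 else nrowE8

theorem nrowOf_G2 : nrowOf chevG2 = nrowG2 := rfl
theorem nrowOf_B2 : nrowOf chevB2 = nrowB2 := rfl
theorem nrowOf_D4 : nrowOf chevD4 = nrowD4 := rfl
theorem nrowOf_F4 : nrowOf chevF4 = nrowF4 := rfl
theorem nrowOf_E6 : nrowOf chevE6 = nrowE6 := rfl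
theorem nrowOf_E7 : nrowOf chevE7 = nrowE7 := rfl
theorem nrowOf_E8 : nrowOf chevE8 = nrowE8 := rfl

theorem cW_all {D : ChevalleyDatum} (hD : D ∈ allData) : WOK D (getOf D) (nrowOf D) :=
  all_of (P := fun D => WOK D (getOf D) (nrowOf D)) cW_G2 cW_B2 cW_D4 cW_F4 cW_E6 cW_E7 cW_E8 D hD

theorem chkPos_all : ∀ D ∈ allData, chkPos D = true := by decide +kernel

/-- the sign `η_{i,s}` in `n_{p_i} e_s = η e_{w_i s}` -/
noncomputable def etaOf (D : ChevalleyDatum) (i s : ℕ) : ℤ := e9 (nrowOf D i) s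

section
variable {D : ChevalleyDatum} (hD : D ∈ allData)
include hD

theorem two_mul_half : 2 * (D.nroots / 2) = D.nroots := (chkPos_spec (chkPos_all D hD)).1

theorem neg_eq {r : ℕ} (hr : r < D.nroots) : D.neg r = D.nroots - 1 - r :=
  ((chkPos_spec (chkPos_all D hD)).2 r hr).1

theorem isPos_iff {r : ℕ} : D.IsPosRoot r ↔ D.nroots / 2 ≤ r ∧ r < D.nroots := by
  constructor
  · intro h
    exact ⟨(((chkPos_spec (chkPos_all D hD)).2 r h.1).2.1).mp h, h.1⟩
  · rintro ⟨h1, h2⟩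
    exact (((chkPos_spec (chkPos_all D hD)).2 r h2).2.1).mpr h1

theorem isNeg_iff {r : ℕ} : D.IsNegRoot r ↔ r < D.nroots / 2 := by
  have h2 := two_mul_half hD
  constructor
  · intro h
    exact (((chkPos_spec (chkPos_all D hD)).2 r h.1).2.2).mp h
  · intro h1
    exact (((chkPos_spec (chkPos_all D hD)).2 r (by omega)).2.2).mpr h1

theorem neg_neg' {r : ℕ} (hr : r < D.nroots) : D.neg (D.neg r) = r := by
  rw [neg_eq hD hr, neg_eq hD (by omega)]; omega

theorem w9_eq {i s : ℕ} (hi : i < D.rank) (hs : s < D.nroots) :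
    w9 (nrowOf D i) s = D.reflectRoot i s := (chkW_spec1 (cW_all hD i hi) hs).1

theorem reflect_lt {i s : ℕ} (hi : i < D.rank) (hs : s < D.nroots) : D.reflectRoot i s < D.nroots := by
  rw [← w9_eq hD hi hs]; exact (chkW_spec1 (cW_all hD i hi) hs).2.1

theorem reflect_reflect {i s : ℕ} (hi : i < D.rank) (hs : s < D.nroots) :
    D.reflectRoot i (D.reflectRoot i s) = s := by
  rw [← w9_eq hD hi (reflect_lt hD hi hs), ← w9_eq hD hi hs]
  exact (chkW_spec1 (cW_all hD i hi) hs).2.2.2.2.1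

theorem reflect_neg {i s : ℕ} (hi : i < D.rank) (hs : s < D.nroots) :
    D.reflectRoot i (D.neg s) = D.neg (D.reflectRoot i s) := by
  rw [← w9_eq hD hi (neg_lt' hD s hs), ← w9_eq hD hi hs]
  exact (chkW_spec1 (cW_all hD i hi) hs).2.2.2.2.2.1

theorem reflect_pos {i s : ℕ} (hi : i < D.rank) (hs : D.IsPosRoot s) (hne : s ≠ D.simple i) :
    D.IsPosRoot (D.reflectRoot i s) := by
  rw [isPos_iff hD] at hs ⊢
  refine ⟨?_, reflect_lt hD hi hs.2⟩
  rw [← w9_eq hD hi hs.2]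
  exact (chkW_spec1 (cW_all hD i hi) hs.2).2.2.2.2.2.2 hs.1 hne

omit hD in
theorem eta_cases (i s : ℕ) : etaOf D i s = 1 ∨ etaOf D i s = -1 := sgn9_cases _

theorem eta_simple {i : ℕ} (hi : i < D.rank) : etaOf D i (D.simple i) = -1 :=
  (chkW_spec2 (cW_all hD i hi)).1

theorem eta_neg_simple {i : ℕ} (hi : i < D.rank) : etaOf D i (D.neg (D.simple i)) = -1 :=
  (chkW_spec2 (cW_all hD i hi)).2.1

theorem eta_mul_reflect {i s : ℕ} (hi : i < D.rank) (hs : s < D.nroots) :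
    etaOf D i s * etaOf D i (D.reflectRoot i s) = (-1) ^ (D.cartan i s).natAbs := by
  rw [← w9_eq hD hi hs]
  exact (chkW_spec1 (cW_all hD i hi) hs).2.2.1

theorem eta_mul_neg {i s : ℕ} (hi : i < D.rank) (hs : s < D.nroots) :
    etaOf D i s * etaOf D i (D.neg s) = 1 :=
  (chkW_spec1 (cW_all hD i hi) hs).2.2.2.1

end

end Cfsg.Agent.Lib.Helper8
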