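import Cfsg.Agent.Lib.Helper8.Longest

set_option autoImplicit false
set_option linter.unusedSectionVars false

open scoped commutatorElement

namespace Cfsg.Agent.Lib.Helper8

open Cfsg Cfsg.Lie

/-! ### the Chevalley groups are perfect -/

def okC (two : Bool) (C : ℤ) : Bool :=
  decide (C = 1) || (decide (C = -1) || (two && (decide (C = 2) || decide (C = -2))))

def chkWit1 (n : ℕ) (E : ℕ → ℕ → List (ℕ × ℤ)) (wit : List (ℕ × ℕ × ℕ)) (two : Bool) (k : ℕ) : Bool :=
  Nat.blt (wit.getD k (0, 0, 0)).1 n && (Nat.blt (wit.getD k (0, 0, 0)).2.1 n &&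
  (!(Nat.beq (wit.getD k (0, 0, 0)).2.1 (wit.getD k (0, 0, 0)).1) &&
  (!(Nat.beq (wit.getD k (0, 0, 0)).2.1 (n - 1 - (wit.getD k (0, 0, 0)).1)) &&
  (match commTermsF E (wit.getD k (0, 0, 0)).1 (wit.getD k (0, 0, 0)).2.1 with
  | c :: rest => Nat.beq c.1 k && (Nat.beq c.2.2.1 1 && (Nat.beq c.2.2.2 1 && (okC two c.2.1 &&
      rest.all (fun c' => Nat.blt c'.1 n &&
        Nat.blt (wit.getD c'.1 (0, 0, 0)).2.2 (wit.getD k (0, 0, 0)).2.2))))
  | [] => false))))

noncomputable def chkWit (D : ChevalleyDatum) (get : ℕ → RootRec) (wit : List (ℕ × ℕ × ℕ)) : Bool :=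
  allR (chkWit1 D.nroots (entryF D.rank D.nroots get) wit (Nat.ble D.nroots 12)) D.nroots

theorem chkWit_all : ∀ D ∈ allData, chkWit D (getOf D) (witOf D) = true := by
  apply all_of <;> decide +kernel

section
variable {D : ChevalleyDatum} (hD : D ∈ allData) {F : Type*} [Field F]
include hD

theorem wit_spec {k : ℕ} (hk : k < D.nroots) :
    ∃ r s C rest, r < D.nroots ∧ s < D.nroots ∧ s ≠ r ∧ s ≠ D.neg r ∧
      D.commTerms r s = (k, C, 1, 1) :: rest ∧
      (C = 1 ∨ C = -1 ∨ (D.nroots ≤ 12 ∧ (C = 2 ∨ C = -2))) ∧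
      ∀ c ∈ rest, c.1 < D.nroots ∧ ((witOf D).getD c.1 (0, 0, 0)).2.2 < ((witOf D).getD k (0, 0, 0)).2.2 := by
  have h := chkWit_all D hD
  rw [chkWit, allR_iff] at h
  have h1 := h k hk
  rw [chkWit1, ← commTerms_eq' hD] at h1
  simp only [Bool.and_eq_true, Nat.blt_eq, Bool.not_eq_true'] at h1
  obtain ⟨a1, a2, a3, a4, a5⟩ := h1
  cases hT : D.commTerms ((witOf D).getD k (0, 0, 0)).1 ((witOf D).getD k (0, 0, 0)).2.1 with
  | nil => rw [hT] at a5; simp at a5
  | cons c rest =>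
    rw [hT] at a5
    simp only [Bool.and_eq_true, Nat.beq_eq, List.all_eq_true, Nat.blt_eq, okC, Bool.or_eq_true,
      decide_eq_true_eq, Nat.ble_eq] at a5
    obtain ⟨b1, b2, b3, b4, b5⟩ := a5
    obtain ⟨c1, c2, c3, c4⟩ := c
    simp only at b1 b2 b3 b4
    subst b1 b2 b3
    refine ⟨_, _, c2, rest, a1, a2, ?_, ?_, hT, b4, b5⟩
    · intro hh; rw [hh, Nat.beq_refl] at a3; simp at a3
    · intro hh; rw [neg_eq hD a1] at hh; rw [hh, Nat.beq_refl] at a4; simp at a4

/-- a subgroup containing the commutators of root elements contains all root elements -/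
theorem xG_mem_of_comm {K : Subgroup (GL D.Idx F)}
    (hK : ∀ r s : ℕ, ∀ t u : F, (xG hD F s u)⁻¹ * (xG hD F r t)⁻¹ * xG hD F s u * xG hD F r t ∈ K)
    (h2 : D.nroots ≤ 12 → (2 : F) ≠ 0) : ∀ k < D.nroots, ∀ a : F, xG hD F k a ∈ K := by
  have key : ∀ m k, ((witOf D).getD k (0, 0, 0)).2.2 = m → k < D.nroots → ∀ a : F, xG hD F k a ∈ K := by
    intro m
    induction m using Nat.strong_induction_on with
    | _ m ih =>
      intro k hm hk a
      obtain ⟨r, s, C, rest, hr, hs, hsr, hsn, hT, hC, hrest⟩ := wit_spec hD hk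
      have hC0 : (C : F) ≠ 0 := by
        rcases hC with h | h | ⟨h0, h | h⟩
        · rw [h]; simp
        · rw [h]; simp
        · rw [h]; simpa using h2 h0
        · rw [h]; simpa using h2 h0
      have h1 := conj_inv_x_x hD hr hs hsr hsn (-(a / C)) 1
      have h3 : wG hD (D.commWord F r s (-(a / C)) 1) ∈ K := by
        have e : wG hD (D.commWord F r s (-(a / C)) 1) =
            (xG hD F s 1)⁻¹ * (xG hD F r (-(a / C)))⁻¹ * xG hD F s 1 * xG hD F r (-(a / C)) := by
          rw [mul_assoc, mul_assoc, ← mul_assoc (xG hD F r (-(a / C)))⁻¹, h1, inv_mul_cancel_left]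
        rw [e]
        exact hK _ _ _ _
      rw [ChevalleyDatum.commWord, hT, List.map_cons] at h3
      have e2 : ∀ (p : ℕ × F) (L : List (ℕ × F)), wG hD (p :: L) = xG hD F p.1 p.2 * wG hD L :=
        fun _ _ => by simp [wG]
      rw [e2] at h3
      have e3 : (C : F) * (- -(a / C)) ^ 1 * (1 : F) ^ 1 = a := by
        field_simp
      simp only [e3] at h3
      have h4 : wG hD (rest.map
          (fun c => (c.1, ((c.2.1 : ℤ) : F) * (- -(a / C)) ^ c.2.2.1 * (1 : F) ^ c.2.2.2))) ∈ K := by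
        apply wG_mem
        intro p hp
        simp only [List.mem_map] at hp
        obtain ⟨c, hc, rfl⟩ := hp
        exact ih _ (by rw [← hm]; exact (hrest c hc).2) c.1 rfl (hrest c hc).1 _
      have := Subgroup.mul_mem _ h3 (Subgroup.inv_mem _ h4)
      rwa [mul_inv_cancel_right] at this
  intro k hk a
  exact key _ k rfl hk a

theorem AOf_self (r : ℕ) : AOf D r r = 2 := by
  unfold AOf aInt
  rw [Nat.beq_refl]
  rfl

/-- `h_r(c) x_r(t) h_r(c)⁻¹ = x_r(c² t)` -/
theorem conj_hG_x_self {r : ℕ} (hr : r < D.nroots) {c : F} (hc : c ≠ 0) (t : F) :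
    hG hD F r c * xG hD F r t * (hG hD F r c)⁻¹ = xG hD F r (c ^ 2 * t) := by
  obtain ⟨c', hc'⟩ := hG_mem_torus hD hr (Units.mk0 c hc)
  have h1 : ((chi D c' r : Fˣ) : F) = c ^ 2 := by
    have h2 : tMat D c' = D.hMat F r c := by
      have := congrArg Units.val hc'
      rwa [tG_coe, hG_coe] at this
    have h3 := congrFun (congrFun h2 (Sum.inr ⟨r, hr⟩)) (Sum.inr ⟨r, hr⟩)
    rw [hMat_eq_diag hD hr hc, tMat, Matrix.diagonal_apply_eq, Matrix.diagonal_apply_eq, code_inr,
      chiC_inr] at h3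
    simp only [Sum.elim_inr] at h3
    rw [h3, AOf_self hD]
    norm_cast
  have h4 : hG hD F r c = tG D c' := hc'.symm
  rw [h4, conj_tG_x hD c' hr, h1]

theorem small_cases (h : D.nroots ≤ 12) : D = chevG2 ∨ D = chevB2 := by
  revert h
  exact all_of (P := fun D => D.nroots ≤ 12 → D = chevG2 ∨ D = chevB2) (fun _ => Or.inl rfl)
    (fun _ => Or.inr rfl) (fun h => absurd h (by decide)) (fun h => absurd h (by decide))
    (fun h => absurd h (by decide)) (fun h => absurd h (by decide)) (fun h => absurd h (by decide)) D hD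

theorem group_perfect (h2 : D = chevG2 ∨ D = chevB2 → ∃ a : F, a ≠ 0 ∧ a ≠ 1) :
    commutator ↥(D.group F) = ⊤ := by
  set K : Subgroup (GL D.Idx F) := (commutator ↥(D.group F)).map (D.group F).subtype with hKdef
  have hcomm : ∀ a b : GL D.Idx F, a ∈ D.group F → b ∈ D.group F → a * b * a⁻¹ * b⁻¹ ∈ K := by
    intro a b ha hb
    refine ⟨⁅(⟨a, ha⟩ : ↥(D.group F)), ⟨b, hb⟩⁆, ?_, ?_⟩
    · rw [SetLike.mem_coe, commutator_def]
      exact Subgroup.commutator_mem_commutator (Subgroup.mem_top _) (Subgroup.mem_top _)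
    · rw [commutatorElement_def]
      rfl
  have hall : ∀ k < D.nroots, ∀ a : F, xG hD F k a ∈ K := by
    by_cases hc : ∃ c : F, c ≠ 0 ∧ c ^ 2 ≠ 1
    · obtain ⟨c, hc0, hc1⟩ := hc
      intro k hk a
      have h1 := hcomm (hG hD F k c) (xG hD F k (a / (c ^ 2 - 1))) (hG_mem_group hD _ _)
        (xG_mem_group hD _ _)
      rw [conj_hG_x_self hD hk hc0, xG_inv, xG_mul] at h1
      have h3 : c ^ 2 - 1 ≠ 0 := sub_ne_zero.mpr hc1
      have : c ^ 2 * (a / (c ^ 2 - 1)) + -(a / (c ^ 2 - 1)) = a := by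
        field_simp
        ring
      rwa [this] at h1
    · push Not at hc
      apply xG_mem_of_comm hD
      · intro r s t u
        have := hcomm (xG hD F s u)⁻¹ (xG hD F r t)⁻¹ (Subgroup.inv_mem _ (xG_mem_group hD _ _))
          (Subgroup.inv_mem _ (xG_mem_group hD _ _))
        rwa [inv_inv, inv_inv] at this
      · intro hsmall h20
        obtain ⟨a, ha0, ha1⟩ := h2 (small_cases hD hsmall)
        have h3 := hc a ha0
        have h4 : (a - 1) * (a + 1) = 0 := by ring_nf; rw [h3]; ring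
        rcases mul_eq_zero.mp h4 with h5 | h5
        · exact ha1 (sub_eq_zero.mp h5)
        · apply ha1
          have : a = a + 2 := by rw [h20, add_zero]
          have h6 : a + 2 = (a + 1) + 1 := by ring
          rw [this, h6, h5, zero_add]
  rw [eq_top_iff]
  intro g _
  have hle : D.group F ≤ K := by
    rw [ChevalleyDatum.group, Subgroup.closure_le]
    rintro x ⟨r, t, hx⟩
    have hx' : (x : Matrix D.Idx D.Idx F) = D.x F r.val t := by
      rw [hx, ChevalleyDatum.x, dif_pos r.2]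
    rw [eq_xG hD hx']
    exact hall r.val r.2 t
  obtain ⟨y, hy, e⟩ := hle g.2
  have : y = g := Subtype.ext e
  rw [← this]
  exact hy

end

end Cfsg.Agent.Lib.Helper8
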