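import Mathlib

set_option autoImplicit false

/-! Polynomials with natural coefficients as lists, for kernel computations. -/

namespace Cfsg.Agent.Lib.Helper8

def evalP (c : List ℕ) (x : ℕ) : ℕ := c.foldr (fun a acc => a + x * acc) 0

@[simp] theorem evalP_nil (x : ℕ) : evalP [] x = 0 := rfl
@[simp] theorem evalP_cons (a : ℕ) (c : List ℕ) (x : ℕ) : evalP (a :: c) x = a + x * evalP c x := rfl

def bump : List ℕ → ℕ → List ℕ
  | [], 0 => [1]
  | [], d + 1 => 0 :: bump [] d
  | a :: c, 0 => (a + 1) :: c
  | a :: c, d + 1 => a :: bump c d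

theorem evalP_bump (c : List ℕ) (d x : ℕ) : evalP (bump c d) x = evalP c x + x ^ d := by
  induction d generalizing c with
  | zero => cases c <;> simp [bump]; ring
  | succ d ih =>
    cases c with
    | nil => simp [bump, ih, pow_succ]; ring
    | cons a c => simp [bump, ih, pow_succ]; ring

def histP (L : List (List ℕ)) : List ℕ := L.foldr (fun B c => bump c B.length) []

theorem evalP_histP (L : List (List ℕ)) (x : ℕ) : evalP (histP L) x = (L.map (fun B => x ^ B.length)).sum := by
  induction L with
  | nil => rfl
  | cons B L ih =>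
    show evalP (bump (histP L) B.length) x = _
    rw [evalP_bump, ih, List.map_cons, List.sum_cons, add_comm]

def addP : List ℕ → List ℕ → List ℕ
  | [], b => b
  | a :: as, [] => a :: as
  | a :: as, b :: bs => (a + b) :: addP as bs

theorem evalP_addP (a b : List ℕ) (x : ℕ) : evalP (addP a b) x = evalP a x + evalP b x := by
  induction a generalizing b with
  | nil => simp [addP]
  | cons a as ih =>
    cases b with
    | nil => simp [addP]
    | cons b bs => simp [addP, ih]; ring

def smulP (k : ℕ) (b : List ℕ) : List ℕ := b.map (k * ·)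

theorem evalP_smulP (k : ℕ) (b : List ℕ) (x : ℕ) : evalP (smulP k b) x = k * evalP b x := by
  induction b with
  | nil => simp [smulP]
  | cons b bs ih =>
    have : smulP k (b :: bs) = (k * b) :: smulP k bs := rfl
    rw [this, evalP_cons, ih, evalP_cons]; ring

def mulP : List ℕ → List ℕ → List ℕ
  | [], _ => []
  | a :: as, b => addP (smulP a b) (0 :: mulP as b)

theorem evalP_mulP (a b : List ℕ) (x : ℕ) : evalP (mulP a b) x = evalP a x * evalP b x := by
  induction a with
  | nil => simp [mulP]
  | cons a as ih => simp [mulP, evalP_addP, evalP_smulP, ih]; ring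

def prodP (Ls : List (List ℕ)) : List ℕ := Ls.foldr mulP [1]

theorem evalP_prodP (Ls : List (List ℕ)) (x : ℕ) : evalP (prodP Ls) x = (Ls.map (fun c => evalP c x)).prod := by
  induction Ls with
  | nil => simp [prodP]
  | cons c Ls ih =>
    show evalP (mulP c (prodP Ls)) x = _
    rw [evalP_mulP, ih, List.map_cons, List.prod_cons]

def geoP (d : ℕ) : List ℕ := List.replicate d 1

theorem evalP_geoP (d y : ℕ) : evalP (geoP d) (y + 1) * y + 1 = (y + 1) ^ d := by
  induction d with
  | zero => simp [geoP]
  | succ d ih =>
    have : geoP (d + 1) = 1 :: geoP d := rfl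
    rw [this, evalP_cons, pow_succ, ← ih]; ring

theorem evalP_geoP' (d : ℕ) {q : ℕ} (hq : 1 ≤ q) : evalP (geoP d) q * (q - 1) = q ^ d - 1 := by
  obtain ⟨y, rfl⟩ : ∃ y, q = y + 1 := ⟨q - 1, by omega⟩
  rw [← evalP_geoP d y]
  simp

theorem prod_geoP (degs : List ℕ) {q : ℕ} (hq : 1 ≤ q) :
    (degs.map (fun d => evalP (geoP d) q)).prod * (q - 1) ^ degs.length = (degs.map (fun d => q ^ d - 1)).prod := by
  induction degs with
  | nil => simp
  | cons d degs ih =>
    rw [List.map_cons, List.prod_cons, List.map_cons, List.prod_cons, List.length_cons, pow_succ, ← ih,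
      ← evalP_geoP' d hq]
    ring

theorem prod_range_eq_list (n : ℕ) (f : ℕ → ℕ) : ∏ m ∈ Finset.range n, f m = ((List.range n).map f).prod := by
  induction n with
  | zero => simp
  | succ n ih => rw [Finset.prod_range_succ, ih, List.range_succ, List.map_append, List.prod_append]; simp

end Cfsg.Agent.Lib.Helper8
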