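import Cfsg.Agent.Lib.Helper8.IdN

set_option autoImplicit false
set_option linter.unusedSimpArgs false
set_option linter.unusedVariables false

/-!
Twins of the functions of the engine written with raw operations (`Nat.add`, `Bool.rec`, ...), which the
kernel evaluates in fewer steps.  Every twin is definitionally equal to the original.
-/

namespace Cfsg.Agent.Lib.Helper8

def lookF (row s : ℕ) : ℕ := Nat.land (Nat.shiftRight row (Nat.mul 33 s)) 8589934591
theorem lookF_eq : lookF = look := rfl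

def dec1F (l e : ℕ) (k : ℕ) : ℕ × ℕ × ℤ :=
  (Nat.add l (Nat.sub (Nat.land e 255) 1), k, Int.subNatNat (Nat.land (Nat.shiftRight e 8) 7) 4)
theorem dec1F_eq : dec1F = dec1 := rfl

noncomputable def decode3F (l e3 : ℕ) : List (ℕ × ℕ × ℤ) :=
  Bool.rec [dec1F l e3 3] [] (Nat.beq e3 0)
theorem decode3F_eq : decode3F = decode3 := by
  funext l e; unfold decode3F decode3; cases Nat.beq e 0 <;> rfl

noncomputable def decode2F (l e2 : ℕ) : List (ℕ × ℕ × ℤ) :=
  Bool.rec (dec1F l e2 2 :: decode3F l (Nat.shiftRight e2 11)) [] (Nat.beq e2 0)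
theorem decode2F_eq : decode2F = decode2 := by
  funext l e; unfold decode2F decode2; rw [decode3F_eq]; cases Nat.beq e 0 <;> rfl

noncomputable def decodeF (l e : ℕ) : List (ℕ × ℕ × ℤ) :=
  Bool.rec (dec1F l e 1 :: decode2F l (Nat.shiftRight e 11)) [] (Nat.beq e 0)
theorem decodeF_eq : decodeF = decode := by
  funext l e; unfold decodeF decode; rw [decode2F_eq]; cases Nat.beq e 0 <;> rfl

noncomputable def colEF (l : ℕ) (R : RootRec) (r j s : ℕ) : List (ℕ × ℕ × ℤ) :=
  Bool.rec (Bool.rec ((j, 0, 1) :: decodeF l (lookF R.row s)) ((j, 0, 1) :: R.negCol) (Nat.beq s R.neg))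
    [(j, 0, 1)] (Nat.beq s r)
theorem colEF_eq : colEF = colE := by
  funext l R r j s; unfold colEF colE; rw [decodeF_eq, lookF_eq]
  cases Nat.beq s r <;> cases Nat.beq s R.neg <;> rfl

noncomputable def colFastF (l n : ℕ) (get : ℕ → RootRec) (r j : ℕ) : List (ℕ × ℕ × ℤ) :=
  Bool.rec (Bool.rec (colEF l (get r) r j (Nat.sub j l)) [] (Nat.ble (Nat.add l n) j))
    [(j, 0, 1), (Nat.add l r, 1, (get r).hco.getD j 0)] (Nat.ble (Nat.succ j) l)
theorem colFastF_eq : colFastF = colFast := by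
  funext l n get r j; unfold colFastF colFast; rw [colEF_eq]
  have : Nat.blt j l = Nat.ble (Nat.succ j) l := rfl
  rw [this]
  cases Nat.ble (Nat.succ j) l <;> cases hb : Nat.ble (Nat.add l n) j <;>
    simp only [cond_true, cond_false] <;> (try rw [show Nat.ble (l + n) j = _ from hb]) <;> rfl

noncomputable def isSingleF (C : List (ℕ × ℕ × ℤ)) : Bool :=
  List.rec false (fun _ tl _ => List.rec true (fun _ _ _ => false) tl) C
theorem isSingleF_eq : isSingleF = isSingle := by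
  funext C
  rcases C with _ | ⟨a, _ | ⟨b, C⟩⟩ <;> rfl

def mkTF (e : ℕ × ℕ × ℤ) (m : Term) : Term := ⟨e.1, m.a, m.b, Int.mul e.2.2 m.z⟩
theorem mkTF_eq : mkTF = mkT := rfl

noncomputable def opCF (C : List (ℕ × ℕ × ℤ)) (pw : ℕ → List Term) : List Term :=
  List.rec [] (fun e _ ih => pushMap (mkTF e) (pw e.2.1) ih) C
theorem opCF_eq : opCF = opC := rfl

def mulF (τ σ : Term) : Term := ⟨σ.j, Nat.add τ.a σ.a, Nat.add τ.b σ.b, Int.mul τ.z σ.z⟩
theorem mulF_eq : mulF = Term.mul := rfl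

noncomputable def applyOpF (op : ℕ → List Term) (L : List Term) : List Term :=
  List.rec [] (fun τ _ ih => pushMap (mulF τ) (op τ.j) ih) L
theorem applyOpF_eq : applyOpF = applyOp := rfl

noncomputable def applyXF (col : ℕ → ℕ → List (ℕ × ℕ × ℤ)) (r : ℕ) (pw : ℕ → List Term) (L : List Term) :
    List Term :=
  List.rec [] (fun σ _ ih => Bool.rec (pushMap (mulF σ) (opCF (col r σ.j) pw) ih) (σ :: ih)
    (isSingleF (col r σ.j))) L
theorem applyXF_eq : applyXF = applyX := by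
  funext col r pw L
  induction L with
  | nil => rfl
  | cons σ L ih =>
    have h1 : applyXF col r pw (σ :: L) = (Bool.rec (pushMap (mulF σ) (opCF (col r σ.j) pw) (applyXF col r pw L))
      (σ :: applyXF col r pw L) (isSingleF (col r σ.j)) : List Term) := rfl
    rw [h1, applyX_cons, ih, isSingleF_eq]
    cases isSingle (col r σ.j) <;> rfl

noncomputable def sameF (σ τ : Term) : Bool :=
  Bool.rec false (Bool.rec false (Nat.beq σ.b τ.b) (Nat.beq σ.a τ.a)) (Nat.beq σ.j τ.j)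
theorem sameF_eq : sameF = same := by
  funext σ τ; unfold sameF same
  cases Nat.beq σ.j τ.j <;> cases Nat.beq σ.a τ.a <;> rfl

noncomputable def addTermF (τ : Term) (L : List Term) : List Term :=
  List.rec [τ] (fun σ L' ih => Bool.rec (σ :: ih) (⟨σ.j, σ.a, σ.b, Int.add σ.z τ.z⟩ :: L') (sameF σ τ)) L
theorem addTermF_eq : addTermF = addTerm := by
  funext τ L
  induction L with
  | nil => rfl
  | cons σ L ih =>
    have h1 : addTermF τ (σ :: L) = (Bool.rec (σ :: addTermF τ L) (⟨σ.j, σ.a, σ.b, Int.add σ.z τ.z⟩ :: L)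
      (sameF σ τ) : List Term) := rfl
    rw [h1, addTerm_cons, ih, sameF_eq]
    cases same σ τ <;> rfl

noncomputable def collectF (L : List Term) : List Term := List.rec [] (fun τ _ ih => addTermF τ ih) L
theorem collectF_eq : collectF = collect := by
  funext L
  induction L with
  | nil => rfl
  | cons σ L ih =>
    show addTermF σ (collectF L) = _
    rw [collect_cons, ih, addTermF_eq]

noncomputable def allZF (L : List Term) : Bool :=
  List.rec true (fun σ _ ih => Bool.rec false ih (Nat.beq σ.z.natAbs 0)) L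
theorem allZF_eq : allZF = allZ := by
  funext L
  induction L with
  | nil => rfl
  | cons σ L ih =>
    have h1 : allZF (σ :: L) = (Bool.rec false (allZF L) (Nat.beq σ.z.natAbs 0) : Bool) := rfl
    rw [h1, allZ_cons, ih]
    cases Nat.beq σ.z.natAbs 0 <;> rfl

def negF (τ : Term) : Term := ⟨τ.j, τ.a, τ.b, Int.neg τ.z⟩
theorem negF_eq : negF = Term.neg := rfl

def redF (τ : Term) : Term := ⟨τ.j, Nat.sub τ.a τ.b, Nat.sub τ.b τ.a, τ.z⟩
theorem redF_eq : redF = Term.red := rfl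

noncomputable def eqVecF (L1 L2 : List Term) : Bool := allZF (collectF (pushMap negF L2 L1))
theorem eqVecF_eq : eqVecF = eqVec := by
  funext L1 L2; unfold eqVecF eqVec; rw [allZF_eq, collectF_eq, negF_eq]

noncomputable def eqVecRF (L1 L2 : List Term) : Bool :=
  allZF (collectF (pushMap (fun τ => redF (negF τ)) L2 (pushMap redF L1 [])))
theorem eqVecRF_eq : eqVecRF = eqVecR := by
  funext L1 L2; unfold eqVecRF eqVecR; rw [allZF_eq, collectF_eq, negF_eq, redF_eq]

noncomputable def allRF (f : ℕ → Bool) (n : ℕ) : Bool := Nat.rec true (fun k ih => Bool.rec false ih (f k)) n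
theorem allRF_eq : allRF = allR := by
  funext f n
  induction n with
  | zero => rfl
  | succ n ih =>
    have h1 : allRF f (n + 1) = (Bool.rec false (allRF f n) (f n) : Bool) := rfl
    have h2 : allR f (n + 1) = (f n && allR f n) := rfl
    rw [h1, h2, ih]; cases f n <;> rfl

/-! powers of special parameters -/

noncomputable def sgnPowF (p : ℕ) : ℤ := Bool.rec (Int.negSucc 0) (Int.ofNat 1) (Nat.beq (Nat.mod p 2) 0)
theorem sgnPowF_eq : sgnPowF = sgnPow := by
  funext p; unfold sgnPowF sgnPow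
  have : Nat.mod p 2 = p % 2 := rfl
  rw [this]
  cases Nat.beq (p % 2) 0 <;> rfl

def pwX (k : ℕ) : List Term := [⟨0, k, 0, Int.ofNat 1⟩]
def pwY (k : ℕ) : List Term := [⟨0, 0, k, Int.ofNat 1⟩]
noncomputable def pwNY (k : ℕ) : List Term := [⟨0, 0, k, sgnPowF k⟩]
/-- powers of `η x` for a sign `η` -/
noncomputable def pwZX (η : ℤ) (k : ℕ) : List Term :=
  [⟨0, k, 0, Bool.rec η (Int.ofNat 1) (Nat.beq (Nat.mod k 2) 0)⟩]

theorem pval_pwX {F : Type*} [Field F] (x y : F) (k : ℕ) : pval x y (pwX k) = x ^ k := by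
  simp [pval, pwX, Term.val]
theorem pval_pwY {F : Type*} [Field F] (x y : F) (k : ℕ) : pval x y (pwY k) = y ^ k := by
  simp [pval, pwY, Term.val]
theorem pval_pwNY {F : Type*} [Field F] (x y : F) (k : ℕ) : pval x y (pwNY k) = (-y) ^ k := by
  simp only [pval, pwNY, Term.val, sgnPowF_eq, sgnPow_eq, List.map_cons, List.map_nil, List.sum_cons,
    List.sum_nil, add_zero, pow_zero, mul_one]
  rw [neg_pow]; push_cast; ring
theorem pval_pwZX {F : Type*} [Field F] (x y : F) {η : ℤ} (hη : η = 1 ∨ η = -1) (k : ℕ) :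
    pval x y (pwZX η k) = ((η : F) * x) ^ k := by
  have h2 : Nat.mod k 2 = k % 2 := rfl
  simp only [pval, pwZX, Term.val, List.map_cons, List.map_nil, List.sum_cons, List.sum_nil, add_zero,
    pow_zero, mul_one, h2, mul_pow]
  congr 1
  rcases Nat.even_or_odd k with h | h
  · have h3 : k % 2 = 0 := Nat.even_iff.mp h
    rw [h3]
    rcases hη with rfl | rfl
    · simp
    · simp [h.neg_one_pow]
  · have h3 : k % 2 = 1 := Nat.odd_iff.mp h
    rw [h3]
    have h4 : Nat.beq 1 0 = false := rfl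
    rw [h4]
    rcases hη with rfl | rfl
    · simp
    · simp [h.neg_one_pow]

/-! ### fused application of `x_r(t)` for a monomial parameter -/

noncomputable def applyXT (col : ℕ → ℕ → List (ℕ × ℕ × ℤ)) (r : ℕ) (tm : ℕ × ℕ × ℤ → Term) (L : List Term) :
    List Term :=
  List.rec [] (fun σ _ ih => Bool.rec (pushMap (fun e => mulF σ (tm e)) (col r σ.j) ih) (σ :: ih)
    (isSingleF (col r σ.j))) L

theorem opC_eq_map {pw : ℕ → List Term} {tm : ℕ × ℕ × ℤ → Term}
    (h : ∀ e, (pw e.2.1).map (mkT e) = [tm e]) (C : List (ℕ × ℕ × ℤ)) : opC C pw = C.map tm := by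
  induction C with
  | nil => rfl
  | cons e C ih => rw [opC_cons, ih, h]; rfl

theorem applyXT_eq {pw : ℕ → List Term} {tm : ℕ × ℕ × ℤ → Term}
    (h : ∀ e, (pw e.2.1).map (mkT e) = [tm e]) (col : ℕ → ℕ → List (ℕ × ℕ × ℤ)) (r : ℕ) :
    applyXT col r tm = applyX col r pw := by
  funext L
  induction L with
  | nil => rfl
  | cons σ L ih =>
    have h1 : applyXT col r tm (σ :: L) = (Bool.rec (pushMap (fun e => mulF σ (tm e)) (col r σ.j)
      (applyXT col r tm L)) (σ :: applyXT col r tm L) (isSingleF (col r σ.j)) : List Term) := rfl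
    rw [h1, applyX_cons, ih, isSingleF_eq]
    cases isSingle (col r σ.j) with
    | true => rfl
    | false =>
      show pushMap (fun e => mulF σ (tm e)) (col r σ.j) _ = pushMap σ.mul (opC (col r σ.j) pw) _
      rw [pushMap_eq, pushMap_eq, opC_eq_map h, List.map_map]
      rfl

def tmX (e : ℕ × ℕ × ℤ) : Term := ⟨e.1, e.2.1, 0, e.2.2⟩
def tmY (e : ℕ × ℕ × ℤ) : Term := ⟨e.1, 0, e.2.1, e.2.2⟩
noncomputable def tmNY (e : ℕ × ℕ × ℤ) : Term :=
  ⟨e.1, 0, e.2.1, Bool.rec (Int.neg e.2.2) e.2.2 (Nat.beq (Nat.mod e.2.1 2) 0)⟩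
noncomputable def tmZX (η : ℤ) (e : ℕ × ℕ × ℤ) : Term :=
  ⟨e.1, e.2.1, 0, Bool.rec (Int.mul e.2.2 η) e.2.2 (Nat.beq (Nat.mod e.2.1 2) 0)⟩

theorem tmX_spec (e : ℕ × ℕ × ℤ) : (pwX e.2.1).map (mkT e) = [tmX e] := by
  simp [pwX, mkT, tmX]
theorem tmY_spec (e : ℕ × ℕ × ℤ) : (pwY e.2.1).map (mkT e) = [tmY e] := by
  simp [pwY, mkT, tmY]
theorem tmNY_spec (e : ℕ × ℕ × ℤ) : (pwNY e.2.1).map (mkT e) = [tmNY e] := by
  simp only [pwNY, mkT, tmNY, sgnPowF, List.map_cons, List.map_nil]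
  cases Nat.beq (Nat.mod e.2.1 2) 0
  · show [(⟨e.1, 0, e.2.1, e.2.2 * (Int.negSucc 0)⟩ : Term)] = [⟨e.1, 0, e.2.1, -e.2.2⟩]
    have : e.2.2 * (Int.negSucc 0) = -e.2.2 := by
      have : (Int.negSucc 0) = -1 := rfl
      rw [this]; ring
    rw [this]
  · show [(⟨e.1, 0, e.2.1, e.2.2 * (Int.ofNat 1)⟩ : Term)] = [⟨e.1, 0, e.2.1, e.2.2⟩]
    have : e.2.2 * (Int.ofNat 1) = e.2.2 := by
      have : (Int.ofNat 1) = 1 := rfl
      rw [this]; ring
    rw [this]
theorem tmZX_spec (η : ℤ) (e : ℕ × ℕ × ℤ) : (pwZX η e.2.1).map (mkT e) = [tmZX η e] := by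
  simp only [pwZX, mkT, tmZX, List.map_cons, List.map_nil]
  cases Nat.beq (Nat.mod e.2.1 2) 0
  · rfl
  · show [(⟨e.1, e.2.1, 0, e.2.2 * (Int.ofNat 1)⟩ : Term)] = [⟨e.1, e.2.1, 0, e.2.2⟩]
    have : e.2.2 * (Int.ofNat 1) = e.2.2 := by
      have : (Int.ofNat 1) = 1 := rfl
      rw [this]; ring
    rw [this]

end Cfsg.Agent.Lib.Helper8
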