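import Mathlib

set_option autoImplicit false

/-!
Normal forms of the elements of a group generated by involutions, along a chain of "parabolic" subgroups with
explicit lists of coset representatives.
-/

namespace Cfsg.Agent.Lib.Helper8

section
variable {W : Type*} [Group W] (s : ℕ → W)

/-- the element represented by a word (letters multiplied on the right, first letter last) -/
def om : List ℕ → W
  | [] => 1
  | p :: L => om L * s p

theorem om_append (A B : List ℕ) : om s (A ++ B) = om s B * om s A := by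
  induction A with
  | nil => simp [om]
  | cons p A ih =>
    show om s (A ++ B) * s p = om s B * (om s A * s p)
    rw [ih, mul_assoc]

theorem om_singleton (j : ℕ) : om s [j] = s j := by simp [om]

theorem om_reverse {l : ℕ} (sq : ∀ p < l, s p * s p = 1) (A : List ℕ) (hA : ∀ i ∈ A, i < l) :
    om s A.reverse = (om s A)⁻¹ := by
  induction A with
  | nil => simp [om]
  | cons p A ih =>
    rw [List.reverse_cons, om_append, om_singleton, ih (fun i hi => hA i (List.mem_cons_of_mem _ hi))]
    show _ = (om s A * s p)⁻¹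
    rw [mul_inv_rev]
    congr 1
    exact eq_inv_of_mul_eq_one_left (sq p (hA p List.mem_cons_self))

/-- the data of a chain of coset representatives -/
structure Levels (R : List ℕ → Prop) (l : ℕ) (Dk : ℕ → List (List ℕ)) : Prop where
  sq : ∀ p < l, s p * s p = 1
  len : ∀ L L', R L → R L' → om s L = om s L' → L.length = L'.length
  lt : ∀ k < l, ∀ B ∈ Dk k, ∀ i ∈ B, i < k + 1
  red : ∀ k < l, ∀ A, (∀ i ∈ A, i < k) → R A → ∀ B ∈ Dk k, R (A ++ B)
  nil : ∀ k < l, [] ∈ Dk k
  step : ∀ k < l, ∀ B ∈ Dk k, ∀ j < k + 1,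
    (∃ B' ∈ Dk k, s j * om s B = om s B') ∨ (∃ i < k, s j * om s B = om s B * s i)
  inj : ∀ k < l, ∀ B ∈ Dk k, ∀ B' ∈ Dk k, om s B = om s B' → B = B'
  nodup : ∀ k < l, (Dk k).Nodup
  rnil : R []

/-- the normal forms of level `k` -/
def normalForms (Dk : ℕ → List (List ℕ)) : ℕ → Finset (List ℕ)
  | 0 => {[]}
  | k + 1 => ((normalForms Dk k) ×ˢ (Dk k).toFinset).image (fun p => p.1 ++ p.2)

variable {s}

theorem mem_normalForms_succ {Dk : ℕ → List (List ℕ)} {k : ℕ} {t : List ℕ} :
    t ∈ normalForms Dk (k + 1) ↔ ∃ A ∈ normalForms Dk k, ∃ B ∈ Dk k, t = A ++ B := by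
  simp only [normalForms, Finset.mem_image, Finset.mem_product, List.mem_toFinset, Prod.exists]
  constructor
  · rintro ⟨A, B, ⟨hA, hB⟩, rfl⟩
    exact ⟨A, hA, B, hB, rfl⟩
  · rintro ⟨A, hA, B, hB, rfl⟩
    exact ⟨A, B, ⟨hA, hB⟩, rfl⟩

theorem Levels.uniq_aux {R : List ℕ → Prop} {l : ℕ} {Dk : ℕ → List (List ℕ)} (h : Levels s R l Dk) (k : ℕ)
    (hkl : k < l)
    (ih1 : ∀ t ∈ normalForms Dk k, R t ∧ ∀ i ∈ t, i < k)
    (ih2 : ∀ L : List ℕ, (∀ i ∈ L, i < k) → ∃ t ∈ normalForms Dk k, om s t = om s L)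
    (ih3 : ∀ t ∈ normalForms Dk k, ∀ t' ∈ normalForms Dk k, om s t = om s t' → t = t') :
    ∀ A ∈ normalForms Dk k, ∀ A' ∈ normalForms Dk k, ∀ B ∈ Dk k, ∀ B' ∈ Dk k,
        om s B * om s A = om s B' * om s A' → A = A' ∧ B = B' := by
  have hRB : ∀ B ∈ Dk k, R B := fun B hB => by
    have := h.red k hkl [] (by simp) h.rnil B hB
    simpa using this
  intro A hA A' hA' B hB B' hB' e
  have hAl : ∀ i ∈ A, i < l := fun i hi => lt_trans ((ih1 A hA).2 i hi) hkl
  have hAl' : ∀ i ∈ A', i < l := fun i hi => lt_trans ((ih1 A' hA').2 i hi) hkl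
  obtain ⟨X, hX, eX⟩ := ih2 (A'.reverse ++ A) (by
    intro a ha
    rcases List.mem_append.mp ha with ha | ha
    · exact (ih1 A' hA').2 a (List.mem_reverse.mp ha)
    · exact (ih1 A hA).2 a ha)
  obtain ⟨X', hX', eX'⟩ := ih2 (A.reverse ++ A') (by
    intro a ha
    rcases List.mem_append.mp ha with ha | ha
    · exact (ih1 A hA).2 a (List.mem_reverse.mp ha)
    · exact (ih1 A' hA').2 a ha)
  rw [om_append, om_reverse s h.sq A' hAl'] at eX
  rw [om_append, om_reverse s h.sq A hAl] at eX'
  have l1 := h.len (X ++ B) B' (h.red k hkl X (ih1 X hX).2 (ih1 X hX).1 B hB) (hRB B' hB') (by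
    rw [om_append, eX, ← mul_assoc, e]; group)
  have l2 := h.len (X' ++ B') B (h.red k hkl X' (ih1 X' hX').2 (ih1 X' hX').1 B' hB') (hRB B hB) (by
    rw [om_append, eX', ← mul_assoc, ← e]; group)
  rw [List.length_append] at l1 l2
  have hX0 : X = [] := List.length_eq_zero_iff.mp (by omega)
  rw [hX0] at eX
  have eA : om s A = om s A' := by
    have : om s A * (om s A')⁻¹ = 1 := eX.symm
    exact mul_inv_eq_one.mp this
  refine ⟨ih3 A hA A' hA' eA, h.inj k hkl B hB B' hB' ?_⟩
  rw [eA] at e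
  exact mul_right_cancel e

theorem Levels.main {R : List ℕ → Prop} {l : ℕ} {Dk : ℕ → List (List ℕ)} (h : Levels s R l Dk) (k : ℕ)
    (hk : k ≤ l) :
    (∀ t ∈ normalForms Dk k, R t ∧ ∀ i ∈ t, i < k) ∧
    (∀ L : List ℕ, (∀ i ∈ L, i < k) → ∃ t ∈ normalForms Dk k, om s t = om s L) ∧
    (∀ t ∈ normalForms Dk k, ∀ t' ∈ normalForms Dk k, om s t = om s t' → t = t') := by
  induction k with
  | zero =>
    refine ⟨?_, ?_, ?_⟩
    · intro t ht
      simp only [normalForms, Finset.mem_singleton] at ht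
      subst ht
      exact ⟨h.rnil, by simp⟩
    · intro L hL
      cases L with
      | nil => exact ⟨[], by simp [normalForms], rfl⟩
      | cons p L => exact absurd (hL p List.mem_cons_self) (Nat.not_lt_zero _)
    · intro t ht t' ht' _
      simp only [normalForms, Finset.mem_singleton] at ht ht'
      rw [ht, ht']
  | succ k ih =>
    have hkl : k < l := hk
    obtain ⟨ih1, ih2, ih3⟩ := ih (Nat.le_of_lt hkl)
    have hcov : ∀ L : List ℕ, (∀ i ∈ L, i < k + 1) →
        ∃ A ∈ normalForms Dk k, ∃ B ∈ Dk k, om s B * om s A = om s L := by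
      intro L
      induction L using List.reverseRecOn with
      | nil =>
        intro _
        obtain ⟨A, hA, e⟩ := ih2 [] (by simp)
        exact ⟨A, hA, [], h.nil k hkl, by rw [e]; simp [om]⟩
      | append_singleton L j ihL =>
        intro hL
        obtain ⟨A, hA, B, hB, e⟩ := ihL (fun i hi => hL i (by simp [hi]))
        have hj : j < k + 1 := hL j (by simp)
        rw [om_append, om_singleton, ← e, ← mul_assoc]
        rcases h.step k hkl B hB j hj with ⟨B', hB', e'⟩ | ⟨i, hi, e'⟩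
        · exact ⟨A, hA, B', hB', by rw [e']⟩
        · obtain ⟨A', hA', e2⟩ := ih2 (A ++ [i]) (by
            intro a ha
            rcases List.mem_append.mp ha with ha | ha
            · exact (ih1 A hA).2 a ha
            · simp only [List.mem_singleton] at ha; omega)
          refine ⟨A', hA', B, hB, ?_⟩
          rw [e2, om_append, om_singleton, e', mul_assoc]
    have huniq := h.uniq_aux k hkl ih1 ih2 ih3
    refine ⟨?_, ?_, ?_⟩
    · intro t ht
      obtain ⟨A, hA, B, hB, rfl⟩ := mem_normalForms_succ.mp ht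
      refine ⟨h.red k hkl A (ih1 A hA).2 (ih1 A hA).1 B hB, ?_⟩
      intro i hi
      rcases List.mem_append.mp hi with hi | hi
      · exact Nat.lt_succ_of_lt ((ih1 A hA).2 i hi)
      · exact h.lt k hkl B hB i hi
    · intro L hL
      obtain ⟨A, hA, B, hB, e⟩ := hcov L hL
      exact ⟨A ++ B, mem_normalForms_succ.mpr ⟨A, hA, B, hB, rfl⟩, by rw [om_append, e]⟩
    · intro t ht t' ht' e
      obtain ⟨A, hA, B, hB, rfl⟩ := mem_normalForms_succ.mp ht
      obtain ⟨A', hA', B', hB', rfl⟩ := mem_normalForms_succ.mp ht'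
      rw [om_append, om_append] at e
      obtain ⟨rfl, rfl⟩ := huniq A hA A' hA' B hB B' hB' e
      rfl

theorem Levels.sum {R : List ℕ → Prop} {l : ℕ} {Dk : ℕ → List (List ℕ)} (h : Levels s R l Dk) (x : ℕ) (k : ℕ)
    (hk : k ≤ l) :
    ∑ t ∈ normalForms Dk k, x ^ t.length =
      ∏ m ∈ Finset.range k, ((Dk m).map (fun B => x ^ B.length)).sum := by
  induction k with
  | zero => simp [normalForms]
  | succ k ih =>
    have hkl : k < l := hk
    obtain ⟨ih1, ih2, ih3⟩ := h.main k (Nat.le_of_lt hkl)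
    rw [Finset.prod_range_succ, ← ih (Nat.le_of_lt hkl)]
    show ∑ t ∈ ((normalForms Dk k) ×ˢ (Dk k).toFinset).image (fun p => p.1 ++ p.2), x ^ t.length = _
    rw [Finset.sum_image, Finset.sum_product, ← List.sum_toFinset _ (h.nodup k hkl), Finset.sum_mul_sum]
    · apply Finset.sum_congr rfl
      intro A _
      apply Finset.sum_congr rfl
      intro B _
      rw [List.length_append, pow_add]
    · rintro ⟨A, B⟩ hAB ⟨A', B'⟩ hAB' e
      simp only [Finset.coe_product, Set.mem_prod, Finset.mem_coe, List.mem_toFinset] at hAB hAB'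
      simp only at e
      have e1 : om s B * om s A = om s B' * om s A' := by rw [← om_append, ← om_append, e]
      obtain ⟨rfl, rfl⟩ := h.uniq_aux k hkl ih1 ih2 ih3 A hAB.1 A' hAB'.1 B hAB.2 B' hAB'.2 e1
      rfl

end

end Cfsg.Agent.Lib.Helper8
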