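import Cfsg.Agent.Lib.Helper8.UwCard
import Cfsg.Agent.Lib.Helper8.WordComb
import Cfsg.Agent.Lib.Helper8.LevData

set_option autoImplicit false
set_option linter.unusedSectionVars false

namespace Cfsg.Agent.Lib.Helper8

open Cfsg Cfsg.Lie

/-- the images of the fundamental roots under a word -/
noncomputable def keyL (D : ChevalleyDatum) (nrow : ℕ → ℕ) (L : List ℕ) : List ℕ :=
  (List.range D.rank).map (fun i => wR9 nrow L (D.simple i))

noncomputable def chkMask (D : ChevalleyDatum) (nrow : ℕ → ℕ) (k mask : ℕ) : Bool :=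
  allR (fun p => Nat.testBit mask (D.simple p)) k &&
  allR (fun i => allR (fun s => !(Nat.testBit mask s) || Nat.testBit mask (w9 (nrow i) s)) D.nroots) k

/-- equality test for lists of numbers -/
noncomputable def beqL (a : List ℕ) : List ℕ → Bool :=
  List.rec (fun b => List.rec true (fun _ _ _ => false) b)
    (fun x _ ih b => List.rec false (fun y tl _ => Nat.beq x y && ih tl) b) a

theorem beqL_iff (a b : List ℕ) : beqL a b = true ↔ a = b := by
  induction a generalizing b with
  | nil => cases b <;> simp [beqL]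
  | cons x a ih =>
    cases b with
    | nil => simp [beqL]
    | cons y b =>
      have : beqL (x :: a) (y :: b) = (Nat.beq x y && beqL a b) := rfl
      rw [this, Bool.and_eq_true, ih, Nat.beq_eq, List.cons.injEq]

noncomputable def memL (x : List ℕ) (K : List (List ℕ)) : Bool :=
  List.rec false (fun a _ ih => beqL x a || ih) K

theorem memL_iff (x : List ℕ) (K : List (List ℕ)) : memL x K = true ↔ x ∈ K := by
  induction K with
  | nil => simp [memL]
  | cons a K ih =>
    have : memL x (a :: K) = (beqL x a || memL x K) := rfl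
    rw [this, Bool.or_eq_true, ih, beqL_iff, List.mem_cons]

noncomputable def nodupL (K : List (List ℕ)) : Bool :=
  List.rec true (fun a tl ih => !(memL a tl) && ih) K

theorem nodupL_iff (K : List (List ℕ)) : nodupL K = true ↔ K.Nodup := by
  induction K with
  | nil => simp [nodupL]
  | cons a K ih =>
    have : nodupL (a :: K) = (!(memL a K) && nodupL K) := rfl
    rw [this, Bool.and_eq_true, ih, List.nodup_cons, Bool.not_eq_true', ← Bool.not_eq_true, memL_iff]

noncomputable def memN (x : ℕ) (K : List ℕ) : Bool :=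
  List.rec false (fun a _ ih => Nat.beq x a || ih) K

theorem memN_iff (x : ℕ) (K : List ℕ) : memN x K = true ↔ x ∈ K := by
  induction K with
  | nil => simp [memN]
  | cons a K ih =>
    have : memN x (a :: K) = (Nat.beq x a || memN x K) := rfl
    rw [this, Bool.or_eq_true, ih, Nat.beq_eq, List.mem_cons]

noncomputable def chkHead (D : ChevalleyDatum) (nrow : ℕ → ℕ) (k mask : ℕ) (Dk K : List (List ℕ)) : Bool :=
  chkMask D nrow k mask && (decide (Dk.map (keyL D nrow) = K) && (nodupL K && memL [] Dk))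

noncomputable def chkWord (D : ChevalleyDatum) (nrow : ℕ → ℕ) (k mask : ℕ) (B : List ℕ) : Bool :=
  allL (fun i => Nat.blt i (k + 1)) B && (chkRed D nrow B &&
  allR (fun s => !(Nat.testBit mask s) || (Nat.blt s (D.nroots / 2) ||
      Nat.ble (D.nroots / 2) (wR9 nrow B s))) D.nroots)

noncomputable def chkStep (D : ChevalleyDatum) (nrow : ℕ → ℕ) (k : ℕ) (K : List (List ℕ)) (KB : List ℕ) : Bool :=
  allR (fun j => memN (D.simple j) (KB.take k) || memL (KB.map (w9 (nrow j))) K) (k + 1)

/-- all the checks for one level -/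
structure LevOK (D : ChevalleyDatum) (nrow : ℕ → ℕ) (k mask : ℕ) (Dk K : List (List ℕ)) : Prop where
  head : chkHead D nrow k mask Dk K = true
  words : allL (chkWord D nrow k mask) Dk = true
  step : allL (chkStep D nrow k K) K = true

/-! ### the Weyl group as a group of permutations of the root indices -/

def rf (D : ChevalleyDatum) (p s : ℕ) : ℕ := if s < D.nroots then D.reflectRoot p s else s

section
variable {D : ChevalleyDatum} (hD : D ∈ allData)
include hD

theorem rf_rf {p : ℕ} (hp : p < D.rank) (s : ℕ) : rf D p (rf D p s) = s := by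
  unfold rf
  by_cases hs : s < D.nroots
  · rw [if_pos hs, if_pos (reflect_lt hD hp hs), reflect_reflect hD hp hs]
  · rw [if_neg hs, if_neg hs]

/-- the fundamental reflections as permutations -/
def sP (p : ℕ) : Equiv.Perm ℕ :=
  if hp : p < D.rank then ⟨rf D p, rf D p, rf_rf hD hp, rf_rf hD hp⟩ else 1

theorem sP_apply {p : ℕ} (hp : p < D.rank) (s : ℕ) : sP hD p s = rf D p s := by
  unfold sP
  rw [dif_pos hp]
  rfl

theorem sP_sq (p : ℕ) : sP hD p * sP hD p = 1 := by
  by_cases hp : p < D.rank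
  · ext s
    rw [Equiv.Perm.mul_apply, sP_apply hD hp, sP_apply hD hp, rf_rf hD hp]
    rfl
  · unfold sP
    rw [dif_neg hp, one_mul]

theorem wR_lt (L : List ℕ) (hL : ∀ i ∈ L, i < D.rank) {s : ℕ} (hs : s < D.nroots) : wR D L s < D.nroots :=
  (act_nR (F := ℚ) hD L hL).lt s hs

theorem om_apply (L : List ℕ) (hL : ∀ i ∈ L, i < D.rank) {s : ℕ} (hs : s < D.nroots) :
    om (sP hD) L s = wR D L s := by
  induction L generalizing s with
  | nil => rfl
  | cons p L ih =>
    have hp := hL p List.mem_cons_self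
    show (om (sP hD) L * sP hD p) s = wR D L (D.reflectRoot p s)
    rw [Equiv.Perm.mul_apply, sP_apply hD hp, rf, if_pos hs]
    exact ih (fun j hj => hL j (List.mem_cons_of_mem _ hj)) (reflect_lt hD hp hs)

theorem om_apply_ge (L : List ℕ) {s : ℕ} (hs : ¬ s < D.nroots) : om (sP hD) L s = s := by
  induction L with
  | nil => rfl
  | cons p L ih =>
    show (om (sP hD) L * sP hD p) s = s
    rw [Equiv.Perm.mul_apply]
    by_cases hp : p < D.rank
    · rw [sP_apply hD hp, rf, if_neg hs, ih]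
    · unfold sP
      rw [dif_neg hp]
      exact ih

theorem om_eq_iff {L L' : List ℕ} (hL : ∀ i ∈ L, i < D.rank) (hL' : ∀ i ∈ L', i < D.rank) :
    om (sP hD) L = om (sP hD) L' ↔ ∀ s < D.nroots, wR D L s = wR D L' s := by
  constructor
  · intro h s hs
    rw [← om_apply hD L hL hs, h, om_apply hD L' hL' hs]
  · intro h
    ext s
    by_cases hs : s < D.nroots
    · rw [om_apply hD L hL hs, om_apply hD L' hL' hs, h s hs]
    · rw [om_apply_ge hD L hs, om_apply_ge hD L' hs]

/-- elements of `N` with the same action on the roots agree modulo `H` -/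
theorem same_act_diag {F : Type*} [Field F] {n n' : GL D.Idx F} (hn : n ∈ D.monomialSubgroup F)
    (hn' : n' ∈ D.monomialSubgroup F) {π π' : ℕ → ℕ} (h : Act hD n π) (h' : Act hD n' π')
    (e : ∀ s < D.nroots, π s = π' s) : n * n'⁻¹ ∈ D.diagonalSubgroup F := by
  obtain ⟨ρ, hρ, e1, e2⟩ := act_inv hD hn' h'
  obtain ⟨h0, hh0, M, hM, eM⟩ := mem_mono hD (Subgroup.mul_mem _ hn (Subgroup.inv_mem _ hn'))
  rw [eM]
  refine Subgroup.mul_mem _ hh0 (nR_mem_diag hD M hM ?_)
  have a1 := h.mul hρ
  rw [eM] at a1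
  have hh0' := hh0
  rw [diag_eq_torus hD] at hh0'
  obtain ⟨c, rfl⟩ := hh0'
  have a2 := (act_tG hD c).mul (act_nR (F := F) hD M hM)
  intro s hs
  have := a2.unique a1 s hs.1
  simp only [Function.comp, id] at this
  rw [this, e _ (hρ.lt s hs.1), e1 s hs.1]
  exact hs

theorem nR_eq_of_om {F : Type*} [Field F] {L L' : List ℕ} (hL : ∀ i ∈ L, i < D.rank)
    (hL' : ∀ i ∈ L', i < D.rank) (e : om (sP hD) L = om (sP hD) L') :
    ∃ h ∈ D.diagonalSubgroup F, nR hD F L = h * nR hD F L' := by
  refine ⟨nR hD F L * (nR hD F L')⁻¹, same_act_diag hD (nR_mem_mono hD L hL) (nR_mem_mono hD L' hL')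
    (act_nR hD L hL) (act_nR hD L' hL') ((om_eq_iff hD hL hL').mp e), ?_⟩
  group

theorem om_of_nR_eq {F : Type*} [Field F] {L L' : List ℕ} (hL : ∀ i ∈ L, i < D.rank)
    (hL' : ∀ i ∈ L', i < D.rank) (e : ∃ h ∈ D.diagonalSubgroup F, nR hD F L = h * nR hD F L') :
    om (sP hD) L = om (sP hD) L' := by
  obtain ⟨h, hh, e⟩ := e
  rw [om_eq_iff hD hL hL']
  rw [diag_eq_torus hD] at hh
  obtain ⟨c, rfl⟩ := hh
  have a1 := act_nR (F := F) hD L hL
  rw [e] at a1
  exact a1.unique ((act_tG hD c).mul (act_nR (F := F) hD L' hL'))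

theorem red_length_eq {L L' : List ℕ} (hL : Red D L) (hL' : Red D L') (e : om (sP hD) L = om (sP hD) L') :
    L.length = L'.length := by
  have h1 := card_Uw (F := ZMod 2) hD hL
  have h2 := card_Uw (F := ZMod 2) hD hL'
  rw [Uw_congr hD (act_nR hD L hL.lt) (act_nR hD L' hL'.lt) ((om_eq_iff hD hL.lt hL'.lt).mp e), h2] at h1
  exact (Nat.pow_right_injective (le_of_eq (ZMod.card 2).symm) h1).symm

/-- a word fixing the signs of the fundamental roots acts trivially -/
theorem red_eq_nil {M : List ℕ} (hM : Red D M) (h : ∀ i < D.rank, D.IsPosRoot (wR D M (D.simple i))) :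
    M = [] := by
  cases M with
  | nil => rfl
  | cons p M' =>
    exfalso
    obtain ⟨hp, hpos, hred⟩ := hM
    have h1 := h p hp
    have hact := act_nR (F := ℚ) hD M' hred.lt
    have h2 : wR D (p :: M') (D.simple p) = D.neg (wR D M' (D.simple p)) := by
      show wR D M' (D.reflectRoot p (D.simple p)) = _
      rw [reflect_simple, hact.neg _ (simple_lt hD hp)]
    rw [h2] at h1
    exact not_pos_and_neg hD hpos ((isPos_neg_iff hD (hact.lt _ (simple_lt hD hp))).mp h1)

theorem om_eq_of_simple {L L' : List ℕ} (hL : ∀ i ∈ L, i < D.rank) (hL' : ∀ i ∈ L', i < D.rank)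
    (e : ∀ i < D.rank, wR D L (D.simple i) = wR D L' (D.simple i)) : om (sP hD) L = om (sP hD) L' := by
  have hn := nR_mem_mono (F := ℚ) hD L hL
  have hn' := nR_mem_mono (F := ℚ) hD L' hL'
  obtain ⟨ρ, hρ, e1, e2⟩ := act_inv hD hn' (act_nR hD L' hL')
  obtain ⟨h0, hh0, M0, hM0, eM0⟩ := mem_mono hD (Subgroup.mul_mem _ (Subgroup.inv_mem _ hn') hn)
  obtain ⟨M, hM, -, h1, hh1, eM⟩ := exists_red (F := ℚ) hD M0 hM0
  have hh : h0 * h1 ∈ D.diagonalSubgroup ℚ := Subgroup.mul_mem _ hh0 hh1
  have eX : (nR hD ℚ L')⁻¹ * nR hD ℚ L = (h0 * h1) * nR hD ℚ M := by rw [eM0, eM, mul_assoc]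
  have a1 := hρ.mul (act_nR (F := ℚ) hD L hL)
  rw [eX] at a1
  have hh' := hh
  rw [diag_eq_torus hD] at hh'
  obtain ⟨c, hc⟩ := hh'
  rw [← hc] at a1
  have a2 := (act_tG hD c).mul (act_nR (F := ℚ) hD M hM.lt)
  have hnil : M = [] := by
    apply red_eq_nil hD hM
    intro i hi
    have := a2.unique a1 _ (simple_lt hD hi)
    simp only [Function.comp, id] at this
    rw [this, e i hi, e2 _ (simple_lt hD hi)]
    exact simple_pos hD hi
  subst hnil
  apply om_of_nR_eq (F := ℚ) hD hL hL'
  refine ⟨nR hD ℚ L' * (h0 * h1) * (nR hD ℚ L')⁻¹, mono_conj_diag hD hn' hh, ?_⟩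
  have : nR hD ℚ L = nR hD ℚ L' * ((nR hD ℚ L')⁻¹ * nR hD ℚ L) := by group
  rw [this, eX]
  simp [nR]

theorem act_nS_inv {F : Type*} [Field F] {i : ℕ} (hi : i < D.rank) :
    Act hD (nS hD F i)⁻¹ (D.reflectRoot i) :=
  ⟨fun _ h => reflect_lt hD hi h, fun _ h => reflect_neg hD hi h,
    fun s hs => ⟨Units.mk0 _ (etaF_ne_zero i (D.reflectRoot i s)), fun t => by
      rw [inv_inv]; exact conj_inv_nS_x hD hi hs t⟩⟩

/-- `s_j w = w s_i` when `w(p_i) = p_j` -/
theorem sP_mul_om {B : List ℕ} (hB : ∀ i ∈ B, i < D.rank) {i j : ℕ} (hi : i < D.rank) (hj : j < D.rank)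
    (e : wR D B (D.simple i) = D.simple j) : sP hD j * om (sP hD) B = om (sP hD) B * sP hD i := by
  have h1 : sP hD j * om (sP hD) B = om (sP hD) (B ++ [j]) := by rw [om_append, om_singleton]
  have h2 : om (sP hD) B * sP hD i = om (sP hD) (i :: B) := rfl
  have hB1 : ∀ a ∈ B ++ [j], a < D.rank := by
    intro a ha
    rcases List.mem_append.mp ha with ha | ha
    · exact hB a ha
    · simp only [List.mem_singleton] at ha; omega
  have hB2 : ∀ a ∈ i :: B, a < D.rank := by
    intro a ha
    rcases List.mem_cons.mp ha with rfl | ha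
    · exact hi
    · exact hB a ha
  rw [h1, h2, om_eq_iff hD hB1 hB2]
  obtain ⟨ε', hε', e4⟩ := conj_nR_n (F := ℚ) hD B hB (simple_lt hD hi) (ε := 1) (Or.inl rfl)
  rw [e] at e4
  have e5 : nR hD ℚ (i :: B) = nG hD ℚ (D.simple j) ε' * nR hD ℚ B := by
    rw [← e4]
    show nR hD ℚ B * nS hD ℚ i = _
    group
  have a1 := act_nR (F := ℚ) hD (i :: B) hB2
  rw [e5] at a1
  have a2 : Act hD (nG hD ℚ (D.simple j) ε') (D.reflectRoot j) := by
    rcases hε' with h | h
    · rw [h]; exact act_nS hD hj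
    · rw [h, ← nG_inv]; exact act_nS_inv hD hj
  have a3 := a2.mul (act_nR (F := ℚ) hD B hB)
  intro s hs
  rw [wR_append]
  exact a3.unique a1 s hs

omit hD in
theorem wR9_append (nrow : ℕ → ℕ) (A B : List ℕ) (s : ℕ) :
    wR9 nrow (A ++ B) s = wR9 nrow B (wR9 nrow A s) := by
  induction A generalizing s with
  | nil => rfl
  | cons i A ih => exact ih _

theorem keyL_eq_iff {L L' : List ℕ} (hL : ∀ i ∈ L, i < D.rank) (hL' : ∀ i ∈ L', i < D.rank) :
    keyL D (nrowOf D) L = keyL D (nrowOf D) L' ↔ ∀ i < D.rank, wR D L (D.simple i) = wR D L' (D.simple i) := by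
  unfold keyL
  rw [List.map_inj_left]
  constructor
  · intro h i hi
    have := h i (List.mem_range.mpr hi)
    rwa [wR9_eq hD L hL (simple_lt hD hi), wR9_eq hD L' hL' (simple_lt hD hi)] at this
  · intro h i hi
    have hi' := List.mem_range.mp hi
    rw [wR9_eq hD L hL (simple_lt hD hi'), wR9_eq hD L' hL' (simple_lt hD hi')]
    exact h i hi'

theorem mask_wR {k M : ℕ} (hk : k ≤ D.rank)
    (hm2 : ∀ i < k, ∀ s < D.nroots, Nat.testBit M s = true → Nat.testBit M (D.reflectRoot i s) = true)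
    (A : List ℕ) (hA : ∀ i ∈ A, i < k) {s : ℕ} (hs : s < D.nroots) (h : Nat.testBit M s = true) :
    Nat.testBit M (wR D A s) = true := by
  induction A generalizing s with
  | nil => exact h
  | cons p A ih =>
    have hp := hA p List.mem_cons_self
    exact ih (fun j hj => hA j (List.mem_cons_of_mem _ hj)) (reflect_lt hD (lt_of_lt_of_le hp hk) hs)
      (hm2 p hp s hs h)

theorem red_append {k M : ℕ} (hk : k ≤ D.rank) (hm1 : ∀ p < k, Nat.testBit M (D.simple p) = true)
    (hm2 : ∀ i < k, ∀ s < D.nroots, Nat.testBit M s = true → Nat.testBit M (D.reflectRoot i s) = true)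
    {B : List ℕ} (hB : Red D B)
    (hpos : ∀ s < D.nroots, Nat.testBit M s = true → D.IsPosRoot s → D.IsPosRoot (wR D B s))
    (A : List ℕ) (hA : ∀ i ∈ A, i < k) (hR : Red D A) : Red D (A ++ B) := by
  induction A with
  | nil => exact hB
  | cons p A ih =>
    obtain ⟨hp, hp2, hr⟩ := hR
    have hA' : ∀ i ∈ A, i < k := fun j hj => hA j (List.mem_cons_of_mem _ hj)
    refine ⟨hp, ?_, ih hA' hr⟩
    show D.IsPosRoot (wR D (A ++ B) (D.simple p))
    rw [wR_append]
    exact hpos _ hp2.1 (mask_wR hD hk hm2 A hA' (simple_lt hD hp) (hm1 p (hA p List.mem_cons_self))) hp2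

theorem levels_of_ok (h : ∀ k < D.rank, LevOK D (nrowOf D) k (maskOf D k) (levOf D k) (keyOf D k)) :
    Levels (sP hD) (Red D) D.rank (levOf D) := by
  have hhead : ∀ k < D.rank, (∀ p < k, Nat.testBit (maskOf D k) (D.simple p) = true) ∧
      (∀ i < k, ∀ s < D.nroots, Nat.testBit (maskOf D k) s = true →
        Nat.testBit (maskOf D k) (D.reflectRoot i s) = true) ∧
      (levOf D k).map (keyL D (nrowOf D)) = keyOf D k ∧ (keyOf D k).Nodup ∧ [] ∈ levOf D k := by
    intro k hk
    have h1 := (h k hk).head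
    simp only [chkHead, chkMask, Bool.and_eq_true, allR_iff, decide_eq_true_eq, nodupL_iff, memL_iff,
      Bool.or_eq_true, Bool.not_eq_true'] at h1
    obtain ⟨⟨a1, a2⟩, a3, a4, a5⟩ := h1
    refine ⟨a1, ?_, a3, a4, a5⟩
    intro i hi s hs hb
    rcases a2 i hi s hs with h2 | h2
    · rw [hb] at h2; exact absurd h2 (by simp)
    · rwa [w9_eq hD (lt_trans hi hk) hs] at h2
  have hwords : ∀ k < D.rank, ∀ B ∈ levOf D k, (∀ i ∈ B, i < k + 1) ∧ Red D B ∧
      (∀ s < D.nroots, Nat.testBit (maskOf D k) s = true → D.IsPosRoot s → D.IsPosRoot (wR D B s)) := by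
    intro k hk B hB
    have h1 := (allL_iff _ _).mp (h k hk).words B hB
    simp only [chkWord, Bool.and_eq_true, allR_iff, allL_iff, Nat.blt_eq, Bool.or_eq_true, Nat.ble_eq,
      Bool.not_eq_true'] at h1
    obtain ⟨a1, a2, a3⟩ := h1
    have hr := chkRed_spec hD a2
    refine ⟨a1, hr, ?_⟩
    intro s hs hb hpos
    rw [isPos_iff hD] at hpos ⊢
    refine ⟨?_, wR_lt hD B hr.lt hs⟩
    rcases a3 s hs with h2 | h2 | h2
    · rw [hb] at h2; exact absurd h2 (by simp)
    · omega
    · rwa [wR9_eq hD B hr.lt hs] at h2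
  refine ⟨fun p _ => sP_sq hD p, fun L L' => red_length_eq hD, fun k hk B hB => (hwords k hk B hB).1, ?_,
    fun k hk => (hhead k hk).2.2.2.2, ?_, ?_, ?_, trivial⟩
  · intro k hk A hA hR B hB
    exact red_append hD (Nat.le_of_lt hk) (hhead k hk).1 (hhead k hk).2.1 (hwords k hk B hB).2.1
      (hwords k hk B hB).2.2 A hA hR
  · intro k hk B hB j hj
    obtain ⟨-, -, hK, -, -⟩ := hhead k hk
    have hBr := (hwords k hk B hB).2.1
    have hjr : j < D.rank := by omega
    have hmem : keyL D (nrowOf D) B ∈ keyOf D k := by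
      rw [← hK]; exact List.mem_map_of_mem hB
    have h1 := (allR_iff _ _).mp ((allL_iff _ _).mp (h k hk).step _ hmem) j hj
    rw [Bool.or_eq_true, memN_iff, memL_iff] at h1
    rcases h1 with h1 | h1
    · right
      unfold keyL at h1
      rw [← List.map_take, List.take_range, List.mem_map] at h1
      obtain ⟨i, hi, e⟩ := h1
      rw [List.mem_range] at hi
      have hik : i < k := lt_of_lt_of_le hi (min_le_left _ _)
      have hir : i < D.rank := lt_trans hik hk
      rw [wR9_eq hD B hBr.lt (simple_lt hD hir)] at e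
      exact ⟨i, hik, sP_mul_om hD hBr.lt hir hjr e⟩
    · left
      rw [← hK, List.mem_map] at h1
      obtain ⟨B', hB', e⟩ := h1
      refine ⟨B', hB', ?_⟩
      have hBr' := (hwords k hk B' hB').2.1
      have hB1 : ∀ a ∈ B ++ [j], a < D.rank := by
        intro a ha
        rcases List.mem_append.mp ha with ha | ha
        · exact hBr.lt a ha
        · simp only [List.mem_singleton] at ha; omega
      rw [← om_singleton (sP hD) j, ← om_append]
      apply om_eq_of_simple hD hB1 hBr'.lt
      rw [← keyL_eq_iff hD hB1 hBr'.lt, e]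
      unfold keyL
      rw [List.map_map]
      apply List.map_congr_left
      intro i _
      rw [wR9_append]
      rfl
  · intro k hk B hB B' hB' e
    obtain ⟨-, -, hK, hnd, -⟩ := hhead k hk
    have hBr := (hwords k hk B hB).2.1
    have hBr' := (hwords k hk B' hB').2.1
    rw [← hK] at hnd
    apply List.inj_on_of_nodup_map hnd hB hB'
    rw [keyL_eq_iff hD hBr.lt hBr'.lt]
    intro i hi
    exact (om_eq_iff hD hBr.lt hBr'.lt).mp e _ (simple_lt hD hi)
  · intro k hk
    obtain ⟨-, -, hK, hnd, -⟩ := hhead k hk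
    rw [← hK] at hnd
    exact hnd.of_map _

end

end Cfsg.Agent.Lib.Helper8
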