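import Cfsg.Agent.Lib.Helper8.GraphAut2
import Cfsg.Agent.Lib.Helper8.WeylLev

set_option autoImplicit false
set_option linter.unusedSectionVars false

namespace Cfsg.Agent.Lib.Helper8

open Cfsg Cfsg.Lie

/-! ### the twisting endomorphism `σ` = graph automorphism ∘ field endomorphism -/

/-- the checked data of a twist -/
structure TwOK (D : ChevalleyDatum) (tab tab' : List (ℕ × ℤ)) (r0 : List ℕ) : Prop where
  gok : GOk D tab tab'
  smp : ∀ i < D.rank, r0.getD i 0 < D.rank ∧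
    gRho D.rank tab (D.simple i) = D.simple (r0.getD i 0) ∧ gEps D.rank tab (D.simple i) = 1 ∧
    gRho D.rank tab (D.neg (D.simple i)) = D.neg (D.simple (r0.getD i 0)) ∧
    gEps D.rank tab (D.neg (D.simple i)) = 1
  sgn : ∀ r < D.nroots, (gEps D.rank tab r = 1 ∨ gEps D.rank tab r = -1) ∧
    (D.nroots / 2 ≤ r ↔ D.nroots / 2 ≤ gRho D.rank tab r)
  equiv : ∀ i < D.rank, ∀ s < D.nroots,
    D.reflectRoot (r0.getD i 0) (gRho D.rank tab s) = gRho D.rank tab (D.reflectRoot i s)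
  inv : ∀ s < D.nroots, gRho D.rank tab' s < D.nroots ∧ gRho D.rank tab (gRho D.rank tab' s) = s
  six : ∀ i < D.rank, (fun j => r0.getD j 0)^[5] (r0.getD i 0) = i

theorem twOK_E6 : TwOK chevE6 gTabE6 gInvE6 [5, 1, 4, 3, 2, 0] :=
  ⟨gOk_E6, by decide +kernel, by decide +kernel, by decide +kernel, by decide +kernel, by decide +kernel⟩

theorem twOK_D4 : TwOK chevD4 gTabD4a gInvD4a [2, 1, 3, 0] :=
  ⟨gOk_D4a, by decide +kernel, by decide +kernel, by decide +kernel, by decide +kernel, by decide +kernel⟩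

section
variable {D : ChevalleyDatum} (hD : D ∈ allData) {tab tab' : List (ℕ × ℤ)} {r0 : List ℕ}
  (T : TwOK D tab tab' r0) {K : Type*} [Field K] (φ : K →+* K)

/-- the permutation of the nodes -/
abbrev TwOK.p (_ : TwOK D tab tab' r0) (i : ℕ) : ℕ := r0.getD i 0

/-- the permutation of the roots -/
abbrev TwOK.rho (_ : TwOK D tab tab' r0) (r : ℕ) : ℕ := gRho D.rank tab r

/-- `σ` -/
noncomputable def sig : GL D.Idx K →* GL D.Idx K :=
  (MulAut.conj (gG T.gok K)).toMonoidHom.comp (glMap D φ)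

include hD

theorem sig_x {r : ℕ} (hr : r < D.nroots) (t : K) :
    sig T φ (xG hD K r t) = xG hD K (T.rho r) (((gEps D.rank tab r : ℤ) : K) * φ t) := by
  show gG T.gok K * glMap D φ (xG hD K r t) * (gG T.gok K)⁻¹ = _
  rw [glMap_xG, gG_conj_x hD T.gok hr]

theorem sig_x_simple {i : ℕ} (hi : i < D.rank) (t : K) :
    sig T φ (xG hD K (D.simple i) t) = xG hD K (D.simple (T.p i)) (φ t) := by
  obtain ⟨-, h1, h2, -, -⟩ := T.smp i hi
  rw [sig_x hD T φ (simple_lt hD hi), TwOK.rho, h1, h2, Int.cast_one, one_mul]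

theorem sig_x_neg {i : ℕ} (hi : i < D.rank) (t : K) :
    sig T φ (xG hD K (D.neg (D.simple i)) t) = xG hD K (D.neg (D.simple (T.p i))) (φ t) := by
  obtain ⟨-, -, -, h1, h2⟩ := T.smp i hi
  rw [sig_x hD T φ (neg_lt' hD _ (simple_lt hD hi)), TwOK.rho, h1, h2, Int.cast_one, one_mul]

theorem sig_nG {i : ℕ} (hi : i < D.rank) (t : K) :
    sig T φ (nG hD K (D.simple i) t) = nG hD K (D.simple (T.p i)) (φ t) := by
  unfold nG
  rw [map_mul, map_mul, sig_x_simple hD T φ hi, sig_x_neg hD T φ hi, map_neg, map_inv₀]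

theorem sig_hG {i : ℕ} (hi : i < D.rank) (t : K) :
    sig T φ (hG hD K (D.simple i) t) = hG hD K (D.simple (T.p i)) (φ t) := by
  unfold hG
  rw [map_mul, sig_nG hD T φ hi, sig_nG hD T φ hi, map_neg, map_one]

theorem sig_nS {i : ℕ} (hi : i < D.rank) : sig T φ (nS hD K i) = nS hD K (T.p i) := by
  rw [sig_nG hD T φ hi, map_one]

omit hD in
theorem TwOK.p_lt {i : ℕ} (hi : i < D.rank) : T.p i < D.rank := (T.smp i hi).1

omit hD in
theorem TwOK.map_lt {L : List ℕ} (hL : ∀ i ∈ L, i < D.rank) : ∀ i ∈ L.map T.p, i < D.rank := by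
  intro i hi
  obtain ⟨j, hj, rfl⟩ := List.mem_map.mp hi
  exact T.p_lt (hL j hj)

theorem sig_nR (L : List ℕ) (hL : ∀ i ∈ L, i < D.rank) : sig T φ (nR hD K L) = nR hD K (L.map T.p) := by
  induction L with
  | nil => exact map_one _
  | cons i L ih =>
    show sig T φ (nR hD K L * nS hD K i) = nR hD K (L.map T.p) * nS hD K (T.p i)
    rw [map_mul, ih (fun j hj => hL j (List.mem_cons_of_mem _ hj)), sig_nS hD T φ (hL i List.mem_cons_self)]

theorem TwOK.rho_lt {r : ℕ} (hr : r < D.nroots) : T.rho r < D.nroots := gRho_lt hD T.gok hr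

theorem TwOK.rho_pos {r : ℕ} (hr : D.IsPosRoot r) : D.IsPosRoot (T.rho r) := by
  rw [isPos_iff hD] at hr ⊢
  exact ⟨((T.sgn r hr.2).2).mp hr.1, T.rho_lt hD hr.2⟩

theorem TwOK.rho_neg {r : ℕ} (hr : D.IsNegRoot r) : D.IsNegRoot (T.rho r) := by
  have h1 := hr.1
  rw [isNeg_iff hD] at hr ⊢
  by_contra h
  exact absurd (((T.sgn r h1).2).mpr (not_lt.mp h)) (not_le.mpr hr)

theorem sig_mem_posU {u : GL D.Idx K} (hu : u ∈ D.posUnipotent K) : sig T φ u ∈ D.posUnipotent K := by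
  have : D.posUnipotent K ≤ (D.posUnipotent K).comap (sig T φ) := by
    conv_lhs => rw [ChevalleyDatum.posUnipotent]
    rw [Subgroup.closure_le]
    rintro g ⟨r, t, hr, hg⟩
    rw [eq_xG hD hg]
    show sig T φ (xG hD K r t) ∈ D.posUnipotent K
    rw [sig_x hD T φ hr.1]
    exact xG_mem_posU hD (T.rho_pos hD hr) _
  exact this hu

theorem sig_mem_negU {u : GL D.Idx K} (hu : u ∈ D.negUnipotent K) : sig T φ u ∈ D.negUnipotent K := by
  have : D.negUnipotent K ≤ (D.negUnipotent K).comap (sig T φ) := by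
    conv_lhs => rw [ChevalleyDatum.negUnipotent]
    rw [Subgroup.closure_le]
    rintro g ⟨r, t, hr, hg⟩
    rw [eq_xG hD hg]
    show sig T φ (xG hD K r t) ∈ D.negUnipotent K
    rw [sig_x hD T φ hr.1]
    exact xG_mem_negU hD (T.rho_neg hD hr) _
  exact this hu

theorem sig_mem_diag {h : GL D.Idx K} (hh : h ∈ D.diagonalSubgroup K) : sig T φ h ∈ D.diagonalSubgroup K := by
  rw [diag_eq_torus hD] at hh
  obtain ⟨c, rfl⟩ := hh
  rw [tG_eq_prod hD, map_list_prod]
  apply Subgroup.list_prod_mem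
  intro x hx
  simp only [List.mem_map, List.mem_range] at hx
  obtain ⟨_, ⟨i, hi, rfl⟩, rfl⟩ := hx
  rw [sig_hG hD T φ hi]
  exact hG_mem_diag hD (simple_lt hD (T.p_lt hi)) (by simp)

theorem sig_mem_borel {b : GL D.Idx K} (hb : b ∈ D.borelSubgroup K) : sig T φ b ∈ D.borelSubgroup K := by
  obtain ⟨u, hu, h, hh, rfl⟩ := mem_borel hD hb
  rw [map_mul]
  exact mul_mem (posU_le_borel hD (sig_mem_posU hD T φ hu)) (diag_le_borel hD (sig_mem_diag hD T φ hh))

theorem sig_mem_group {g : GL D.Idx K} (hg : g ∈ D.group K) : sig T φ g ∈ D.group K := by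
  have : D.group K ≤ (D.group K).comap (sig T φ) := by
    conv_lhs => rw [group_eq_closure hD]
    rw [Subgroup.closure_le]
    rintro g ⟨r, t, rfl⟩
    show sig T φ (xG hD K r t) ∈ D.group K
    by_cases hr : r < D.nroots
    · rw [sig_x hD T φ hr]
      exact xG_mem_group hD _ _
    · have : xG hD K r t = 1 := by
        apply Units.ext
        rw [xG_coe, ChevalleyDatum.x, dif_neg hr]; rfl
      rw [this, map_one]
      exact one_mem _
  exact this hg

omit hD in
theorem sig_injective : Function.Injective (sig T φ) := by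
  intro a b h
  have h1 : gG T.gok K * glMap D φ a * (gG T.gok K)⁻¹ = gG T.gok K * glMap D φ b * (gG T.gok K)⁻¹ := h
  exact glMap_injective φ (mul_left_cancel (mul_right_cancel h1))

/-- the fixed points of `σ` -/
noncomputable def fixS : Subgroup (GL D.Idx K) := (sig T φ).eqLocus (MonoidHom.id _)

omit hD in
theorem mem_fixS {g : GL D.Idx K} : g ∈ fixS T φ ↔ sig T φ g = g := Iff.rfl

end

/-! ### a characterisation of `U_w⁻` -/

section
variable {D : ChevalleyDatum} (hD : D ∈ allData) {F : Type*} [Field F]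
include hD

theorem mem_Uw_of {L : List ℕ} (hL : Red D L) {u : GL D.Idx F} (hu : u ∈ D.posUnipotent F)
    (hV : nR hD F L * u * (nR hD F L)⁻¹ ∈ D.negUnipotent F) : u ∈ Uw D F (nR hD F L) := by
  obtain ⟨a, ha, c, hc, hna, rfl⟩ := Uw_factor hD hL hu
  have h1 : nR hD F L * a * (nR hD F L)⁻¹ =
      (nR hD F L * (a * c) * (nR hD F L)⁻¹) * (nR hD F L * c * (nR hD F L)⁻¹)⁻¹ := by group
  have h2 : nR hD F L * a * (nR hD F L)⁻¹ = 1 := by
    apply eq_one_of_posU_negU hD hna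
    rw [h1]
    exact mul_mem hV (inv_mem (conj_Uw_mem_negU hc))
  have h3 : a = 1 := by
    have := congrArg (fun z => (nR hD F L)⁻¹ * z * nR hD F L) h2
    simpa [mul_assoc] using this
  rw [h3, one_mul]
  exact hc

theorem Uw_append_mem {A L : List ℕ} (hA : Red D A) (hAL : Red D (A ++ L)) {c y : GL D.Idx F}
    (hc : c ∈ Uw D F (nR hD F L)) (hy : y ∈ Uw D F (nR hD F A)) :
    (nR hD F A)⁻¹ * c * nR hD F A * y ∈ Uw D F (nR hD F (A ++ L)) := by
  induction A generalizing y with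
  | nil =>
    have : y = 1 := by
      have h1 : y ∈ Uw D F 1 := hy
      rw [Uw_one hD] at h1
      exact h1
    subst this
    simpa [nR] using hc
  | cons p A ih =>
    obtain ⟨hp, hpos, hred⟩ := hA
    obtain ⟨-, hpos', hred'⟩ := hAL
    obtain ⟨⟨⟨y', hy'⟩, t⟩, e⟩ := (stepMap_bijective (F := F) hD hred hp hpos).2 ⟨y, hy⟩
    have e1 : (nS hD F p)⁻¹ * y' * nS hD F p * xG hD F (D.simple p) t = y := congrArg Subtype.val e
    have h1 := ih hred hred' hy'
    have h2 := (stepMap (F := F) hD hred'.lt hp hpos' (⟨_, h1⟩, t)).2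
    have h3 : (nR hD F (p :: A))⁻¹ * c * nR hD F (p :: A) * y =
        (nS hD F p)⁻¹ * ((nR hD F A)⁻¹ * c * nR hD F A * y') * nS hD F p * xG hD F (D.simple p) t := by
      rw [← e1]
      show (nR hD F A * nS hD F p)⁻¹ * c * (nR hD F A * nS hD F p) * _ = _
      group
    rw [h3]
    exact h2

theorem Uw_append_exists {A L : List ℕ} (hA : Red D A) (hAL : Red D (A ++ L)) {u : GL D.Idx F}
    (hu : u ∈ Uw D F (nR hD F (A ++ L))) :
    ∃ c ∈ Uw D F (nR hD F L), ∃ y ∈ Uw D F (nR hD F A), u = (nR hD F A)⁻¹ * c * nR hD F A * y := by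
  induction A generalizing u with
  | nil => exact ⟨u, hu, 1, one_mem _, by simp [nR]⟩
  | cons p A ih =>
    obtain ⟨hp, hpos, hred⟩ := hA
    obtain ⟨-, hpos', hred'⟩ := hAL
    obtain ⟨⟨⟨u', hu'⟩, t⟩, e⟩ := (stepMap_bijective (F := F) hD hred' hp hpos').2 ⟨u, hu⟩
    have e1 : (nS hD F p)⁻¹ * u' * nS hD F p * xG hD F (D.simple p) t = u := congrArg Subtype.val e
    obtain ⟨c, hc, y', hy', rfl⟩ := ih hred hred' hu'
    refine ⟨c, hc, _, (stepMap (F := F) hD hred.lt hp hpos (⟨y', hy'⟩, t)).2, ?_⟩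
    rw [← e1]
    show _ = (nR hD F A * nS hD F p)⁻¹ * c * (nR hD F A * nS hD F p) *
      ((nS hD F p)⁻¹ * y' * nS hD F p * xG hD F (D.simple p) t)
    group

theorem Uw_append_unique {n c c' y y' : GL D.Idx F} (hc : c ∈ D.posUnipotent F) (hc' : c' ∈ D.posUnipotent F)
    (hy : y ∈ Uw D F n) (hy' : y' ∈ Uw D F n) (e : n⁻¹ * c * n * y = n⁻¹ * c' * n * y') :
    c = c' ∧ y = y' := by
  have h1 : c'⁻¹ * c = n * (y' * y⁻¹) * n⁻¹ := by
    have : c = n * (n⁻¹ * c * n * y) * y⁻¹ * n⁻¹ := by group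
    rw [this, e]
    group
  have h2 : c'⁻¹ * c = 1 := by
    apply eq_one_of_posU_negU hD (mul_mem (inv_mem hc') hc)
    rw [h1]
    exact conj_Uw_mem_negU (mul_mem hy' (inv_mem hy))
  have h3 : c = c' := by
    have := congrArg (fun z => c' * z) h2
    simpa using this
  subst h3
  exact ⟨rfl, mul_left_cancel e⟩

end

end Cfsg.Agent.Lib.Helper8
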