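import Cfsg.Agent.Lib.Helper8.IsoD
import Cfsg.Agent.Lib.Helper8.Tw1

set_option autoImplicit false
set_option linter.unusedSectionVars false
set_option linter.unusedVariables false

/-! The twisting endomorphism `σ` = special isogeny ∘ field endomorphism. -/

namespace Cfsg.Agent.Lib.Helper8

open Cfsg Cfsg.Lie

/-- compatibility of the root permutation of a special isogeny with the root system -/
structure IsoR (D : ChevalleyDatum) (T : IsoData) (p0 : List ℕ) : Prop where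
  smp : ∀ i < D.rank, p0.getD i 0 < D.rank ∧ T.rho D.rank (D.simple i) = D.simple (p0.getD i 0)
  neg : ∀ r < D.nroots, T.rho D.rank (D.neg r) = D.neg (T.rho D.rank r) ∧ T.lamF (D.neg r) = T.lamF r
  sgn : ∀ r < D.nroots, (D.nroots / 2 ≤ r ↔ D.nroots / 2 ≤ T.rho D.rank r)
  equiv : ∀ i < D.rank, ∀ s < D.nroots,
    D.reflectRoot (p0.getD i 0) (T.rho D.rank s) = T.rho D.rank (D.reflectRoot i s)

theorem isoR_G2 : IsoR chevG2 isoG2 [1, 0] := ⟨by decide, by decide, by decide, by decide⟩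
theorem isoR_F4 : IsoR chevF4 isoF4 [3, 2, 1, 0] :=
  ⟨by decide +kernel, by decide +kernel, by decide +kernel, by decide +kernel⟩

section
variable {D : ChevalleyDatum} (hD : D ∈ allData) {T : IsoData} (hT : IsoOK D T) {p0 : List ℕ}
  {K : Type*} [Field K] [CharP K T.c] (hinj : Function.Injective (isoR1 hD hT (F := K))) (φ : K →+* K)

include hD in
theorem glMap_mem_groupR {g : GL D.Idx K} (hg : g ∈ D.group K) : glMap D φ g ∈ D.group K := by
  have : D.group K ≤ (D.group K).comap (glMap D φ) := by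
    conv_lhs => rw [group_eq_closure hD]
    rw [Subgroup.closure_le]
    rintro g ⟨r, t, rfl⟩
    show glMap D φ (xG hD K r t) ∈ D.group K
    rw [glMap_xG]
    exact xG_mem_group hD _ _
  exact this hg

include hD in
theorem negU_le_group : D.negUnipotent K ≤ D.group K := by
  rw [ChevalleyDatum.negUnipotent, Subgroup.closure_le]
  rintro g ⟨r, t, hr, hg⟩
  rw [eq_xG hD hg]
  exact xG_mem_group hD r t

/-- `σ` on the Chevalley group -/
noncomputable def sgH : ↥(D.group K) →* ↥(D.group K) :=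
  (isoTau hD hT hinj).comp
    (((glMap D φ).comp (D.group K).subtype).codRestrict (D.group K) (fun g => glMap_mem_groupR hD φ g.2))

open Classical in
/-- `σ` extended by `1` -/
noncomputable def sg (g : GL D.Idx K) : GL D.Idx K :=
  if h : g ∈ D.group K then (sgH hD hT hinj φ ⟨g, h⟩ : GL D.Idx K) else 1

theorem sg_of_mem {g : GL D.Idx K} (h : g ∈ D.group K) :
    sg hD hT hinj φ g = (sgH hD hT hinj φ ⟨g, h⟩ : GL D.Idx K) := by
  unfold sg; rw [dif_pos h]

theorem sg_mem_group (g : GL D.Idx K) : sg hD hT hinj φ g ∈ D.group K := by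
  unfold sg
  split_ifs with h
  · exact (sgH hD hT hinj φ ⟨g, h⟩).2
  · exact one_mem _

theorem sg_mul {g h : GL D.Idx K} (hg : g ∈ D.group K) (hh : h ∈ D.group K) :
    sg hD hT hinj φ (g * h) = sg hD hT hinj φ g * sg hD hT hinj φ h := by
  rw [sg_of_mem _ _ _ _ (mul_mem hg hh), sg_of_mem _ _ _ _ hg, sg_of_mem _ _ _ _ hh, ← Subgroup.coe_mul,
    ← map_mul]
  rfl

theorem sg_one : sg hD hT hinj φ 1 = 1 := by
  rw [sg_of_mem _ _ _ _ (one_mem _)]
  have : (⟨1, one_mem _⟩ : ↥(D.group K)) = 1 := rfl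
  rw [this, map_one]; rfl

theorem sg_inv {g : GL D.Idx K} (hg : g ∈ D.group K) :
    sg hD hT hinj φ g⁻¹ = (sg hD hT hinj φ g)⁻¹ := by
  rw [eq_inv_iff_mul_eq_one, ← sg_mul _ _ _ _ (inv_mem hg) hg, inv_mul_cancel, sg_one]

/-- the action of `σ` on the parameters of the root subgroup `r` -/
def eR (T : IsoData) (φ : K →+* K) (r : ℕ) (t : K) : K := φ t ^ T.lamF r

theorem sg_x {r : ℕ} (hr : r < D.nroots) (t : K) :
    sg hD hT hinj φ (xG hD K r t) = xG hD K (T.rho D.rank r) (eR T φ r t) := by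
  rw [sg_of_mem _ _ _ _ (xG_mem_group hD r t)]
  have : sgH hD hT hinj φ ⟨xG hD K r t, xG_mem_group hD r t⟩ = xS hD (T.rho D.rank r) (eR T φ r t) := by
    show isoTau hD hT hinj ⟨glMap D φ (xG hD K r t), _⟩ = _
    have e : (⟨glMap D φ (xG hD K r t), glMap_mem_groupR hD φ (xG_mem_group hD r t)⟩ : ↥(D.group K)) =
        xS hD r (φ t) := Subtype.ext (glMap_xG hD φ r t)
    rw [e, isoTau_x hD hT hinj hr]
    rfl
  rw [this]; rfl

/-- the fixed points of `σ` -/
noncomputable def fixR : Subgroup (GL D.Idx K) where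
  carrier := {g | g ∈ D.group K ∧ sg hD hT hinj φ g = g}
  mul_mem' := by
    rintro a b ⟨ha, ha'⟩ ⟨hb, hb'⟩
    exact ⟨mul_mem ha hb, by rw [sg_mul _ _ _ _ ha hb, ha', hb']⟩
  one_mem' := ⟨one_mem _, sg_one _ _ _ _⟩
  inv_mem' := by
    rintro a ⟨ha, ha'⟩
    exact ⟨inv_mem ha, by rw [sg_inv _ _ _ _ ha, ha']⟩

theorem mem_fixR {g : GL D.Idx K} : g ∈ fixR hD hT hinj φ ↔ g ∈ D.group K ∧ sg hD hT hinj φ g = g := Iff.rfl

variable (R : IsoR D T p0) (hodd : ∀ r, (-1 : K) ^ T.lamF r = -1)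

include hD hT R in
theorem IsoR.rho_pos {r : ℕ} (hr : D.IsPosRoot r) : D.IsPosRoot (T.rho D.rank r) := by
  rw [isPos_iff hD] at hr ⊢
  exact ⟨(R.sgn r hr.2).mp hr.1, hT.rho_lt hr.2⟩

include hD hT R in
theorem IsoR.rho_neg {r : ℕ} (hr : D.IsNegRoot r) : D.IsNegRoot (T.rho D.rank r) := by
  have h1 := hr.1
  rw [isNeg_iff hD] at hr ⊢
  by_contra h
  exact absurd ((R.sgn r h1).mpr (not_lt.mp h)) (not_le.mpr hr)

include R in
theorem sg_mem_posU {u : GL D.Idx K} (hu : u ∈ D.posUnipotent K) : sg hD hT hinj φ u ∈ D.posUnipotent K := by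
  rw [ChevalleyDatum.posUnipotent] at hu
  induction hu using Subgroup.closure_induction with
  | mem x hx =>
    obtain ⟨r, t, hr, hg⟩ := hx
    rw [eq_xG hD hg, sg_x hD hT hinj φ hr.1]
    exact xG_mem_posU hD (IsoR.rho_pos hD hT R hr) _
  | one => rw [sg_one]; exact one_mem _
  | mul x y hx hy ihx ihy =>
    rw [sg_mul _ _ _ _ (posU_le_group hD hx) (posU_le_group hD hy)]
    exact mul_mem ihx ihy
  | inv x hx ih =>
    rw [sg_inv _ _ _ _ (posU_le_group hD hx)]
    exact inv_mem ih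

include R in
theorem sg_mem_negU {u : GL D.Idx K} (hu : u ∈ D.negUnipotent K) : sg hD hT hinj φ u ∈ D.negUnipotent K := by
  rw [ChevalleyDatum.negUnipotent] at hu
  induction hu using Subgroup.closure_induction with
  | mem x hx =>
    obtain ⟨r, t, hr, hg⟩ := hx
    rw [eq_xG hD hg, sg_x hD hT hinj φ hr.1]
    exact xG_mem_negU hD (IsoR.rho_neg hD hT R hr) _
  | one => rw [sg_one]; exact one_mem _
  | mul x y hx hy ihx ihy =>
    rw [sg_mul _ _ _ _ (negU_le_group hD hx) (negU_le_group hD hy)]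
    exact mul_mem ihx ihy
  | inv x hx ih =>
    rw [sg_inv _ _ _ _ (negU_le_group hD hx)]
    exact inv_mem ih

include R hodd in
theorem sg_nG {r : ℕ} (hr : r < D.nroots) (t : K) :
    sg hD hT hinj φ (nG hD K r t) = nG hD K (T.rho D.rank r) (eR T φ r t) := by
  unfold nG
  have h1 := xG_mem_group (F := K) hD r t
  have h2 := xG_mem_group (F := K) hD (D.neg r) (-t⁻¹)
  rw [sg_mul _ _ _ _ (mul_mem h1 h2) h1, sg_mul _ _ _ _ h1 h2, sg_x _ _ _ _ hr,
    sg_x _ _ _ _ (neg_lt' hD _ hr), (R.neg r hr).1]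
  have : eR T φ (D.neg r) (-t⁻¹) = -(eR T φ r t)⁻¹ := by
    unfold eR
    rw [(R.neg r hr).2, map_neg, map_inv₀, neg_pow, hodd, inv_pow, neg_one_mul]
  rw [this]

include R hodd in
theorem sg_hG {r : ℕ} (hr : r < D.nroots) (t : K) :
    sg hD hT hinj φ (hG hD K r t) = hG hD K (T.rho D.rank r) (eR T φ r t) := by
  unfold hG
  rw [sg_mul _ _ _ _ (nG_mem_group hD r t) (nG_mem_group hD r (-1)), sg_nG hD hT hinj φ R hodd hr,
    sg_nG hD hT hinj φ R hodd hr]
  have : eR T φ r (-1) = -1 := by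
    unfold eR; rw [map_neg, map_one, hodd]
  rw [this]

omit [CharP K T.c] in
theorem eR_ne_zero (r : ℕ) {t : K} (ht : t ≠ 0) : eR T φ r t ≠ 0 := by
  unfold eR
  exact pow_ne_zero _ (by rwa [Ne, map_eq_zero])

omit [CharP K T.c] in
theorem eR_one (r : ℕ) : eR T φ r 1 = 1 := by
  unfold eR; rw [map_one, one_pow]

include R hodd in
theorem sg_mem_diag {h : GL D.Idx K} (hh : h ∈ D.diagonalSubgroup K) : sg hD hT hinj φ h ∈ D.diagonalSubgroup K := by
  rw [ChevalleyDatum.diagonalSubgroup] at hh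
  induction hh using Subgroup.closure_induction with
  | mem x hx =>
    obtain ⟨r, t, hr, ht, hg⟩ := hx
    rw [eq_hG hD hg, sg_hG hD hT hinj φ R hodd hr]
    exact hG_mem_diag hD (hT.rho_lt hr) (eR_ne_zero φ r ht)
  | one => rw [sg_one]; exact one_mem _
  | mul x y hx hy ihx ihy =>
    rw [sg_mul _ _ _ _ (diag_le_group hD hx) (diag_le_group hD hy)]
    exact mul_mem ihx ihy
  | inv x hx ih =>
    rw [sg_inv _ _ _ _ (diag_le_group hD hx)]
    exact inv_mem ih

include R hodd in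
theorem sg_mem_borel {b : GL D.Idx K} (hb : b ∈ D.borelSubgroup K) : sg hD hT hinj φ b ∈ D.borelSubgroup K := by
  obtain ⟨u, hu, h, hh, rfl⟩ := mem_borel hD hb
  rw [sg_mul _ _ _ _ (posU_le_group hD hu) (diag_le_group hD hh)]
  exact mul_mem (posU_le_borel hD (sg_mem_posU hD hT hinj φ R hu))
    (diag_le_borel hD (sg_mem_diag hD hT hinj φ R hodd hh))

/-- the permutation of the nodes -/
abbrev IsoR.p (_ : IsoR D T p0) (i : ℕ) : ℕ := p0.getD i 0

omit [CharP K T.c] in
theorem IsoR.p_lt {i : ℕ} (hi : i < D.rank) : R.p i < D.rank := (R.smp i hi).1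

omit [CharP K T.c] in
theorem IsoR.map_lt {L : List ℕ} (hL : ∀ i ∈ L, i < D.rank) : ∀ i ∈ L.map R.p, i < D.rank := by
  intro i hi
  obtain ⟨j, hj, rfl⟩ := List.mem_map.mp hi
  exact R.p_lt (hL j hj)

include hodd in
theorem sg_nS {i : ℕ} (hi : i < D.rank) : sg hD hT hinj φ (nS hD K i) = nS hD K (R.p i) := by
  rw [sg_nG hD hT hinj φ R hodd (simple_lt hD hi), eR_one, (R.smp i hi).2]

include hodd in
theorem sg_nR (L : List ℕ) (hL : ∀ i ∈ L, i < D.rank) :
    sg hD hT hinj φ (nR hD K L) = nR hD K (L.map R.p) := by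
  induction L with
  | nil => exact sg_one _ _ _ _
  | cons i L ih =>
    show sg hD hT hinj φ (nR hD K L * nS hD K i) = nR hD K (L.map R.p) * nS hD K (R.p i)
    have hL' : ∀ j ∈ L, j < D.rank := fun j hj => hL j (List.mem_cons_of_mem _ hj)
    rw [sg_mul _ _ _ _ (mono_le_group hD (nR_mem_mono hD L hL')) (nG_mem_group hD _ _), ih hL',
      sg_nS hD hT hinj φ R hodd (hL i List.mem_cons_self)]

include hD in
omit [CharP K T.c] in
theorem IsoR.wR_map : ∀ (L : List ℕ), (∀ i ∈ L, i < D.rank) → ∀ {s : ℕ}, s < D.nroots →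
    wR D (L.map R.p) (T.rho D.rank s) = T.rho D.rank (wR D L s)
  | [], _, _, _ => rfl
  | i :: L, hL, s, hs => by
    show wR D (L.map R.p) (D.reflectRoot (R.p i) (T.rho D.rank s)) = T.rho D.rank (wR D L (D.reflectRoot i s))
    rw [R.equiv i (hL i List.mem_cons_self) s hs]
    exact IsoR.wR_map L (fun j hj => hL j (List.mem_cons_of_mem _ hj)) (reflect_lt hD (hL i List.mem_cons_self) hs)

include hT in
omit [CharP K T.c] in
theorem IsoR.om_map_congr {L L' : List ℕ} (hL : ∀ i ∈ L, i < D.rank) (hL' : ∀ i ∈ L', i < D.rank)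
    (e : om (sP hD) L = om (sP hD) L') : om (sP hD) (L.map R.p) = om (sP hD) (L'.map R.p) := by
  rw [om_eq_iff hD (R.map_lt hL) (R.map_lt hL')]
  intro s hs
  have h1 := hT.rho_lt hs
  rw [← hT.rho_rho hs, IsoR.wR_map hD R L hL h1, IsoR.wR_map hD R L' hL' h1, (om_eq_iff hD hL hL').mp e _ h1]

end

end Cfsg.Agent.Lib.Helper8
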