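import Cfsg.Agent.Lib.Helper8.Ree9

set_option autoImplicit false
set_option linter.unusedSectionVars false
set_option linter.unusedVariables false

/-! The torus of the finite Ree groups. -/

namespace Cfsg.Agent.Lib.Helper8

open Cfsg Cfsg.Lie

theorem three_pow_mod4 (m : ℕ) : 3 ^ (2 * m + 1) % 4 = 3 := by
  rw [pow_succ, pow_mul, Nat.mul_mod, Nat.pow_mod]
  norm_num

/-- the set-up for `²G₂(3^(2m+1))`, with the torus -/
theorem setup_ree' {K : Type*} [Field K] [Fintype K] {m : ℕ} (hK : Fintype.card K = 3 ^ (2 * m + 1)) :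
    ∃ (_ : CharP K 3) (φ : K →+* K), (∀ t, φ t = t ^ 3 ^ m) ∧ (∀ t, φ (φ t) ^ 3 = t) ∧
      twistedG2 K (3 ^ m) = reeG φ ∧ chevG2.diagonalSubgroup K ⊓ reeG φ = (hR φ).range := by
  obtain ⟨hc, φ, he, hφ, hG⟩ := setup_ree hK
  exact ⟨hc, φ, he, hφ, hG, diag_inf_reeG φ G2_isoR1_inj hφ (by rw [hK]; exact three_pow_mod4 m)⟩

theorem card_hR_range {K : Type*} [Field K] [Fintype K] (φ : K →+* K) :
    Nat.card ↥(hR φ).range = Fintype.card K - 1 := by
  classical
  rw [← Nat.card_congr (MonoidHom.ofInjective (hR_injective φ)).toEquiv, Nat.card_eq_fintype_card,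
    Fintype.card_units]

theorem isCyclic_hR_range {K : Type*} [Field K] [Fintype K] (φ : K →+* K) : IsCyclic ↥(hR φ).range :=
  isCyclic_of_surjective (hR φ).rangeRestrict (hR φ).rangeRestrict_surjective

end Cfsg.Agent.Lib.Helper8
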