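import Cfsg.Agent.Lib.Helper8.Ree10

set_option autoImplicit false
set_option linter.unusedSectionVars false
set_option linter.unusedVariables false

/-! The Bruhat decomposition and the order of the Ree groups. -/

namespace Cfsg.Agent.Lib.Helper8

open Cfsg Cfsg.Lie

section
variable {K : Type*} [Field K]

theorem n0_G2_not_mem_diag : n0 hG2 K ∉ chevG2.diagonalSubgroup K := by
  intro h
  have h1 : om (sP hG2) (w0Of chevG2) = om (sP hG2) [] := by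
    apply om_of_nR_eq (F := K) hG2 (w0_lt hG2) (by simp)
    exact ⟨n0 hG2 K, h, (mul_one _).symm⟩
  have h2 := (om_eq_iff hG2 (w0_lt hG2) (by simp)).mp h1 11 (by decide)
  revert h2
  decide

variable (φ : K →+* K)

theorem betaR_001_ne_one [CharP K 3] : betaR φ 0 0 1 ≠ 1 := by
  intro h
  have e : betaR φ 0 0 1 = xG hG2 K 2 (-1) * xG hG2 K 0 (-1) := by
    unfold betaR Q6 s4n
    simp [xG_zero]
  rw [e, mul_eq_one_iff_eq_inv, xG_inv, neg_neg] at h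
  let c : ℕ → Kˣ := fun i => if i = 0 then -1 else 1
  have h1 := conj_tG_x hG2 c (s := 2) (by decide) (-1 : K)
  have h2 := conj_tG_x hG2 c (s := 0) (by decide) (1 : K)
  rw [h, h2] at h1
  have c2 : chi chevG2 c 2 = -1 := by
    rw [chi_G2, show chevG2.cartan 0 2 = -1 by decide, show chevG2.cartan 1 2 = 0 by decide]
    simp [c]
  have c0 : chi chevG2 c 0 = 1 := by
    rw [chi_G2, show chevG2.cartan 0 0 = 0 by decide, show chevG2.cartan 1 0 = -1 by decide]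
    simp [c]
  rw [c2, c0, Units.val_one, one_mul, ← h] at h1
  have h3 := xG_inj hG2 (by decide) h1
  have h4 : (2 : K) = 0 := by
    simp at h3
    linear_combination -h3
  have h5 : ((2 : ℕ) : K) = 0 := by exact_mod_cast h4
  rw [CharP.cast_eq_zero_iff K 3] at h5
  omega

variable [CharP K 3] [Fintype K] (hinj : Function.Injective (isoR1 hG2 isoOK_G2 (F := K)))
  (hφ : ∀ t, φ (φ t) ^ 3 = t)
include hinj hφ

theorem exists_nstar : ∃ h0 ∈ chevG2.diagonalSubgroup K, h0 * n0 hG2 K ∈ reeG φ := by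
  have hv := betaR_mem φ 0 0 1
  rcases fixed_normal_form_G2 hinj φ (reeG_le_fixR φ hinj hφ hv) with ⟨u, hu, h, hh, e⟩ | ⟨u, hu, h, hh, -, u', hu', e⟩
  · exfalso
    apply betaR_001_ne_one φ
    have : betaR φ 0 0 1 ∈ chevG2.borelSubgroup K ⊓ chevG2.negUnipotent K :=
      ⟨by rw [e]; exact mul_mem (posU_le_borel hG2 hu.1) (diag_le_borel hG2 hh.1), betaR_mem_negU φ 0 0 1⟩
    rwa [borel_inf_negU hG2, Subgroup.mem_bot] at this
  · refine ⟨h, hh, ?_⟩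
    have : h * n0 hG2 K = u⁻¹ * betaR φ 0 0 1 * u'⁻¹ := by rw [e]; group
    rw [this]
    exact mul_mem (mul_mem (inv_mem (posU_inf_fixR_le φ hinj hφ hu)) hv) (inv_mem (posU_inf_fixR_le φ hinj hφ hu'))

variable {h0 : GL chevG2.Idx K} (hh0 : h0 ∈ chevG2.diagonalSubgroup K) (hn : h0 * n0 hG2 K ∈ reeG φ)
include hh0 hn

theorem reeG_cases {g : GL chevG2.Idx K} (hg : g ∈ reeG φ) :
    (∃ u ∈ chevG2.posUnipotent K ⊓ reeG φ, ∃ h ∈ chevG2.diagonalSubgroup K ⊓ reeG φ, g = u * h) ∨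
    (∃ u ∈ chevG2.posUnipotent K ⊓ reeG φ, ∃ h ∈ chevG2.diagonalSubgroup K ⊓ reeG φ,
      ∃ u' ∈ chevG2.posUnipotent K ⊓ reeG φ, g = u * h * (h0 * n0 hG2 K) * u') := by
  rcases fixed_normal_form_G2 hinj φ (reeG_le_fixR φ hinj hφ hg) with ⟨u, hu, h, hh, e⟩ | ⟨u, hu, h, hh, -, u', hu', e⟩
  · left
    have hu2 := posU_inf_fixR_le φ hinj hφ hu
    have hh2 : h ∈ reeG φ := by
      have : h = u⁻¹ * g := by rw [e]; group
      rw [this]
      exact mul_mem (inv_mem hu2) hg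
    exact ⟨u, ⟨hu.1, hu2⟩, h, ⟨hh.1, hh2⟩, e⟩
  · right
    have hu2 := posU_inf_fixR_le φ hinj hφ hu
    have hu2' := posU_inf_fixR_le φ hinj hφ hu'
    have hh2 : h * h0⁻¹ ∈ reeG φ := by
      have : h * h0⁻¹ = u⁻¹ * g * u'⁻¹ * (h0 * n0 hG2 K)⁻¹ := by rw [e]; group
      rw [this]
      exact mul_mem (mul_mem (mul_mem (inv_mem hu2) hg) (inv_mem hu2')) (inv_mem hn)
    have hh3 : h * h0⁻¹ ∈ chevG2.diagonalSubgroup K := mul_mem hh (inv_mem hh0)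
    refine ⟨u, ⟨hu.1, hu2⟩, h * h0⁻¹, ⟨hh3, hh2⟩, u', ⟨hu'.1, hu2'⟩, ?_⟩
    rw [e]; group

omit hinj hφ hn [CharP K 3] [Fintype K] in
theorem uh_unique {u h u' h' : GL chevG2.Idx K} (hu : u ∈ chevG2.posUnipotent K) (hh : h ∈ chevG2.diagonalSubgroup K)
    (hu' : u' ∈ chevG2.posUnipotent K) (hh' : h' ∈ chevG2.diagonalSubgroup K) (e : u * h = u' * h') :
    u = u' ∧ h = h' := by
  have e3 : u'⁻¹ * u = h' * h⁻¹ := by
    have : u = u' * h' * h⁻¹ := by rw [← e]; group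
    rw [this]; group
  have e4 : u'⁻¹ * u ∈ chevG2.posUnipotent K ⊓ chevG2.diagonalSubgroup K :=
    Subgroup.mem_inf.mpr ⟨mul_mem (inv_mem hu') hu, by rw [e3]; exact mul_mem hh' (inv_mem hh)⟩
  rw [posU_inf_diag hG2, Subgroup.mem_bot] at e4
  have e5 : u = u' := by
    have := congrArg (fun z => u' * z) e4
    simpa using this
  subst e5
  exact ⟨rfl, mul_left_cancel e⟩

omit hinj hφ hn [CharP K 3] [Fintype K] in
theorem big_cell_unique {u h v u' h' v' : GL chevG2.Idx K} (hu : u ∈ chevG2.posUnipotent K)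
    (hh : h ∈ chevG2.diagonalSubgroup K) (hv : v ∈ chevG2.posUnipotent K)
    (hu' : u' ∈ chevG2.posUnipotent K) (hh' : h' ∈ chevG2.diagonalSubgroup K) (hv' : v' ∈ chevG2.posUnipotent K)
    (e : u * h * (h0 * n0 hG2 K) * v = u' * h' * (h0 * n0 hG2 K) * v') : u = u' ∧ h = h' ∧ v = v' := by
  have e1 : (u * (h * h0)) * n0 hG2 K * v = (u' * (h' * h0)) * n0 hG2 K * v' := by
    have a1 : (u * (h * h0)) * n0 hG2 K * v = u * h * (h0 * n0 hG2 K) * v := by group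
    have a2 : (u' * (h' * h0)) * n0 hG2 K * v' = u' * h' * (h0 * n0 hG2 K) * v' := by group
    rw [a1, a2, e]
  obtain ⟨e2, e3⟩ := normal_form_unique hG2
    (mul_mem (posU_le_borel hG2 hu) (diag_le_borel hG2 (mul_mem hh hh0)))
    (mul_mem (posU_le_borel hG2 hu') (diag_le_borel hG2 (mul_mem hh' hh0)))
    (by rw [Uw_n0 hG2]; exact hv) (by rw [Uw_n0 hG2]; exact hv') e1
  obtain ⟨e4, e5⟩ := uh_unique hh0 hu (mul_mem hh hh0) hu' (mul_mem hh' hh0) e2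
  exact ⟨e4, mul_right_cancel e5, e3⟩

omit hinj hφ hn [CharP K 3] [Fintype K] in
theorem cells_disjoint {u h u' h' v' : GL chevG2.Idx K} (hu : u ∈ chevG2.posUnipotent K)
    (hh : h ∈ chevG2.diagonalSubgroup K)
    (hu' : u' ∈ chevG2.posUnipotent K) (hh' : h' ∈ chevG2.diagonalSubgroup K) (hv' : v' ∈ chevG2.posUnipotent K)
    (e : u * h = u' * h' * (h0 * n0 hG2 K) * v') : False := by
  have e1 : (u * h) * 1 * 1 = (u' * (h' * h0)) * n0 hG2 K * v' := by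
    have a2 : (u' * (h' * h0)) * n0 hG2 K * v' = u' * h' * (h0 * n0 hG2 K) * v' := by group
    rw [a2, ← e, mul_one, mul_one]
  have h1 := bruhat_unique hG2 (one_mem _) (n0_mem hG2)
    (mul_mem (posU_le_borel hG2 hu) (diag_le_borel hG2 hh))
    (mul_mem (posU_le_borel hG2 hu') (diag_le_borel hG2 (mul_mem hh' hh0))) (one_mem _)
    (posU_le_borel hG2 hv') e1
  rw [inv_one, one_mul] at h1
  exact n0_G2_not_mem_diag h1

theorem card_reeG : Nat.card ↥(reeG φ) =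
    Fintype.card K ^ 3 * Nat.card ↥(chevG2.diagonalSubgroup K ⊓ reeG φ) * (Fintype.card K ^ 3 + 1) := by
  let U1 := chevG2.posUnipotent K ⊓ reeG φ
  let H1 := chevG2.diagonalSubgroup K ⊓ reeG φ
  let f : (↥U1 × ↥H1) ⊕ (↥U1 × ↥H1 × ↥U1) → ↥(reeG φ) := fun x =>
    match x with
    | Sum.inl p => ⟨(p.1 : GL chevG2.Idx K) * p.2, mul_mem p.1.2.2 p.2.2.2⟩
    | Sum.inr p => ⟨(p.1 : GL chevG2.Idx K) * p.2.1 * (h0 * n0 hG2 K) * p.2.2,
        mul_mem (mul_mem (mul_mem p.1.2.2 p.2.1.2.2) hn) p.2.2.2.2⟩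
  have hf : Function.Bijective f := by
    constructor
    · rintro (⟨⟨u, hu⟩, ⟨h, hh⟩⟩ | ⟨⟨u, hu⟩, ⟨h, hh⟩, ⟨v, hv⟩⟩) (⟨⟨u', hu'⟩, ⟨h', hh'⟩⟩ | ⟨⟨u', hu'⟩, ⟨h', hh'⟩, ⟨v', hv'⟩⟩) e
      · have e1 : u * h = u' * h' := congrArg Subtype.val e
        obtain ⟨rfl, rfl⟩ := uh_unique hh0 hu.1 hh.1 hu'.1 hh'.1 e1
        rfl
      · have e1 : u * h = u' * h' * (h0 * n0 hG2 K) * v' := congrArg Subtype.val e
        exact (cells_disjoint hh0 hu.1 hh.1 hu'.1 hh'.1 hv'.1 e1).elim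
      · have e1 : u * h * (h0 * n0 hG2 K) * v = u' * h' := congrArg Subtype.val e
        exact (cells_disjoint hh0 hu'.1 hh'.1 hu.1 hh.1 hv.1 e1.symm).elim
      · have e1 : u * h * (h0 * n0 hG2 K) * v = u' * h' * (h0 * n0 hG2 K) * v' := congrArg Subtype.val e
        obtain ⟨rfl, rfl, rfl⟩ := big_cell_unique hh0 hu.1 hh.1 hv.1 hu'.1 hh'.1 hv'.1 e1
        rfl
    · rintro ⟨g, hg⟩
      rcases reeG_cases φ hinj hφ hh0 hn hg with ⟨u, hu, h, hh, rfl⟩ | ⟨u, hu, h, hh, v, hv, rfl⟩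
      · exact ⟨Sum.inl (⟨u, hu⟩, ⟨h, hh⟩), rfl⟩
      · exact ⟨Sum.inr (⟨u, hu⟩, ⟨h, hh⟩, ⟨v, hv⟩), rfl⟩
  rw [← Nat.card_congr (Equiv.ofBijective f hf), Nat.card_sum, Nat.card_prod, Nat.card_prod, Nat.card_prod,
    card_posU_inf_reeG φ hinj hφ]
  ring

end

end Cfsg.Agent.Lib.Helper8
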