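import Cfsg.Agent.Lib.Helper8.Ree11

set_option autoImplicit false
set_option linter.unusedSectionVars false
set_option linter.unusedVariables false

/-! The (B,N)-pair of rank one of the Ree groups. -/

namespace Cfsg.Agent.Lib.Helper8

open Cfsg Cfsg.Lie

/-- a (B,N)-pair of rank one -/
def bnPairRankOne {G : Type*} [Group G] (B N : Subgroup G) (s : G) (hs : s ∈ N)
    (h1 : ∀ g : G, g ∈ B ∨ ∃ b ∈ B, ∃ b' ∈ B, g = b * s * b')
    (h2 : ∀ n ∈ N, n ∈ B ∨ n * s⁻¹ ∈ B)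
    (h3 : ∀ n ∈ N, ∀ t ∈ B ⊓ N, n * t * n⁻¹ ∈ B)
    (h4 : s * s ∈ B) (h5 : ∃ b ∈ B, s * b * s ∉ B) : Cfsg.BNPair G where
  B := B
  N := N
  S := {s}
  sup_eq_top := by
    rw [eq_top_iff]
    intro g _
    rcases h1 g with h | ⟨b, hb, b', hb', rfl⟩
    · exact (le_sup_left : B ≤ B ⊔ N) h
    · exact mul_mem (mul_mem ((le_sup_left : B ≤ B ⊔ N) hb) ((le_sup_right : N ≤ B ⊔ N) hs))
        ((le_sup_left : B ≤ B ⊔ N) hb')
  conj_mem := h3
  subset := by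
    rintro x rfl
    exact hs
  sq_mem := by
    rintro x rfl
    exact h4
  inj := by
    rintro x rfl y rfl _
    rfl
  closure_sup := by
    apply le_antisymm
    · apply sup_le
      · rw [Subgroup.closure_le]
        rintro x rfl
        exact hs
      · exact inf_le_right
    · intro n hn
      rcases h2 n hn with h | h
      · exact (le_sup_right : B ⊓ N ≤ Subgroup.closure {s} ⊔ (B ⊓ N)) ⟨h, hn⟩
      · have e : n = (n * s⁻¹) * s := by group
        rw [e]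
        exact mul_mem ((le_sup_right : B ⊓ N ≤ Subgroup.closure {s} ⊔ (B ⊓ N)) ⟨h, N.mul_mem hn (N.inv_mem hs)⟩)
          ((le_sup_left : Subgroup.closure {s} ≤ Subgroup.closure {s} ⊔ (B ⊓ N))
            (Subgroup.subset_closure rfl))
  mul_mem_union := by
    rintro x rfl n hn b hb
    rw [Set.mem_union, DoubleCoset.mem_doubleCoset, DoubleCoset.mem_doubleCoset]
    rcases h2 n hn with h | h
    · rcases h1 (x * b * n) with h' | ⟨c, hc, c', hc', e⟩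
      · right
        exact ⟨x * b * n * n⁻¹, mul_mem h' (inv_mem h), 1, one_mem _, by group⟩
      · left
        exact ⟨c, hc, n⁻¹ * c', mul_mem (inv_mem h) hc', by rw [e]; group⟩
    · rcases h1 (x * b * n) with h' | ⟨c, hc, c', hc', e⟩
      · left
        have h6 : x * n ∈ B := by
          have e : x * n = (x * (n * x⁻¹) * x⁻¹) * (x * x) := by group
          rw [e]
          exact mul_mem (h3 x hs _ ⟨h, N.mul_mem hn (N.inv_mem hs)⟩) h4
        exact ⟨x * b * n * (x * n)⁻¹, mul_mem h' (inv_mem h6), 1, one_mem _, by group⟩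
      · right
        exact ⟨c * (n * x⁻¹)⁻¹, mul_mem hc (inv_mem h), c', hc', by rw [e]; group⟩
  conj_ne := by
    rintro x rfl h
    obtain ⟨b, hb, hb'⟩ := h5
    apply hb'
    have := Set.mem_image_of_mem (fun b : G => x * b * x) hb
    rw [h] at this
    exact this

section
variable {K : Type*} [Field K] (φ : K →+* K)
variable [CharP K 3] [Fintype K] (hinj : Function.Injective (isoR1 hG2 isoOK_G2 (F := K)))
  (hφ : ∀ t, φ (φ t) ^ 3 = t)
variable {h0 : GL chevG2.Idx K} (hh0 : h0 ∈ chevG2.diagonalSubgroup K) (hn : h0 * n0 hG2 K ∈ reeG φ)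
include hh0

omit [CharP K 3] [Fintype K] in
theorem nstar_mem_mono : h0 * n0 hG2 K ∈ chevG2.monomialSubgroup K :=
  mul_mem (diag_le_mono hG2 hh0) (n0_mem hG2)

omit [CharP K 3] [Fintype K] in
theorem nstar_not_mem_borel : h0 * n0 hG2 K ∉ chevG2.borelSubgroup K := by
  intro h
  have h1 : h0 * n0 hG2 K ∈ chevG2.borelSubgroup K ⊓ chevG2.monomialSubgroup K := ⟨h, nstar_mem_mono hh0⟩
  rw [borel_inf_mono hG2] at h1
  apply n0_G2_not_mem_diag (K := K)
  have e : n0 hG2 K = h0⁻¹ * (h0 * n0 hG2 K) := by group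
  rw [e]
  exact mul_mem (inv_mem hh0) h1

include hinj hφ hn

theorem mono_cases {n : GL chevG2.Idx K} (hn1 : n ∈ chevG2.monomialSubgroup K ⊓ reeG φ) :
    n ∈ chevG2.diagonalSubgroup K ⊓ reeG φ ∨ n * (h0 * n0 hG2 K)⁻¹ ∈ chevG2.diagonalSubgroup K ⊓ reeG φ := by
  rcases reeG_cases φ hinj hφ hh0 hn hn1.2 with ⟨u, hu, h, hh, e⟩ | ⟨u, hu, h, hh, v, hv, e⟩
  · left
    have h1 := bruhat_unique hG2 hn1.1 (one_mem _) (one_mem _)
      (mul_mem (posU_le_borel hG2 hu.1) (diag_le_borel hG2 hh.1)) (one_mem _) (one_mem _)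
      (by rw [one_mul, mul_one, mul_one, mul_one]; exact e)
    rw [mul_one] at h1
    have h2 := inv_mem h1
    rw [inv_inv] at h2
    exact ⟨h2, hn1.2⟩
  · right
    have h1 := bruhat_unique hG2 hn1.1 (nstar_mem_mono hh0) (one_mem _)
      (mul_mem (posU_le_borel hG2 hu.1) (diag_le_borel hG2 hh.1)) (one_mem _) (posU_le_borel hG2 hv.1)
      (by rw [one_mul, mul_one]; exact e)
    have h2 := mono_conj_diag hG2 hn1.1 h1
    have e2 : n * (n⁻¹ * (h0 * n0 hG2 K)) * n⁻¹ = (n * (h0 * n0 hG2 K)⁻¹)⁻¹ := by group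
    rw [e2] at h2
    have h3 := inv_mem h2
    rw [inv_inv] at h3
    exact ⟨h3, (reeG φ).mul_mem hn1.2 ((reeG φ).inv_mem hn)⟩

theorem nstar_sq_mem : (h0 * n0 hG2 K) * (h0 * n0 hG2 K) ∈ chevG2.diagonalSubgroup K ⊓ reeG φ := by
  rcases mono_cases φ hinj hφ hh0 hn (n := (h0 * n0 hG2 K) * (h0 * n0 hG2 K))
    ⟨mul_mem (nstar_mem_mono hh0) (nstar_mem_mono hh0), mul_mem hn hn⟩ with h | h
  · exact h
  · exfalso
    rw [mul_inv_cancel_right] at h
    exact nstar_not_mem_borel hh0 (diag_le_borel hG2 h.1)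

omit hinj hφ hn [CharP K 3] [Fintype K] in
theorem nstar_conj_posU {u : GL chevG2.Idx K} (hu : u ∈ chevG2.posUnipotent K) :
    (h0 * n0 hG2 K) * u * (h0 * n0 hG2 K)⁻¹ ∈ chevG2.negUnipotent K := by
  have h1 : n0 hG2 K * u * (n0 hG2 K)⁻¹ ∈ chevG2.negUnipotent K :=
    conj_Uw_mem_negU (by rw [Uw_n0 hG2]; exact hu)
  have e : (h0 * n0 hG2 K) * u * (h0 * n0 hG2 K)⁻¹ = h0 * (n0 hG2 K * u * (n0 hG2 K)⁻¹) * h0⁻¹ := by group
  rw [e]
  exact (Subgroup.le_normalizer_iff.mp (diag_le_normalizer_negU hG2)) _ hh0 _ h1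

theorem nstar_conj_ne : (h0 * n0 hG2 K) * alphaR φ 0 0 1 * (h0 * n0 hG2 K) ∉ chevG2.borelSubgroup K := by
  intro h
  have h1 : (h0 * n0 hG2 K) * alphaR φ 0 0 1 * (h0 * n0 hG2 K)⁻¹ ∈ chevG2.borelSubgroup K := by
    have h2 := mul_mem h (inv_mem (diag_le_borel hG2 (nstar_sq_mem φ hinj hφ hh0 hn).1))
    have h3 : (h0 * n0 hG2 K) * alphaR φ 0 0 1 * (h0 * n0 hG2 K) * ((h0 * n0 hG2 K) * (h0 * n0 hG2 K))⁻¹ =
        (h0 * n0 hG2 K) * alphaR φ 0 0 1 * (h0 * n0 hG2 K)⁻¹ := by group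
    rwa [h3] at h2
  have h4 : (h0 * n0 hG2 K) * alphaR φ 0 0 1 * (h0 * n0 hG2 K)⁻¹ ∈
      chevG2.borelSubgroup K ⊓ chevG2.negUnipotent K := ⟨h1, nstar_conj_posU hh0 (alphaR_mem_posU φ 0 0 1)⟩
  rw [borel_inf_negU hG2, Subgroup.mem_bot] at h4
  have h5 : alphaR φ 0 0 1 = 1 := by
    have := congrArg (fun z => (h0 * n0 hG2 K)⁻¹ * z * (h0 * n0 hG2 K)) h4
    simpa [mul_assoc] using this
  have h6 : alphaR φ 0 0 0 = 1 := by
    unfold alphaR P6 s4
    simp [xG_zero]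
  rw [← h6] at h5
  exact one_ne_zero (alphaR_inj φ h5).2.2

/-- the (B,N)-pair of the Ree group -/
noncomputable def bnPairRee : Cfsg.BNPair ↥(reeG φ) :=
  bnPairRankOne ((chevG2.borelSubgroup K ⊓ reeG φ).subgroupOf (reeG φ))
    ((chevG2.monomialSubgroup K ⊓ reeG φ).subgroupOf (reeG φ)) ⟨h0 * n0 hG2 K, hn⟩
    (show h0 * n0 hG2 K ∈ chevG2.monomialSubgroup K ⊓ reeG φ from ⟨nstar_mem_mono hh0, hn⟩)
    (by
      rintro ⟨g, hg⟩
      rcases reeG_cases φ hinj hφ hh0 hn hg with ⟨u, hu, h, hh, e⟩ | ⟨u, hu, h, hh, v, hv, e⟩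
      · left
        show g ∈ chevG2.borelSubgroup K ⊓ reeG φ
        exact ⟨by rw [e]; exact mul_mem (posU_le_borel hG2 hu.1) (diag_le_borel hG2 hh.1), hg⟩
      · right
        refine ⟨⟨u * h, mul_mem hu.2 hh.2⟩, ?_, ⟨v, hv.2⟩, ?_, Subtype.ext e⟩
        · show u * h ∈ chevG2.borelSubgroup K ⊓ reeG φ
          exact ⟨mul_mem (posU_le_borel hG2 hu.1) (diag_le_borel hG2 hh.1), mul_mem hu.2 hh.2⟩
        · show v ∈ chevG2.borelSubgroup K ⊓ reeG φ
          exact ⟨posU_le_borel hG2 hv.1, hv.2⟩)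
    (by
      rintro ⟨n, hn'⟩ hn1
      rcases mono_cases φ hinj hφ hh0 hn (n := n) hn1 with h | h
      · left
        show n ∈ chevG2.borelSubgroup K ⊓ reeG φ
        exact ⟨diag_le_borel hG2 h.1, h.2⟩
      · right
        show n * (h0 * n0 hG2 K)⁻¹ ∈ chevG2.borelSubgroup K ⊓ reeG φ
        exact ⟨diag_le_borel hG2 h.1, h.2⟩)
    (by
      rintro n hn1 t ⟨ht1, ht2⟩
      rw [Subgroup.mem_subgroupOf] at hn1 ⊢
      have h1 : (t : GL chevG2.Idx K) ∈ chevG2.borelSubgroup K ⊓ chevG2.monomialSubgroup K := ⟨ht1.1, ht2.1⟩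
      rw [borel_inf_mono hG2] at h1
      exact ⟨diag_le_borel hG2 (mono_conj_diag hG2 hn1.1 h1), (n * t * n⁻¹).2⟩)
    (by
      show (h0 * n0 hG2 K) * (h0 * n0 hG2 K) ∈ chevG2.borelSubgroup K ⊓ reeG φ
      have := nstar_sq_mem φ hinj hφ hh0 hn
      exact ⟨diag_le_borel hG2 this.1, this.2⟩)
    (by
      refine ⟨⟨alphaR φ 0 0 1, alphaR_mem φ 0 0 1⟩, ?_, ?_⟩
      · show alphaR φ 0 0 1 ∈ chevG2.borelSubgroup K ⊓ reeG φ
        exact ⟨posU_le_borel hG2 (alphaR_mem_posU φ 0 0 1), alphaR_mem φ 0 0 1⟩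
      · intro h
        exact nstar_conj_ne φ hinj hφ hh0 hn h.1)

end

end Cfsg.Agent.Lib.Helper8
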