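import Cfsg.Agent.Lib.Helper8.Ree12

set_option autoImplicit false
set_option linter.unusedSectionVars false
set_option linter.unusedVariables false

/-! `N¹ / H¹` has order two. -/

namespace Cfsg.Agent.Lib.Helper8

open Cfsg Cfsg.Lie

section
variable {K : Type*} [Field K] (φ : K →+* K)
variable [CharP K 3] [Fintype K] (hinj : Function.Injective (isoR1 hG2 isoOK_G2 (F := K)))
  (hφ : ∀ t, φ (φ t) ^ 3 = t)
variable {h0 : GL chevG2.Idx K} (hh0 : h0 ∈ chevG2.diagonalSubgroup K) (hn : h0 * n0 hG2 K ∈ reeG φ)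
include hh0 hinj hφ hn

theorem exists_hom_N1 : ∃ f : ↥(chevG2.monomialSubgroup K ⊓ reeG φ) →* Multiplicative (ZMod 2),
    Function.Surjective f ∧
      f.ker = (chevG2.diagonalSubgroup K ⊓ reeG φ).subgroupOf (chevG2.monomialSubgroup K ⊓ reeG φ) := by
  set N1 := chevG2.monomialSubgroup K ⊓ reeG φ with hN1
  set Hs := (chevG2.diagonalSubgroup K ⊓ reeG φ).subgroupOf N1 with hHs
  haveI : Hs.Normal := by
    constructor
    intro h hh n
    rw [hHs, Subgroup.mem_subgroupOf] at hh ⊢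
    exact ⟨mono_conj_diag hG2 n.2.1 hh.1, (reeG φ).mul_mem ((reeG φ).mul_mem n.2.2 hh.2) ((reeG φ).inv_mem n.2.2)⟩
  have hnotH : h0 * n0 hG2 K ∉ chevG2.diagonalSubgroup K := fun h =>
    nstar_not_mem_borel hh0 (diag_le_borel hG2 h)
  have hidx : Hs.index = 2 := by
    rw [Subgroup.index_eq_two_iff]
    refine ⟨⟨h0 * n0 hG2 K, nstar_mem_mono hh0, hn⟩, fun b => ?_⟩
    rcases mono_cases φ hinj hφ hh0 hn b.2 with h | h
    · right
      refine ⟨h, fun h' => hnotH ?_⟩
      have h2 : (b : GL chevG2.Idx K) * (h0 * n0 hG2 K) ∈ chevG2.diagonalSubgroup K := h'.1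
      have e : h0 * n0 hG2 K = (b : GL chevG2.Idx K)⁻¹ * ((b : GL chevG2.Idx K) * (h0 * n0 hG2 K)) := by group
      rw [e]
      exact mul_mem (inv_mem h.1) h2
    · left
      constructor
      · show (b : GL chevG2.Idx K) * (h0 * n0 hG2 K) ∈ chevG2.diagonalSubgroup K ⊓ reeG φ
        have e : (b : GL chevG2.Idx K) * (h0 * n0 hG2 K) =
            ((b : GL chevG2.Idx K) * (h0 * n0 hG2 K)⁻¹) * ((h0 * n0 hG2 K) * (h0 * n0 hG2 K)) := by group
        rw [e]
        exact mul_mem h (nstar_sq_mem φ hinj hφ hh0 hn)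
      · intro h'
        apply hnotH
        have h2 : (b : GL chevG2.Idx K) ∈ chevG2.diagonalSubgroup K := h'.1
        have e : h0 * n0 hG2 K = ((b : GL chevG2.Idx K) * (h0 * n0 hG2 K)⁻¹)⁻¹ * (b : GL chevG2.Idx K) := by group
        rw [e]
        exact mul_mem (inv_mem h.1) h2
  haveI : Fact (Nat.Prime 2) := ⟨Nat.prime_two⟩
  have c1 : Nat.card (↥N1 ⧸ Hs) = 2 := hidx
  have c2 : Nat.card (Multiplicative (ZMod 2)) = 2 := by
    rw [Nat.card_eq_fintype_card, Fintype.card_multiplicative, ZMod.card]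
  let e := mulEquivOfPrimeCardEq (p := 2) c1 c2
  refine ⟨e.toMonoidHom.comp (QuotientGroup.mk' Hs), e.surjective.comp (QuotientGroup.mk'_surjective Hs), ?_⟩
  ext x
  rw [MonoidHom.mem_ker]
  show e (QuotientGroup.mk' Hs x) = 1 ↔ _
  rw [map_eq_one_iff e e.injective]
  exact QuotientGroup.eq_one_iff x

end

end Cfsg.Agent.Lib.Helper8
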