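import Cfsg.Agent.Lib.Helper8.Ree13

set_option autoImplicit false
set_option linter.unusedSectionVars false
set_option linter.unusedVariables false

/-! The action of the torus on `U¹`; the core of `B¹`. -/

namespace Cfsg.Agent.Lib.Helper8

open Cfsg Cfsg.Lie

section
variable {K : Type*} [Field K] (φ : K →+* K)

/-- the characters of the torus -/
noncomputable def chR (z : Kˣ) (s : ℕ) : K := ((chi chevG2 (cR φ z) s : Kˣ) : K)

theorem conj_hR_P6 (z : Kˣ) (a b c d e f : K) : hR φ z * P6 K a b c d e f * (hR φ z)⁻¹ =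
    P6 K (chR φ z 7 * a) (chR φ z 6 * b) (chR φ z 8 * c) (chR φ z 9 * d) (chR φ z 10 * e) (chR φ z 11 * f) := by
  unfold P6 s4 chR
  rw [← conj_hR_x φ z (by decide), ← conj_hR_x φ z (by decide), ← conj_hR_x φ z (by decide),
    ← conj_hR_x φ z (by decide), ← conj_hR_x φ z (by decide), ← conj_hR_x φ z (by decide)]
  group

theorem chR_11 (z : Kˣ) : chR φ z 11 = z := by
  unfold chR
  rw [chi_G2_11]
  rfl

theorem chR_10 (z : Kˣ) : chR φ z 10 = φ z ^ 3 * (z : K)⁻¹ := by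
  unfold chR
  rw [chi_G2, show chevG2.cartan 0 10 = 3 by decide, show chevG2.cartan 1 10 = -1 by decide]
  simp [cR]

theorem chR_6 (z : Kˣ) : chR φ z 6 = (φ z ^ 3)⁻¹ * (z : K) ^ 2 := by
  unfold chR
  rw [chi_G2, show chevG2.cartan 0 6 = -3 by decide, show chevG2.cartan 1 6 = 2 by decide]
  simp [cR]

variable [CharP K 3] [Fintype K] (hinj : Function.Injective (isoR1 hG2 isoOK_G2 (F := K)))
  (hφ : ∀ t, φ (φ t) ^ 3 = t)
include hinj hφ

theorem conj_hR_alphaR (z : Kˣ) (t u v : K) : hR φ z * alphaR φ t u v * (hR φ z)⁻¹ =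
    alphaR φ (chR φ z 6 * t) (chR φ z 10 * u) (chR φ z 11 * v) := by
  have h1 : hR φ z * alphaR φ t u v * (hR φ z)⁻¹ ∈ chevG2.posUnipotent K :=
    (Subgroup.le_normalizer_iff.mp (diag_le_normalizer_posU hG2)) _ (hR_mem_diag φ z) _ (alphaR_mem_posU φ t u v)
  have h2 : hR φ z * alphaR φ t u v * (hR φ z)⁻¹ ∈ fixR hG2 isoOK_G2 hinj φ :=
    mul_mem (mul_mem (hR_mem_fixR hinj φ hφ z) (reeG_le_fixR φ hinj hφ (alphaR_mem φ t u v)))
      (inv_mem (hR_mem_fixR hinj φ hφ z))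
  obtain ⟨t', u', v', e⟩ := fixed_posU hinj φ hφ h1 h2.2
  rw [e]
  unfold alphaR at e
  rw [conj_hR_P6] at e
  obtain ⟨-, e2, -, -, e5, e6⟩ := P6_inj e
  rw [e2, e5, e6]

variable {h0 : GL chevG2.Idx K} (hh0 : h0 ∈ chevG2.diagonalSubgroup K) (hn : h0 * n0 hG2 K ∈ reeG φ)
include hh0 hn

omit hinj hφ [CharP K 3] [Fintype K] in
theorem core_mem_diag {x : GL chevG2.Idx K} (hx : ∀ g ∈ reeG φ, g * x * g⁻¹ ∈ chevG2.borelSubgroup K) :
    x ∈ chevG2.diagonalSubgroup K := by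
  have h1 := hx 1 (one_mem _)
  rw [one_mul, inv_one, mul_one] at h1
  obtain ⟨u, hu, h, hh, rfl⟩ := mem_borel hG2 h1
  have h2 := hx _ hn
  have e : (h0 * n0 hG2 K) * (u * h) * (h0 * n0 hG2 K)⁻¹ =
      ((h0 * n0 hG2 K) * u * (h0 * n0 hG2 K)⁻¹) * ((h0 * n0 hG2 K) * h * (h0 * n0 hG2 K)⁻¹) := by group
  rw [e] at h2
  have h3 := diag_le_borel hG2 (mono_conj_diag hG2 (nstar_mem_mono hh0) hh)
  have h4 : (h0 * n0 hG2 K) * u * (h0 * n0 hG2 K)⁻¹ ∈ chevG2.borelSubgroup K := by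
    have := mul_mem h2 (inv_mem h3)
    rwa [mul_inv_cancel_right] at this
  have h5 : (h0 * n0 hG2 K) * u * (h0 * n0 hG2 K)⁻¹ ∈ chevG2.borelSubgroup K ⊓ chevG2.negUnipotent K :=
    ⟨h4, nstar_conj_posU hh0 hu⟩
  rw [borel_inf_negU hG2, Subgroup.mem_bot] at h5
  have h6 : u = 1 := by
    have := congrArg (fun z => (h0 * n0 hG2 K)⁻¹ * z * (h0 * n0 hG2 K)) h5
    simpa [mul_assoc] using this
  rw [h6, one_mul]
  exact hh

theorem core_eq_one {x : GL chevG2.Idx K} (hxG : x ∈ reeG φ)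
    (hx : ∀ g ∈ reeG φ, g * x * g⁻¹ ∈ chevG2.borelSubgroup K) : x = 1 := by
  have h1 := core_mem_diag φ hh0 hn hx
  set a := alphaR φ 0 0 1 with ha
  have haG : a ∈ reeG φ := alphaR_mem φ 0 0 1
  have h2 : a * x * a⁻¹ ∈ chevG2.diagonalSubgroup K := by
    apply core_mem_diag φ hh0 hn
    intro g hg
    have e : g * (a * x * a⁻¹) * g⁻¹ = (g * a) * x * (g * a)⁻¹ := by group
    rw [e]
    exact hx _ (mul_mem hg haG)
  have h3 : (x⁻¹ * a * x) * a⁻¹ ∈ chevG2.posUnipotent K ⊓ chevG2.diagonalSubgroup K := by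
    rw [Subgroup.mem_inf]
    constructor
    · have := (Subgroup.le_normalizer_iff.mp (diag_le_normalizer_posU hG2)) _ (inv_mem h1) _
        (alphaR_mem_posU φ 0 0 1)
      rw [inv_inv] at this
      exact mul_mem this (inv_mem (alphaR_mem_posU φ 0 0 1))
    · have e : (x⁻¹ * a * x) * a⁻¹ = x⁻¹ * (a * x * a⁻¹) := by group
      rw [e]
      exact mul_mem (inv_mem h1) h2
  rw [posU_inf_diag hG2, Subgroup.mem_bot] at h3
  have h4 : x * a * x⁻¹ = a := by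
    have : x⁻¹ * a * x = a := by rwa [mul_inv_eq_one] at h3
    calc x * a * x⁻¹ = x * (x⁻¹ * a * x) * x⁻¹ := by rw [this]
      _ = a := by group
  obtain ⟨z, rfl⟩ := fixed_diag hinj φ hφ ⟨h1, reeG_le_fixR φ hinj hφ hxG⟩
  rw [ha, conj_hR_alphaR φ hinj hφ] at h4
  have h5 := (alphaR_inj φ h4).2.2
  rw [chR_11, mul_one] at h5
  have : z = 1 := Units.ext h5
  rw [this, map_one]

theorem borel_core_ree : ((chevG2.borelSubgroup K ⊓ reeG φ).subgroupOf (reeG φ)).normalCore = ⊥ := by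
  rw [eq_bot_iff]
  intro x hx
  rw [Subgroup.mem_bot]
  apply Subtype.ext
  apply core_eq_one φ hinj hφ hh0 hn x.2
  intro g hg
  have := hx ⟨g, hg⟩
  exact this.1

end

end Cfsg.Agent.Lib.Helper8
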