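import Cfsg.Agent.Lib.Helper8.Ree14

set_option autoImplicit false
set_option linter.unusedSectionVars false
set_option linter.unusedVariables false
open scoped commutatorElement

/-! The Ree groups `²G₂(3^(2m+1))`, `m ≥ 1`, are perfect and simple. -/

namespace Cfsg.Agent.Lib.Helper8

open Cfsg Cfsg.Lie

section
variable {K : Type*} [Field K]

theorem s4_mem_NL (c d e f : K) : s4 K c d e f ∈ NL (F := K) hG2 [8, 9, 10, 11] := by
  unfold s4
  exact mul_mem (mul_mem (xG_mem_NL hG2 (by simp) _) (xG_mem_NL hG2 (by simp) _))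
    (mul_mem (xG_mem_NL hG2 (by simp) _) (xG_mem_NL hG2 (by simp) _))

theorem exists_s4_of_mem_NL {g : GL chevG2.Idx K} (hg : g ∈ NL (F := K) hG2 [8, 9, 10, 11]) :
    ∃ c d e f : K, g = s4 K c d e f := by
  obtain ⟨τ, rfl⟩ := NL_normal_form hG2 (by decide) hg
  exact ⟨τ 8, τ 9, τ 10, τ 11, by simp [wG, s4, mul_assoc]⟩

theorem conj_inv_mem_NL4 {r : ℕ} (hr : r = 7 ∨ r = 6) (t : K) {g : GL chevG2.Idx K}
    (hg : g ∈ NL (F := K) hG2 [8, 9, 10, 11]) :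
    (xG hG2 K r t)⁻¹ * g * xG hG2 K r t ∈ NL (F := K) hG2 [8, 9, 10, 11] := by
  have hc : ClosedCons chevG2 r [8, 9, 10, 11] := by
    rcases hr with rfl | rfl <;> decide
  have h1 := xG_normalizes_NL (F := K) hG2 hc (-t)
  rw [← xG_inv, Subgroup.mem_normalizer_iff] at h1
  have := (h1 g).mp hg
  rwa [inv_inv] at this

theorem P6_mul_coord (a b c d e f a' b' c' d' e' f' : K) : ∃ c'' d'' e'' f'' : K,
    P6 K a b c d e f * P6 K a' b' c' d' e' f' = P6 K (a + a') (b + b') c'' d'' e'' f'' := by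
  have hW := swap_b_a (K := K) a' b
  have hS := s4_mem_NL c d e f
  have hS' := s4_mem_NL c' d' e' f'
  have hWm := s4_mem_NL (a' * b) (a' ^ 2 * b) (-(a' ^ 3 * b)) (-(a' ^ 3 * b ^ 2))
  have h1 := conj_inv_mem_NL4 (Or.inr rfl) b' hWm
  have h2 := conj_inv_mem_NL4 (Or.inr rfl) b' (conj_inv_mem_NL4 (Or.inl rfl) a' hS)
  obtain ⟨c'', d'', e'', f'', e0⟩ := exists_s4_of_mem_NL (mul_mem (mul_mem h1 h2) hS')
  refine ⟨c'', d'', e'', f'', ?_⟩
  unfold P6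
  rw [← e0, ← xG_mul, ← xG_mul]
  generalize s4 K c d e f = S at *
  generalize s4 K c' d' e' f' = S' at *
  generalize s4 K (a' * b) (a' ^ 2 * b) (-(a' ^ 3 * b)) (-(a' ^ 3 * b ^ 2)) = W at *
  generalize xG hG2 K 7 a = A at *
  generalize xG hG2 K 6 b = B at *
  generalize xG hG2 K 7 a' = A' at *
  generalize xG hG2 K 6 b' = B' at *
  calc A * B * S * (A' * B' * S') = A * (B * A') * B' * (B'⁻¹ * (A'⁻¹ * S * A') * B') * S' := by group
    _ = A * (A' * B * W) * B' * (B'⁻¹ * (A'⁻¹ * S * A') * B') * S' := by rw [hW]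
    _ = A * A' * (B * B') * (B'⁻¹ * W * B' * (B'⁻¹ * (A'⁻¹ * S * A') * B') * S') := by group

variable (φ : K →+* K)

theorem alphaR_zero : alphaR φ 0 0 0 = 1 := by
  unfold alphaR P6 s4
  simp [xG_zero]

theorem alphaR_0_eq (u v : K) : alphaR φ 0 u v = s4 K (φ u) (φ v) u v := by
  unfold alphaR P6
  simp [xG_zero]

variable [CharP K 3]

theorem alphaR_0_mul (u v u' v' : K) : alphaR φ 0 u v * alphaR φ 0 u' v' = alphaR φ 0 (u + u') (v + v') := by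
  rw [alphaR_0_eq, alphaR_0_eq, alphaR_0_eq, s4_mul, map_add, map_add]

theorem alphaR_0_inv (u v : K) : (alphaR φ 0 u v)⁻¹ = alphaR φ 0 (-u) (-v) := by
  rw [inv_eq_iff_mul_eq_one, alphaR_0_mul, add_neg_cancel, add_neg_cancel, alphaR_zero]

variable [Fintype K] (hinj : Function.Injective (isoR1 hG2 isoOK_G2 (F := K)))
  (hφ : ∀ t, φ (φ t) ^ 3 = t)
include hinj hφ

theorem alphaR_mul (t u v t' u' v' : K) : ∃ u'' v'' : K,
    alphaR φ t u v * alphaR φ t' u' v' = alphaR φ (t + t') u'' v'' := by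
  obtain ⟨t'', u'', v'', e⟩ := (mem_posU_inf_reeG φ hinj hφ).mp
    (mul_mem ((mem_posU_inf_reeG φ hinj hφ).mpr ⟨t, u, v, rfl⟩) ((mem_posU_inf_reeG φ hinj hφ).mpr ⟨t', u', v', rfl⟩))
  refine ⟨u'', v'', ?_⟩
  rw [e]
  unfold alphaR at e
  obtain ⟨c, d, e', f, e2⟩ := P6_mul_coord (φ t) t (φ t * t + φ u) (φ t ^ 2 * t + φ v) u v
    (φ t') t' (φ t' * t' + φ u') (φ t' ^ 2 * t' + φ v') u' v'
  rw [e2] at e
  rw [(P6_inj e).2.1]

theorem alphaR_inv (t u v : K) : ∃ u' v' : K, (alphaR φ t u v)⁻¹ = alphaR φ (-t) u' v' := by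
  obtain ⟨t', u', v', e⟩ := (mem_posU_inf_reeG φ hinj hφ).mp
    (inv_mem ((mem_posU_inf_reeG φ hinj hφ).mpr ⟨t, u, v, rfl⟩))
  refine ⟨u', v', ?_⟩
  rw [e]
  obtain ⟨u'', v'', e2⟩ := alphaR_mul φ hinj hφ t u v t' u' v'
  rw [← e, mul_inv_cancel, ← alphaR_zero φ] at e2
  have := (alphaR_inj φ e2).1
  have h : t' = -t := by linear_combination -this
  rw [h]

variable {h0 : GL chevG2.Idx K} (hh0 : h0 ∈ chevG2.diagonalSubgroup K) (hn : h0 * n0 hG2 K ∈ reeG φ)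
include hh0 hn

theorem betaR_eq_conj (t u v : K) : ∃ t' u' v' : K,
    betaR φ t u v = (h0 * n0 hG2 K) * alphaR φ t' u' v' * (h0 * n0 hG2 K)⁻¹ := by
  have h1 : h0⁻¹ * betaR φ t u v * (h0⁻¹)⁻¹ ∈ chevG2.negUnipotent K :=
    (Subgroup.le_normalizer_iff.mp (diag_le_normalizer_negU hG2)) _ (inv_mem hh0) _ (betaR_mem_negU φ t u v)
  rw [← conj_n0_posU hG2] at h1
  obtain ⟨x, hx, e⟩ := h1
  have e' : n0 hG2 K * x * (n0 hG2 K)⁻¹ = h0⁻¹ * betaR φ t u v * (h0⁻¹)⁻¹ := e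
  have e2 : x = (h0 * n0 hG2 K)⁻¹ * betaR φ t u v * (h0 * n0 hG2 K) := by
    have : x = (n0 hG2 K)⁻¹ * (n0 hG2 K * x * (n0 hG2 K)⁻¹) * n0 hG2 K := by group
    rw [this, e']; group
  have hx2 : x ∈ reeG φ := by
    rw [e2]
    exact mul_mem (mul_mem (inv_mem hn) (betaR_mem φ t u v)) hn
  obtain ⟨t', u', v', rfl⟩ := (mem_posU_inf_reeG φ hinj hφ).mp ⟨hx, hx2⟩
  refine ⟨t', u', v', ?_⟩
  rw [e2]; group

theorem reeG_perfect (h4 : Fintype.card K % 4 = 3) (hz : ∃ z : Kˣ, φ z ^ 3 ≠ z) : commutator ↥(reeG φ) = ⊤ := by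
  set D : Subgroup (GL chevG2.Idx K) := (commutator ↥(reeG φ)).map (reeG φ).subtype with hD
  have hcomm : ∀ a b : GL chevG2.Idx K, a ∈ reeG φ → b ∈ reeG φ → a * b * a⁻¹ * b⁻¹ ∈ D := by
    intro a b ha hb
    refine ⟨⁅(⟨a, ha⟩ : ↥(reeG φ)), ⟨b, hb⟩⁆, ?_, ?_⟩
    · rw [SetLike.mem_coe, commutator_def]
      exact Subgroup.commutator_mem_commutator (Subgroup.mem_top _) (Subgroup.mem_top _)
    · rw [commutatorElement_def]
      rfl
  have hnorm : ∀ g ∈ reeG φ, ∀ x ∈ D, g * x * g⁻¹ ∈ D := by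
    rintro g hg _ ⟨x, hx, rfl⟩
    have hN : (commutator ↥(reeG φ)).Normal := inferInstance
    refine ⟨(⟨g, hg⟩ : ↥(reeG φ)) * x * (⟨g, hg⟩ : ↥(reeG φ))⁻¹, hN.conj_mem x hx _, ?_⟩
    simp only [map_mul, map_inv, Subgroup.subtype_apply]
  have hRm := hR_mem_reeG φ hinj hφ h4
  -- the elements `α(0,u,v)`
  have s1 : ∀ u v : K, alphaR φ 0 u v ∈ D := by
    obtain ⟨z, hz⟩ := hz
    intro u v
    have hz0 : (z : K) ≠ 0 := z.ne_zero
    have c10 : chR φ z 10 - 1 ≠ 0 := by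
      rw [chR_10, sub_ne_zero]
      intro h
      apply hz
      field_simp at h
      exact h
    have c11 : chR φ z 11 - 1 ≠ 0 := by
      rw [chR_11, sub_ne_zero]
      intro h
      apply hz
      rw [h, map_one, one_pow]
    have h1 := hcomm (hR φ z) (alphaR φ 0 (u / (chR φ z 10 - 1)) (v / (chR φ z 11 - 1))) (hRm z) (alphaR_mem φ _ _ _)
    rw [conj_hR_alphaR φ hinj hφ, mul_zero, alphaR_0_inv, alphaR_0_mul] at h1
    have e1 : chR φ z 10 * (u / (chR φ z 10 - 1)) + -(u / (chR φ z 10 - 1)) = u := by field_simp; ring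
    have e2 : chR φ z 11 * (v / (chR φ z 11 - 1)) + -(v / (chR φ z 11 - 1)) = v := by field_simp; ring
    rwa [e1, e2] at h1
  have h3 : (3 : K) = 0 := by
    have := CharP.cast_eq_zero K 3
    exact_mod_cast this
  -- all the elements `α(t,u,v)`
  have s2 : ∀ t u v : K, alphaR φ t u v ∈ D := by
    intro t u v
    have h1 := hcomm (hR φ (-1)) (alphaR φ t 0 0) (hRm (-1)) (alphaR_mem φ _ _ _)
    rw [conj_hR_alphaR φ hinj hφ] at h1
    have c6 : chR φ (-1) 6 = -1 := by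
      rw [chR_6]
      simp
      norm_num
    obtain ⟨u1, v1, e1⟩ := alphaR_inv φ hinj hφ t 0 0
    rw [e1, c6] at h1
    obtain ⟨u2, v2, e2⟩ := alphaR_mul φ hinj hφ (-1 * t) (chR φ (-1) 10 * 0) (chR φ (-1) 11 * 0) (-t) u1 v1
    rw [e2] at h1
    have e3 : -1 * t + -t = t := by linear_combination (-t) * h3
    rw [e3] at h1
    obtain ⟨u3, v3, e4⟩ := alphaR_inv φ hinj hφ t u2 v2
    obtain ⟨u4, v4, e5⟩ := alphaR_mul φ hinj hφ (-t) u3 v3 t u v
    rw [neg_add_cancel] at e5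
    have e6 : alphaR φ t u v = alphaR φ t u2 v2 * alphaR φ 0 u4 v4 := by
      rw [← e5, ← e4]; group
    rw [e6]
    exact mul_mem h1 (s1 u4 v4)
  have hle : reeG φ ≤ D := by
    conv_lhs => rw [reeG]
    rw [Subgroup.closure_le]
    rintro g (⟨t, u, v, rfl⟩ | ⟨t, u, v, rfl⟩)
    · exact s2 t u v
    · obtain ⟨t', u', v', e⟩ := betaR_eq_conj φ hinj hφ hh0 hn t u v
      rw [e]
      exact hnorm _ hn _ (s2 t' u' v')
  rw [eq_top_iff]
  intro x _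
  obtain ⟨y, hy, e⟩ := hle x.2
  have : y = x := Subtype.ext e
  rwa [this] at hy

end

end Cfsg.Agent.Lib.Helper8
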