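import Cfsg.Agent.Lib.Helper8.Ree14

set_option autoImplicit false
set_option linter.unusedSectionVars false
set_option linter.unusedVariables false

/-! The Sylow 3-subgroups of the Ree groups intersect trivially. -/

namespace Cfsg.Agent.Lib.Helper8

open Cfsg Cfsg.Lie
open scoped Pointwise

section
variable {K : Type*} [Field K] (φ : K →+* K)
variable [CharP K 3] [Fintype K] (hinj : Function.Injective (isoR1 hG2 isoOK_G2 (F := K)))
  (hφ : ∀ t, φ (φ t) ^ 3 = t)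
variable {h0 : GL chevG2.Idx K} (hh0 : h0 ∈ chevG2.diagonalSubgroup K) (hn : h0 * n0 hG2 K ∈ reeG φ)
include hinj hφ hh0 hn

theorem TI_core {k y : GL chevG2.Idx K} (hk : k ∈ reeG φ) (hkB : k ∉ chevG2.borelSubgroup K)
    (hy : y ∈ chevG2.posUnipotent K) (hy' : k⁻¹ * y * k ∈ chevG2.posUnipotent K) : y = 1 := by
  have hBn := Subgroup.le_normalizer_iff.mp (borel_le_normalizer_posU (F := K) hG2)
  rcases reeG_cases φ hinj hφ hh0 hn hk with ⟨u, hu, h, hh, e⟩ | ⟨u, hu, h, hh, v, hv, e⟩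
  · exfalso
    apply hkB
    rw [e]
    exact mul_mem (posU_le_borel hG2 hu.1) (diag_le_borel hG2 hh.1)
  · have hb : u * h ∈ chevG2.borelSubgroup K := mul_mem (posU_le_borel hG2 hu.1) (diag_le_borel hG2 hh.1)
    have h1 : (u * h)⁻¹ * y * ((u * h)⁻¹)⁻¹ ∈ chevG2.posUnipotent K := hBn _ (inv_mem hb) _ hy
    set y' := (u * h)⁻¹ * y * ((u * h)⁻¹)⁻¹ with hy'def
    have h2 : (h0 * n0 hG2 K)⁻¹ * y' * (h0 * n0 hG2 K) ∈ chevG2.posUnipotent K := by
      have e2 : (h0 * n0 hG2 K)⁻¹ * y' * (h0 * n0 hG2 K) = v * (k⁻¹ * y * k) * v⁻¹ := by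
        rw [hy'def, e]; group
      rw [e2]
      exact mul_mem (mul_mem hv.1 hy') (inv_mem hv.1)
    have h3 := nstar_conj_posU hh0 h2
    have e3 : (h0 * n0 hG2 K) * ((h0 * n0 hG2 K)⁻¹ * y' * (h0 * n0 hG2 K)) * (h0 * n0 hG2 K)⁻¹ = y' := by group
    rw [e3] at h3
    have h4 := eq_one_of_posU_negU hG2 h1 h3
    have : y = (u * h) * y' * (u * h)⁻¹ := by rw [hy'def]; group
    rw [this, h4]; group

theorem sylow3_TI {n : ℕ} (hq : Fintype.card K = 3 ^ n) (hH : Nat.card ↥(chevG2.diagonalSubgroup K ⊓ reeG φ) = Fintype.card K - 1)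
    (P Q : Sylow 3 ↥(reeG φ)) (hPQ : P ≠ Q) :
    (P : Subgroup ↥(reeG φ)) ⊓ (Q : Subgroup ↥(reeG φ)) = ⊥ := by
  haveI : Fact (Nat.Prime 3) := ⟨Nat.prime_three⟩
  have hn0 : n ≠ 0 := by
    rintro rfl
    have := Fintype.one_lt_card (α := K)
    rw [hq] at this
    simp at this
  set U1 : Subgroup ↥(reeG φ) := (chevG2.posUnipotent K ⊓ reeG φ).subgroupOf (reeG φ) with hU1
  have hcU : Nat.card ↥U1 = 3 ^ (n * 3) := by
    rw [pow_mul, ← hq, ← card_posU_inf_reeG φ hinj hφ]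
    exact Nat.card_congr (Subgroup.subgroupOfEquivOfLe inf_le_right).toEquiv
  have hp : IsPGroup 3 ↥U1 := IsPGroup.of_card hcU
  have hidx : ¬ 3 ∣ U1.index := by
    intro hd
    have h1 := Subgroup.card_mul_index U1
    rw [card_reeG φ hinj hφ hh0 hn, hH, hcU, hq, ← pow_mul, mul_assoc] at h1
    have h2 := Nat.eq_of_mul_eq_mul_left (Nat.pow_pos (by norm_num)) h1
    rw [h2] at hd
    have h3 : 3 ∣ 3 ^ n := dvd_pow_self 3 hn0
    have h3' : 3 ∣ 3 ^ (n * 3) := dvd_pow_self 3 (by omega)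
    have h1n : 1 ≤ 3 ^ n := Nat.one_le_pow _ _ (by norm_num)
    rcases (Nat.Prime.dvd_mul Nat.prime_three).mp hd with h | h
    · omega
    · omega
  let P0 : Sylow 3 ↥(reeG φ) := hp.toSylow hidx
  have hP0 : (P0 : Subgroup ↥(reeG φ)) = U1 := rfl
  obtain ⟨g, rfl⟩ := MulAction.exists_smul_eq ↥(reeG φ) P0 P
  obtain ⟨g', rfl⟩ := MulAction.exists_smul_eq ↥(reeG φ) P0 Q
  rw [eq_bot_iff]
  rintro x ⟨hx1, hx2⟩
  have hx1 : x ∈ ((g • P0 : Sylow 3 ↥(reeG φ)) : Subgroup ↥(reeG φ)) := hx1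
  have hx2 : x ∈ ((g' • P0 : Sylow 3 ↥(reeG φ)) : Subgroup ↥(reeG φ)) := hx2
  rw [Sylow.coe_subgroup_smul, hP0, Subgroup.mem_pointwise_smul_iff_inv_smul_mem] at hx1 hx2
  have a1 : (g : GL chevG2.Idx K)⁻¹ * x * g ∈ chevG2.posUnipotent K := by
    have := hx1.1
    simpa [MulAut.smul_def] using this
  have a2 : (g' : GL chevG2.Idx K)⁻¹ * x * g' ∈ chevG2.posUnipotent K := by
    have := hx2.1
    simpa [MulAut.smul_def] using this
  have hk : ((g⁻¹ * g' : ↥(reeG φ)) : GL chevG2.Idx K) ∉ chevG2.borelSubgroup K := by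
    intro hb
    apply hPQ
    have hnorm : (g⁻¹ * g') • P0 = P0 := by
      apply Sylow.ext
      rw [Sylow.coe_subgroup_smul, hP0]
      ext y
      rw [Subgroup.mem_pointwise_smul_iff_inv_smul_mem]
      have hb' : (((g⁻¹ * g' : ↥(reeG φ)) : GL chevG2.Idx K))⁻¹ ∈ chevG2.borelSubgroup K := inv_mem hb
      constructor
      · intro hy
        have h1 := borel_conj_posU hG2 hb hy.1
        refine ⟨?_, y.2⟩
        have e : (y : GL chevG2.Idx K) = ((g⁻¹ * g' : ↥(reeG φ)) : GL chevG2.Idx K) *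
            (((MulAut.conj (g⁻¹ * g'))⁻¹ • y : ↥(reeG φ)) : GL chevG2.Idx K) *
            (((g⁻¹ * g' : ↥(reeG φ)) : GL chevG2.Idx K))⁻¹ := by
          simp [MulAut.smul_def, mul_assoc]
        show (y : GL chevG2.Idx K) ∈ chevG2.posUnipotent K
        rw [e]; exact h1
      · intro hy
        have h1 := borel_conj_posU hG2 hb' hy.1
        refine ⟨?_, ((MulAut.conj (g⁻¹ * g'))⁻¹ • y : ↥(reeG φ)).2⟩
        have e : (((MulAut.conj (g⁻¹ * g'))⁻¹ • y : ↥(reeG φ)) : GL chevG2.Idx K) =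
            (((g⁻¹ * g' : ↥(reeG φ)) : GL chevG2.Idx K))⁻¹ * (y : GL chevG2.Idx K) *
            ((((g⁻¹ * g' : ↥(reeG φ)) : GL chevG2.Idx K))⁻¹)⁻¹ := by
          simp [MulAut.smul_def, mul_assoc]
        show (((MulAut.conj (g⁻¹ * g'))⁻¹ • y : ↥(reeG φ)) : GL chevG2.Idx K) ∈ chevG2.posUnipotent K
        rw [e]; exact h1
    calc g • P0 = g • ((g⁻¹ * g') • P0) := by rw [hnorm]
      _ = g' • P0 := by rw [smul_smul, mul_inv_cancel_left]
  have e := TI_core φ hinj hφ hh0 hn (g⁻¹ * g').2 hk a1 (by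
    have : ((g⁻¹ * g' : ↥(reeG φ)) : GL chevG2.Idx K)⁻¹ * ((g : GL chevG2.Idx K)⁻¹ * x * g) *
      ((g⁻¹ * g' : ↥(reeG φ)) : GL chevG2.Idx K) = (g' : GL chevG2.Idx K)⁻¹ * x * g' := by
      simp only [Subgroup.coe_mul, Subgroup.coe_inv]; group
    rw [this]; exact a2)
  rw [Subgroup.mem_bot]
  apply Subtype.ext
  have : (x : GL chevG2.Idx K) = g * ((g : GL chevG2.Idx K)⁻¹ * x * g) * (g : GL chevG2.Idx K)⁻¹ := by group
  rw [this, e]; simp

end

end Cfsg.Agent.Lib.Helper8
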