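import Cfsg.Agent.Lib.Helper8.Ree15

set_option autoImplicit false
set_option linter.unusedSectionVars false
set_option linter.unusedVariables false

/-! The elements of order `3` in the unipotent subgroup of the small Ree groups. -/

namespace Cfsg.Agent.Lib.Helper8

open Cfsg Cfsg.Lie

section
variable {K : Type*} [Field K] [CharP K 3]

theorem comm_7_hi {s : ℕ} (hs : s ∈ [9, 10, 11]) (t u : K) : Commute (xG hG2 K 7 t) (xG hG2 K s u) := by
  have key : ∀ s ∈ [9, 10, 11], s < chevG2.nroots ∧ s ≠ 7 ∧ s ≠ chevG2.neg 7 ∧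
      ∀ c ∈ chevG2.commTerms 7 s, (3 : ℤ) ∣ c.2.1 := by decide
  obtain ⟨h1, h2, h3, h4⟩ := key s hs
  refine xG_commute_of_terms hG2 (by decide) h1 h2 h3 (fun c hc => ?_) t u
  exact (CharP.intCast_eq_zero_iff K 3 _).mpr (by exact_mod_cast h4 c hc)

theorem comm_6_hi {s : ℕ} (hs : s ∈ [8, 9, 11]) (t u : K) : Commute (xG hG2 K 6 t) (xG hG2 K s u) := by
  have key : ∀ s ∈ [8, 9, 11], s < chevG2.nroots ∧ s ≠ 6 ∧ s ≠ chevG2.neg 6 ∧
      ∀ c ∈ chevG2.commTerms 6 s, (3 : ℤ) ∣ c.2.1 := by decide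
  obtain ⟨h1, h2, h3, h4⟩ := key s hs
  refine xG_commute_of_terms hG2 (by decide) h1 h2 h3 (fun c hc => ?_) t u
  exact (CharP.intCast_eq_zero_iff K 3 _).mpr (by exact_mod_cast h4 c hc)

theorem swap_8_7 (c a : K) : xG hG2 K 8 c * xG hG2 K 7 a = xG hG2 K 7 a * (xG hG2 K 8 c * xG hG2 K 9 (2 * a * c)) := by
  rw [swap_x_x hG2 (r := 7) (s := 8) (by decide) (by decide) (by decide) (by decide), mul_assoc]
  congr 2
  have : chevG2.commTerms 7 8 = [(9, -2, 1, 1), (10, -3, 2, 1), (11, 3, 1, 2)] := by decide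
  have h3 : ((-3 : ℤ) : K) = 0 := by
    rw [Int.cast_neg, three_zero, neg_zero]
  simp only [ChevalleyDatum.commWord, this, wG, List.map_cons, List.map_nil, List.prod_cons, List.prod_nil,
    mul_one, three_zero, h3, zero_mul, xG_zero]
  congr 1
  push_cast
  ring

theorem swap_10_6 (e b : K) :
    xG hG2 K 10 e * xG hG2 K 6 b = xG hG2 K 6 b * (xG hG2 K 10 e * xG hG2 K 11 (-(b * e))) := by
  rw [swap_x_x hG2 (r := 6) (s := 10) (by decide) (by decide) (by decide) (by decide), mul_assoc]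
  congr 2
  have : chevG2.commTerms 6 10 = [(11, 1, 1, 1)] := by decide
  simp only [ChevalleyDatum.commWord, this, wG, List.map_cons, List.map_nil, List.prod_cons, List.prod_nil,
    mul_one]
  congr 1
  push_cast
  ring

theorem s4_mul_x7 (c d e f a : K) : s4 K c d e f * xG hG2 K 7 a = xG hG2 K 7 a * s4 K c (d + 2 * a * c) e f := by
  unfold s4
  have h9 := (comm_7_hi (K := K) (s := 9) (by simp) a d).eq
  have h10 := (comm_7_hi (K := K) (s := 10) (by simp) a e).eq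
  have h11 := (comm_7_hi (K := K) (s := 11) (by simp) a f).eq
  calc xG hG2 K 8 c * xG hG2 K 9 d * (xG hG2 K 10 e * xG hG2 K 11 f) * xG hG2 K 7 a
      = xG hG2 K 8 c * xG hG2 K 9 d * (xG hG2 K 10 e * (xG hG2 K 7 a * xG hG2 K 11 f)) := by
        rw [h11]; simp only [mul_assoc]
    _ = xG hG2 K 8 c * xG hG2 K 9 d * (xG hG2 K 7 a * xG hG2 K 10 e * xG hG2 K 11 f) := by
        rw [h10]; simp only [mul_assoc]
    _ = xG hG2 K 8 c * (xG hG2 K 7 a * xG hG2 K 9 d) * (xG hG2 K 10 e * xG hG2 K 11 f) := by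
        rw [h9]; simp only [mul_assoc]
    _ = (xG hG2 K 8 c * xG hG2 K 7 a) * xG hG2 K 9 d * (xG hG2 K 10 e * xG hG2 K 11 f) := by
        simp only [mul_assoc]
    _ = xG hG2 K 7 a * (xG hG2 K 8 c * (xG hG2 K 9 (2 * a * c) * xG hG2 K 9 d)) *
          (xG hG2 K 10 e * xG hG2 K 11 f) := by
        rw [swap_8_7]; simp only [mul_assoc]
    _ = _ := by
        rw [xG_mul, add_comm (2 * a * c) d]; simp only [mul_assoc]

theorem s4_mul_x6 (c d e f b : K) : s4 K c d e f * xG hG2 K 6 b = xG hG2 K 6 b * s4 K c d e (f - b * e) := by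
  unfold s4
  have h8 := (comm_6_hi (K := K) (s := 8) (by simp) b c).eq
  have h9 := (comm_6_hi (K := K) (s := 9) (by simp) b d).eq
  have h11 := (comm_6_hi (K := K) (s := 11) (by simp) b f).eq
  calc xG hG2 K 8 c * xG hG2 K 9 d * (xG hG2 K 10 e * xG hG2 K 11 f) * xG hG2 K 6 b
      = xG hG2 K 8 c * xG hG2 K 9 d * ((xG hG2 K 10 e * xG hG2 K 6 b) * xG hG2 K 11 f) := by
        rw [mul_assoc (xG hG2 K 10 e) (xG hG2 K 6 b), h11]; simp only [mul_assoc]
    _ = xG hG2 K 8 c * (xG hG2 K 9 d * xG hG2 K 6 b) *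
          (xG hG2 K 10 e * (xG hG2 K 11 (-(b * e)) * xG hG2 K 11 f)) := by
        rw [swap_10_6]; simp only [mul_assoc]
    _ = (xG hG2 K 8 c * xG hG2 K 6 b) * xG hG2 K 9 d *
          (xG hG2 K 10 e * (xG hG2 K 11 (-(b * e)) * xG hG2 K 11 f)) := by
        rw [← h9]; simp only [mul_assoc]
    _ = _ := by
        rw [← h8, xG_mul, show -(b * e) + f = f - b * e by ring]; simp only [mul_assoc]

theorem P6_mul (a b c d e f a' b' c' d' e' f' : K) :
    P6 K a b c d e f * P6 K a' b' c' d' e' f' = P6 K (a + a') (b + b') (c + a' * b + c')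
      (d + 2 * a' * c + a' ^ 2 * b + d') (e - a' ^ 3 * b + e')
      (f - a' ^ 3 * b ^ 2 - b' * (e - a' ^ 3 * b) + f') := by
  unfold P6
  calc xG hG2 K 7 a * xG hG2 K 6 b * s4 K c d e f * (xG hG2 K 7 a' * xG hG2 K 6 b' * s4 K c' d' e' f')
      = xG hG2 K 7 a * xG hG2 K 6 b * (s4 K c d e f * xG hG2 K 7 a') * xG hG2 K 6 b' * s4 K c' d' e' f' := by
        simp only [mul_assoc]
    _ = xG hG2 K 7 a * (xG hG2 K 6 b * xG hG2 K 7 a') * s4 K c (d + 2 * a' * c) e f * xG hG2 K 6 b' *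
          s4 K c' d' e' f' := by
        rw [s4_mul_x7]; simp only [mul_assoc]
    _ = xG hG2 K 7 a * xG hG2 K 7 a' * xG hG2 K 6 b *
          (s4 K (a' * b) (a' ^ 2 * b) (-(a' ^ 3 * b)) (-(a' ^ 3 * b ^ 2)) * s4 K c (d + 2 * a' * c) e f) *
          xG hG2 K 6 b' * s4 K c' d' e' f' := by
        rw [swap_b_a]; simp only [mul_assoc]
    _ = xG hG2 K 7 a * xG hG2 K 7 a' * xG hG2 K 6 b *
          (s4 K (a' * b + c) (a' ^ 2 * b + (d + 2 * a' * c)) (-(a' ^ 3 * b) + e) (-(a' ^ 3 * b ^ 2) + f) *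
          xG hG2 K 6 b') * s4 K c' d' e' f' := by
        rw [s4_mul]; simp only [mul_assoc]
    _ = xG hG2 K 7 a * xG hG2 K 7 a' * (xG hG2 K 6 b * xG hG2 K 6 b') *
          (s4 K (a' * b + c) (a' ^ 2 * b + (d + 2 * a' * c)) (-(a' ^ 3 * b) + e)
            (-(a' ^ 3 * b ^ 2) + f - b' * (-(a' ^ 3 * b) + e)) * s4 K c' d' e' f') := by
        rw [s4_mul_x6]; simp only [mul_assoc]
    _ = _ := by
        rw [xG_mul, xG_mul, s4_mul]
        congr 2 <;> ring

theorem P6_cube (a b c d e f : K) : ∃ c' d' : K,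
    P6 K a b c d e f ^ 3 = P6 K 0 0 c' d' 0 (-(a ^ 3 * b ^ 2)) := by
  have h3 : (3 : K) = 0 := by
    have := three_zero (K := K)
    exact_mod_cast this
  rw [pow_succ, pow_two, P6_mul, P6_mul]
  refine ⟨c + a * b + c + a * (b + b) + c,
    d + 2 * a * c + a ^ 2 * b + d + 2 * a * (c + a * b + c) + a ^ 2 * (b + b) + d, ?_⟩
  have e1 : a + a + a = 0 := by linear_combination a * h3
  have e2 : b + b + b = 0 := by linear_combination b * h3
  have e3 : e - a ^ 3 * b + e - a ^ 3 * (b + b) + e = 0 := by linear_combination (e - a ^ 3 * b) * h3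
  have e4 : f - a ^ 3 * b ^ 2 - b * (e - a ^ 3 * b) + f - a ^ 3 * (b + b) ^ 2 -
      b * (e - a ^ 3 * b + e - a ^ 3 * (b + b)) + f = -(a ^ 3 * b ^ 2) := by
    linear_combination (f - b * e) * h3
  rw [e1, e2, e3, e4]

theorem P6_zero : P6 K 0 0 0 0 0 0 = 1 := by
  unfold P6 s4
  simp [xG_zero]

variable (φ : K →+* K)

theorem alphaR_0_cube (u v : K) : alphaR φ 0 u v ^ 3 = 1 := by
  have h3 : (3 : K) = 0 := by
    have := three_zero (K := K)
    exact_mod_cast this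
  rw [pow_succ, pow_two, alphaR_0_mul, alphaR_0_mul, show u + u + u = 0 by linear_combination u * h3,
    show v + v + v = 0 by linear_combination v * h3, alphaR_zero]

theorem alphaR_cube_ne [Fintype K] {t : K} (ht : t ≠ 0) (u v : K) : alphaR φ t u v ^ 3 ≠ 1 := by
  intro e
  unfold alphaR at e
  obtain ⟨c', d', e1⟩ := P6_cube (φ t) t (φ t * t + φ u) (φ t ^ 2 * t + φ v) u v
  rw [e1, ← P6_zero] at e
  have h := (P6_inj e).2.2.2.2.2
  have h1 : φ t ≠ 0 := fun hh => ht ((map_eq_zero φ).mp hh)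
  have h2 : φ t ^ 3 * t ^ 2 ≠ 0 := mul_ne_zero (pow_ne_zero _ h1) (pow_ne_zero _ ht)
  exact h2 (neg_eq_zero.mp h)

variable [Fintype K] (hinj : Function.Injective (isoR1 hG2 isoOK_G2 (F := K)))
  (hφ : ∀ t, φ (φ t) ^ 3 = t)
include hinj hφ

theorem card_order3 :
    Nat.card {u : ↥(chevG2.posUnipotent K ⊓ reeG φ) // orderOf u = 3} = Fintype.card K ^ 2 - 1 := by
  classical
  have : Fact (Nat.Prime 3) := ⟨Nat.prime_three⟩
  have hmem : ∀ t u v : K, alphaR φ t u v ∈ chevG2.posUnipotent K ⊓ reeG φ :=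
    fun t u v => (mem_posU_inf_reeG φ hinj hφ).mpr ⟨t, u, v, rfl⟩
  have hord : ∀ p : {p : K × K // p ≠ (0, 0)},
      orderOf (⟨alphaR φ 0 p.1.1 p.1.2, hmem _ _ _⟩ : ↥(chevG2.posUnipotent K ⊓ reeG φ)) = 3 := by
    intro p
    rw [← Subgroup.orderOf_coe]
    apply orderOf_eq_prime (alphaR_0_cube φ _ _)
    intro e
    rw [← alphaR_zero φ] at e
    obtain ⟨-, h1, h2⟩ := alphaR_inj φ e
    exact p.2 (Prod.ext h1 h2)
  let f : {p : K × K // p ≠ (0, 0)} → {u : ↥(chevG2.posUnipotent K ⊓ reeG φ) // orderOf u = 3} :=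
    fun p => ⟨⟨alphaR φ 0 p.1.1 p.1.2, hmem _ _ _⟩, hord p⟩
  have hf : Function.Bijective f := by
    constructor
    · intro p p' e
      have e1 : alphaR φ 0 p.1.1 p.1.2 = alphaR φ 0 p'.1.1 p'.1.2 :=
        congrArg (fun x : {u : ↥(chevG2.posUnipotent K ⊓ reeG φ) // orderOf u = 3} => (x.1.1 : GL chevG2.Idx K)) e
      obtain ⟨-, h1, h2⟩ := alphaR_inj φ e1
      exact Subtype.ext (Prod.ext h1 h2)
    · rintro ⟨⟨g, hg⟩, ho⟩
      obtain ⟨t, u, v, rfl⟩ := (mem_posU_inf_reeG φ hinj hφ).mp hg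
      have ho' : orderOf (alphaR φ t u v) = 3 := by
        rw [← ho, ← Subgroup.orderOf_coe]
      have h3 : alphaR φ t u v ^ 3 = 1 := by
        rw [← ho']
        exact pow_orderOf_eq_one _
      have ht : t = 0 := by
        by_contra hc
        exact alphaR_cube_ne φ hc u v h3
      subst ht
      have hne : (u, v) ≠ ((0, 0) : K × K) := by
        intro e
        have e1 : u = 0 := congrArg Prod.fst e
        have e2 : v = 0 := congrArg Prod.snd e
        rw [e1, e2, alphaR_zero, orderOf_one] at ho'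
        omega
      exact ⟨⟨(u, v), hne⟩, rfl⟩
  rw [← Nat.card_congr (Equiv.ofBijective f hf), Nat.card_eq_fintype_card, Fintype.card_subtype_compl,
    Fintype.card_prod, Fintype.card_subtype_eq, pow_two]

end

end Cfsg.Agent.Lib.Helper8
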