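import Cfsg.Agent.Lib.Helper8.UList
import Cfsg.Agent.Lib.Helper8.Ree1

set_option autoImplicit false
set_option linter.unusedSectionVars false
set_option linter.unusedVariables false

/-! The unipotent group of G₂ in characteristic 3 and the fixed points of `σ` on it. -/

namespace Cfsg.Agent.Lib.Helper8

open Cfsg Cfsg.Lie

theorem hG2 : chevG2 ∈ allData := by simp [allData]

instance charP_isoG2 {K : Type*} [Field K] [h : CharP K 3] : CharP K isoG2.c := h

section gen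
variable {D : ChevalleyDatum} (hD : D ∈ allData) {F : Type*} [Field F]

theorem swap_x_x {r s : ℕ} (hr : r < D.nroots) (hs : s < D.nroots) (hrs : s ≠ r) (hneg : s ≠ D.neg r) (t u : F) :
    xG hD F s u * xG hD F r t = xG hD F r t * xG hD F s u * wG hD (D.commWord F r s t u) := by
  rw [mul_assoc, ← conj_inv_x_x hD hr hs hrs hneg t u]
  group

theorem xG_commute_of_terms {r s : ℕ} (hr : r < D.nroots) (hs : s < D.nroots) (hrs : s ≠ r) (hneg : s ≠ D.neg r)
    (h : ∀ c ∈ D.commTerms r s, ((c.2.1 : ℤ) : F) = 0) (t u : F) : Commute (xG hD F r t) (xG hD F s u) := by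
  have h1 : wG hD (D.commWord F r s t u) = 1 := by
    have : ∀ x ∈ ((D.commWord F r s t u).map fun p => xG hD F p.1 p.2), x = 1 := by
      intro x hx
      simp only [ChevalleyDatum.commWord, List.mem_map] at hx
      obtain ⟨_, ⟨c, hc, rfl⟩, rfl⟩ := hx
      simp only
      rw [h c hc, zero_mul, zero_mul, xG_zero]
    exact List.prod_eq_one this
  have h2 := swap_x_x hD hr hs hrs hneg t u
  rw [h1, mul_one] at h2
  exact h2.symm

end gen

section
variable {K : Type*} [Field K] [CharP K 3]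

theorem three_zero : ((3 : ℤ) : K) = 0 := by
  have := (CharP.intCast_eq_zero_iff K 3 3).mpr (by norm_num)
  exact this

theorem G2_high_commute {r s : ℕ} (hr : r ∈ [8, 9, 10, 11]) (hs : s ∈ [8, 9, 10, 11]) (t u : K) :
    Commute (xG hG2 K r t) (xG hG2 K s u) := by
  by_cases hrs : s = r
  · subst hrs
    show _ * _ = _ * _
    rw [xG_mul, xG_mul, add_comm]
  · have key : ∀ r ∈ [8, 9, 10, 11], ∀ s ∈ [8, 9, 10, 11], r < chevG2.nroots ∧ s < chevG2.nroots ∧
        s ≠ chevG2.neg r ∧ ∀ c ∈ chevG2.commTerms r s, (3 : ℤ) ∣ c.2.1 := by decide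
    obtain ⟨h1, h2, h3, h4⟩ := key r hr s hs
    refine xG_commute_of_terms hG2 h1 h2 hrs h3 (fun c hc => ?_) t u
    exact (CharP.intCast_eq_zero_iff K 3 _).mpr (by exact_mod_cast h4 c hc)

/-- the abelian normal subgroup of `U` -/
def s4 (K : Type*) [Field K] (c3 c4 c5 c6 : K) : GL chevG2.Idx K :=
  (xG hG2 K 8 c3 * xG hG2 K 9 c4) * (xG hG2 K 10 c5 * xG hG2 K 11 c6)

theorem s4_mul (c3 c4 c5 c6 d3 d4 d5 d6 : K) :
    s4 K c3 c4 c5 c6 * s4 K d3 d4 d5 d6 = s4 K (c3 + d3) (c4 + d4) (c5 + d5) (c6 + d6) := by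
  unfold s4
  have hc : ∀ {r s : ℕ} (hr : r ∈ [8, 9, 10, 11]) (hs : s ∈ [8, 9, 10, 11]) (t u : K),
    Commute (xG hG2 K r t) (xG hG2 K s u) := fun hr hs t u => G2_high_commute hr hs t u
  have h1 : Commute (xG hG2 K 10 c5 * xG hG2 K 11 c6) (xG hG2 K 8 d3 * xG hG2 K 9 d4) :=
    Commute.mul_left (Commute.mul_right (hc (by simp) (by simp) _ _) (hc (by simp) (by simp) _ _))
      (Commute.mul_right (hc (by simp) (by simp) _ _) (hc (by simp) (by simp) _ _))
  rw [h1.mul_mul_mul_comm, (hc (r := 9) (s := 8) (by simp) (by simp) c4 d3).mul_mul_mul_comm,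
    (hc (r := 11) (s := 10) (by simp) (by simp) c6 d5).mul_mul_mul_comm, xG_mul, xG_mul, xG_mul, xG_mul]

theorem s4_swap (c3 c4 c5 c6 : K) :
    (xG hG2 K 10 c5 * xG hG2 K 11 c6) * (xG hG2 K 8 c3 * xG hG2 K 9 c4) = s4 K c3 c4 c5 c6 := by
  have hc : ∀ {r s : ℕ} (hr : r ∈ [8, 9, 10, 11]) (hs : s ∈ [8, 9, 10, 11]) (t u : K),
    Commute (xG hG2 K r t) (xG hG2 K s u) := fun hr hs t u => G2_high_commute hr hs t u
  have h1 : Commute (xG hG2 K 10 c5 * xG hG2 K 11 c6) (xG hG2 K 8 c3 * xG hG2 K 9 c4) :=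
    Commute.mul_left (Commute.mul_right (hc (by simp) (by simp) _ _) (hc (by simp) (by simp) _ _))
      (Commute.mul_right (hc (by simp) (by simp) _ _) (hc (by simp) (by simp) _ _))
  exact h1.eq

/-- the normal form of the elements of `U` -/
def P6 (K : Type*) [Field K] (t1 t2 t3 t4 t5 t6 : K) : GL chevG2.Idx K :=
  xG hG2 K 7 t1 * xG hG2 K 6 t2 * s4 K t3 t4 t5 t6

omit [CharP K 3] in
theorem P6_eq_wG (t1 t2 t3 t4 t5 t6 : K) :
    P6 K t1 t2 t3 t4 t5 t6 = wG hG2 [(7, t1), (6, t2), (8, t3), (9, t4), (10, t5), (11, t6)] := by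
  simp [P6, s4, wG, mul_assoc]

omit [CharP K 3] in
theorem swap_b_a (r s : K) :
    xG hG2 K 6 s * xG hG2 K 7 r = xG hG2 K 7 r * xG hG2 K 6 s * s4 K (r * s) (r ^ 2 * s) (-(r ^ 3 * s)) (-(r ^ 3 * s ^ 2)) := by
  rw [swap_x_x hG2 (r := 7) (s := 6) (by decide) (by decide) (by decide) (by decide)]
  congr 1
  have : chevG2.commTerms 7 6 = [(8, -1, 1, 1), (9, 1, 2, 1), (10, 1, 3, 1), (11, 1, 3, 2)] := by decide
  simp only [ChevalleyDatum.commWord, this, wG, s4, List.map_cons, List.map_nil, List.prod_cons, List.prod_nil,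
    mul_one, mul_assoc]
  congr 1
  · congr 1; push_cast; ring
  congr 1
  · congr 1; push_cast; ring
  congr 1
  · congr 1; push_cast; ring
  · congr 1; push_cast; ring

omit [CharP K 3] in
theorem posU_eq_NL : chevG2.posUnipotent K = NL (F := K) hG2 [7, 6, 8, 9, 10, 11] := by
  apply le_antisymm
  · rw [ChevalleyDatum.posUnipotent, Subgroup.closure_le]
    rintro g ⟨r, t, hr, hg⟩
    rw [eq_xG hG2 hg]
    rw [isPos_iff hG2] at hr
    have h1 : 6 ≤ r := hr.1
    have h2 : r < 12 := hr.2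
    apply xG_mem_NL
    interval_cases r <;> simp
  · rw [NL, Subgroup.closure_le]
    rintro g ⟨s, hs, t, rfl⟩
    apply xG_mem_posU hG2
    rw [isPos_iff hG2]
    simp only [List.mem_cons, List.mem_nil_iff, or_false] at hs
    rcases hs with rfl | rfl | rfl | rfl | rfl | rfl <;> decide

omit [CharP K 3] in
theorem posU_exists {u : GL chevG2.Idx K} (hu : u ∈ chevG2.posUnipotent K) :
    ∃ t1 t2 t3 t4 t5 t6 : K, u = P6 K t1 t2 t3 t4 t5 t6 := by
  rw [posU_eq_NL] at hu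
  obtain ⟨τ, rfl⟩ := NL_normal_form hG2 (by decide) hu
  exact ⟨τ 7, τ 6, τ 8, τ 9, τ 10, τ 11, (P6_eq_wG _ _ _ _ _ _).symm⟩

omit [CharP K 3] in
theorem P6_mem_posU (t1 t2 t3 t4 t5 t6 : K) : P6 K t1 t2 t3 t4 t5 t6 ∈ chevG2.posUnipotent K := by
  have h : ∀ r ∈ [6, 7, 8, 9, 10, 11], ∀ t : K, xG hG2 K r t ∈ chevG2.posUnipotent K := by
    intro r hr t
    apply xG_mem_posU hG2
    rw [isPos_iff hG2]
    simp only [List.mem_cons, List.mem_nil_iff, or_false] at hr
    rcases hr with rfl | rfl | rfl | rfl | rfl | rfl <;> decide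
  unfold P6 s4
  exact mul_mem (mul_mem (h 7 (by simp) _) (h 6 (by simp) _))
    (mul_mem (mul_mem (h 8 (by simp) _) (h 9 (by simp) _)) (mul_mem (h 10 (by simp) _) (h 11 (by simp) _)))

omit [CharP K 3] in
theorem P6_inj [Fintype K] {t1 t2 t3 t4 t5 t6 t1' t2' t3' t4' t5' t6' : K}
    (e : P6 K t1 t2 t3 t4 t5 t6 = P6 K t1' t2' t3' t4' t5' t6') :
    t1 = t1' ∧ t2 = t2' ∧ t3 = t3' ∧ t4 = t4' ∧ t5 = t5' ∧ t6 = t6' := by
  classical
  let f : (Fin 6 → K) → ↥(chevG2.posUnipotent K) := fun c =>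
    ⟨P6 K (c 0) (c 1) (c 2) (c 3) (c 4) (c 5), P6_mem_posU _ _ _ _ _ _⟩
  have hs : Function.Surjective f := by
    rintro ⟨u, hu⟩
    obtain ⟨a1, a2, a3, a4, a5, a6, rfl⟩ := posU_exists hu
    exact ⟨![a1, a2, a3, a4, a5, a6], rfl⟩
  have : Finite ↥(chevG2.posUnipotent K) := inferInstance
  have : Fintype ↥(chevG2.posUnipotent K) := Fintype.ofFinite _
  have hcard : Fintype.card (Fin 6 → K) = Fintype.card ↥(chevG2.posUnipotent K) := by
    rw [← Nat.card_eq_fintype_card (α := ↥(chevG2.posUnipotent K)), card_posU hG2]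
    simp
    rfl
  have hb := (Fintype.bijective_iff_surjective_and_card f).mpr ⟨hs, hcard⟩
  have h1 : f ![t1, t2, t3, t4, t5, t6] = f ![t1', t2', t3', t4', t5', t6'] := Subtype.ext e
  have h2 := hb.1 h1
  refine ⟨congrFun h2 0, congrFun h2 1, congrFun h2 2, congrFun h2 3, congrFun h2 4, congrFun h2 5⟩

end

end Cfsg.Agent.Lib.Helper8
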