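import Cfsg.Agent.Lib.Helper8.Ree2

set_option autoImplicit false
set_option linter.unusedSectionVars false
set_option linter.unusedVariables false

/-! The fixed points of `σ` on the unipotent group of G₂ in characteristic 3. -/

namespace Cfsg.Agent.Lib.Helper8

open Cfsg Cfsg.Lie

theorem isoG2_lam (r : ℕ) : isoG2.lamF r = 1 ∨ isoG2.lamF r = 3 := by
  by_cases h : r < 12
  · interval_cases r <;> decide
  · left
    unfold IsoData.lamF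
    rw [List.getD_eq_default _ _ (by simp [isoG2]; omega)]

theorem isoG2_odd {K : Type*} [Field K] (r : ℕ) : (-1 : K) ^ isoG2.lamF r = -1 := by
  rcases isoG2_lam r with h | h <;> rw [h] <;> norm_num

section
variable {K : Type*} [Field K] [CharP K 3] (hinj : Function.Injective (isoR1 hG2 isoOK_G2 (F := K)))
  (φ : K →+* K)

theorem sgG_x_short {r : ℕ} (hr : r ∈ [7, 8, 9, 4, 3, 2]) (t : K) :
    sg hG2 isoOK_G2 hinj φ (xG hG2 K r t) = xG hG2 K (isoG2.rho 2 r) (φ t ^ 3) := by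
  have h : ∀ r ∈ [7, 8, 9, 4, 3, 2], r < chevG2.nroots ∧ isoG2.lamF r = 3 := by decide
  rw [sg_x hG2 isoOK_G2 hinj φ (h r hr).1, eR, (h r hr).2]
  rfl

theorem sgG_x_long {r : ℕ} (hr : r ∈ [6, 10, 11, 5, 1, 0]) (t : K) :
    sg hG2 isoOK_G2 hinj φ (xG hG2 K r t) = xG hG2 K (isoG2.rho 2 r) (φ t) := by
  have h : ∀ r ∈ [6, 10, 11, 5, 1, 0], r < chevG2.nroots ∧ isoG2.lamF r = 1 := by decide
  rw [sg_x hG2 isoOK_G2 hinj φ (h r hr).1, eR, (h r hr).2, pow_one]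
  rfl

theorem sg_s4 (t3 t4 t5 t6 : K) :
    sg hG2 isoOK_G2 hinj φ (s4 K t3 t4 t5 t6) = s4 K (φ t5) (φ t6) (φ t3 ^ 3) (φ t4 ^ 3) := by
  have hm : ∀ r (t : K), xG hG2 K r t ∈ chevG2.group K := fun r t => xG_mem_group hG2 r t
  unfold s4
  rw [sg_mul hG2 isoOK_G2 hinj φ (mul_mem (hm _ _) (hm _ _)) (mul_mem (hm _ _) (hm _ _)), sg_mul hG2 isoOK_G2 hinj φ (hm _ _) (hm _ _),
    sg_mul hG2 isoOK_G2 hinj φ (hm _ _) (hm _ _), sgG_x_short hinj φ (by simp), sgG_x_short hinj φ (by simp),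
    sgG_x_long hinj φ (by simp), sgG_x_long hinj φ (by simp)]
  exact s4_swap _ _ _ _

omit [CharP K 3] in
theorem s4_mem_group (t3 t4 t5 t6 : K) : s4 K t3 t4 t5 t6 ∈ chevG2.group K :=
  mul_mem (mul_mem (xG_mem_group hG2 _ _) (xG_mem_group hG2 _ _))
    (mul_mem (xG_mem_group hG2 _ _) (xG_mem_group hG2 _ _))

theorem sg_P6 (t1 t2 t3 t4 t5 t6 : K) :
    sg hG2 isoOK_G2 hinj φ (P6 K t1 t2 t3 t4 t5 t6) =
      P6 K (φ t2) (φ t1 ^ 3) (φ t2 * φ t1 ^ 3 + φ t5) (φ t2 ^ 2 * φ t1 ^ 3 + φ t6)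
        (-(φ t2 ^ 3 * φ t1 ^ 3) + φ t3 ^ 3) (-(φ t2 ^ 3 * (φ t1 ^ 3) ^ 2) + φ t4 ^ 3) := by
  have hm : ∀ r (t : K), xG hG2 K r t ∈ chevG2.group K := fun r t => xG_mem_group hG2 r t
  unfold P6
  rw [sg_mul hG2 isoOK_G2 hinj φ (mul_mem (hm _ _) (hm _ _)) (s4_mem_group _ _ _ _), sg_mul hG2 isoOK_G2 hinj φ (hm _ _) (hm _ _),
    sgG_x_short hinj φ (by simp), sgG_x_long hinj φ (by simp), sg_s4]
  show xG hG2 K 6 (φ t1 ^ 3) * xG hG2 K 7 (φ t2) * _ = _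
  rw [swap_b_a, mul_assoc, s4_mul]

/-- the elements of the Ree unipotent group -/
def alphaR (φ : K →+* K) (t u v : K) : GL chevG2.Idx K :=
  P6 K (φ t) t (φ t * t + φ u) (φ t ^ 2 * t + φ v) u v

variable (hφ : ∀ t, φ (φ t) ^ 3 = t)
include hφ

theorem sg_alphaR (t u v : K) : sg hG2 isoOK_G2 hinj φ (alphaR φ t u v) = alphaR φ t u v := by
  unfold alphaR
  rw [sg_P6]
  have : Fact (Nat.Prime 3) := ⟨by norm_num⟩
  have h3 : ∀ a b : K, (a + b) ^ 3 = a ^ 3 + b ^ 3 := fun a b => add_pow_char a b 3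
  congr 1
  · exact hφ t
  · rw [hφ t]
  · rw [hφ t]
  · rw [map_add, map_mul, h3, mul_pow, hφ u]; ring
  · rw [map_add, map_mul, map_pow, h3, mul_pow, hφ v]; ring

theorem fixed_posU [Fintype K] {g : GL chevG2.Idx K} (hg : g ∈ chevG2.posUnipotent K)
    (hfix : sg hG2 isoOK_G2 hinj φ g = g) : ∃ t u v : K, g = alphaR φ t u v := by
  obtain ⟨t1, t2, t3, t4, t5, t6, rfl⟩ := posU_exists hg
  rw [sg_P6] at hfix
  obtain ⟨h1, h2, h3, h4, -, -⟩ := P6_inj hfix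
  refine ⟨t2, t5, t6, ?_⟩
  unfold alphaR
  rw [h2] at h3 h4
  rw [h3, h4, h1]

end

end Cfsg.Agent.Lib.Helper8
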