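import Cfsg.Agent.Lib.Helper8.Ree3

set_option autoImplicit false
set_option linter.unusedSectionVars false
set_option linter.unusedVariables false

/-! The negative side, and the Ree group as a group of fixed points. -/

namespace Cfsg.Agent.Lib.Helper8

open Cfsg Cfsg.Lie

section
variable {K : Type*} [Field K] [CharP K 3]

theorem G2_low_commute {r s : ℕ} (hr : r ∈ [3, 2, 1, 0]) (hs : s ∈ [3, 2, 1, 0]) (t u : K) :
    Commute (xG hG2 K r t) (xG hG2 K s u) := by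
  by_cases hrs : s = r
  · subst hrs
    show _ * _ = _ * _
    rw [xG_mul, xG_mul, add_comm]
  · have key : ∀ r ∈ [3, 2, 1, 0], ∀ s ∈ [3, 2, 1, 0], r < chevG2.nroots ∧ s < chevG2.nroots ∧
        s ≠ chevG2.neg r ∧ ∀ c ∈ chevG2.commTerms r s, (3 : ℤ) ∣ c.2.1 := by decide
    obtain ⟨h1, h2, h3, h4⟩ := key r hr s hs
    refine xG_commute_of_terms hG2 h1 h2 hrs h3 (fun c hc => ?_) t u
    exact (CharP.intCast_eq_zero_iff K 3 _).mpr (by exact_mod_cast h4 c hc)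

def s4n (K : Type*) [Field K] (c3 c4 c5 c6 : K) : GL chevG2.Idx K :=
  (xG hG2 K 3 c3 * xG hG2 K 2 c4) * (xG hG2 K 1 c5 * xG hG2 K 0 c6)

theorem s4n_mul (c3 c4 c5 c6 d3 d4 d5 d6 : K) :
    s4n K c3 c4 c5 c6 * s4n K d3 d4 d5 d6 = s4n K (c3 + d3) (c4 + d4) (c5 + d5) (c6 + d6) := by
  unfold s4n
  have hc : ∀ {r s : ℕ} (hr : r ∈ [3, 2, 1, 0]) (hs : s ∈ [3, 2, 1, 0]) (t u : K),
    Commute (xG hG2 K r t) (xG hG2 K s u) := fun hr hs t u => G2_low_commute hr hs t u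
  have h1 : Commute (xG hG2 K 1 c5 * xG hG2 K 0 c6) (xG hG2 K 3 d3 * xG hG2 K 2 d4) :=
    Commute.mul_left (Commute.mul_right (hc (by simp) (by simp) _ _) (hc (by simp) (by simp) _ _))
      (Commute.mul_right (hc (by simp) (by simp) _ _) (hc (by simp) (by simp) _ _))
  rw [h1.mul_mul_mul_comm, (hc (r := 2) (s := 3) (by simp) (by simp) c4 d3).mul_mul_mul_comm,
    (hc (r := 0) (s := 1) (by simp) (by simp) c6 d5).mul_mul_mul_comm, xG_mul, xG_mul, xG_mul, xG_mul]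

theorem s4n_swap (c3 c4 c5 c6 : K) :
    (xG hG2 K 1 c5 * xG hG2 K 0 c6) * (xG hG2 K 3 c3 * xG hG2 K 2 c4) = s4n K c3 c4 c5 c6 := by
  have hc : ∀ {r s : ℕ} (hr : r ∈ [3, 2, 1, 0]) (hs : s ∈ [3, 2, 1, 0]) (t u : K),
    Commute (xG hG2 K r t) (xG hG2 K s u) := fun hr hs t u => G2_low_commute hr hs t u
  have h1 : Commute (xG hG2 K 1 c5 * xG hG2 K 0 c6) (xG hG2 K 3 c3 * xG hG2 K 2 c4) :=
    Commute.mul_left (Commute.mul_right (hc (by simp) (by simp) _ _) (hc (by simp) (by simp) _ _))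
      (Commute.mul_right (hc (by simp) (by simp) _ _) (hc (by simp) (by simp) _ _))
  exact h1.eq

def Q6 (K : Type*) [Field K] (t1 t2 t3 t4 t5 t6 : K) : GL chevG2.Idx K :=
  xG hG2 K 4 t1 * xG hG2 K 5 t2 * s4n K t3 t4 t5 t6

omit [CharP K 3] in
theorem Q6_eq_wG (t1 t2 t3 t4 t5 t6 : K) :
    Q6 K t1 t2 t3 t4 t5 t6 = wG hG2 [(4, t1), (5, t2), (3, t3), (2, t4), (1, t5), (0, t6)] := by
  simp [Q6, s4n, wG, mul_assoc]

omit [CharP K 3] in
theorem swap_nb_na (r s : K) :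
    xG hG2 K 5 s * xG hG2 K 4 r = xG hG2 K 4 r * xG hG2 K 5 s * s4n K (-(r * s)) (r ^ 2 * s) (r ^ 3 * s) (-(r ^ 3 * s ^ 2)) := by
  rw [swap_x_x hG2 (r := 4) (s := 5) (by decide) (by decide) (by decide) (by decide)]
  congr 1
  have : chevG2.commTerms 4 5 = [(3, 1, 1, 1), (2, 1, 2, 1), (1, -1, 3, 1), (0, 1, 3, 2)] := by decide
  simp only [ChevalleyDatum.commWord, this, wG, s4n, List.map_cons, List.map_nil, List.prod_cons, List.prod_nil,
    mul_one, mul_assoc]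
  congr 1
  · congr 1; push_cast; ring
  congr 1
  · congr 1; push_cast; ring
  congr 1
  · congr 1; push_cast; ring
  · congr 1; push_cast; ring

variable (hinj : Function.Injective (isoR1 hG2 isoOK_G2 (F := K))) (φ : K →+* K)

theorem sg_s4n (t3 t4 t5 t6 : K) :
    sg hG2 isoOK_G2 hinj φ (s4n K t3 t4 t5 t6) = s4n K (φ t5) (φ t6) (φ t3 ^ 3) (φ t4 ^ 3) := by
  have hm : ∀ r (t : K), xG hG2 K r t ∈ chevG2.group K := fun r t => xG_mem_group hG2 r t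
  unfold s4n
  rw [sg_mul hG2 isoOK_G2 hinj φ (mul_mem (hm _ _) (hm _ _)) (mul_mem (hm _ _) (hm _ _)),
    sg_mul hG2 isoOK_G2 hinj φ (hm _ _) (hm _ _),
    sg_mul hG2 isoOK_G2 hinj φ (hm _ _) (hm _ _), sgG_x_short hinj φ (by simp), sgG_x_short hinj φ (by simp),
    sgG_x_long hinj φ (by simp), sgG_x_long hinj φ (by simp)]
  exact s4n_swap _ _ _ _

omit [CharP K 3] in
theorem s4n_mem_group (t3 t4 t5 t6 : K) : s4n K t3 t4 t5 t6 ∈ chevG2.group K :=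
  mul_mem (mul_mem (xG_mem_group hG2 _ _) (xG_mem_group hG2 _ _))
    (mul_mem (xG_mem_group hG2 _ _) (xG_mem_group hG2 _ _))

theorem sg_Q6 (t1 t2 t3 t4 t5 t6 : K) :
    sg hG2 isoOK_G2 hinj φ (Q6 K t1 t2 t3 t4 t5 t6) =
      Q6 K (φ t2) (φ t1 ^ 3) (-(φ t2 * φ t1 ^ 3) + φ t5) (φ t2 ^ 2 * φ t1 ^ 3 + φ t6)
        (φ t2 ^ 3 * φ t1 ^ 3 + φ t3 ^ 3) (-(φ t2 ^ 3 * (φ t1 ^ 3) ^ 2) + φ t4 ^ 3) := by
  have hm : ∀ r (t : K), xG hG2 K r t ∈ chevG2.group K := fun r t => xG_mem_group hG2 r t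
  unfold Q6
  rw [sg_mul hG2 isoOK_G2 hinj φ (mul_mem (hm _ _) (hm _ _)) (s4n_mem_group _ _ _ _),
    sg_mul hG2 isoOK_G2 hinj φ (hm _ _) (hm _ _),
    sgG_x_short hinj φ (by simp), sgG_x_long hinj φ (by simp), sg_s4n]
  show xG hG2 K 5 (φ t1 ^ 3) * xG hG2 K 4 (φ t2) * _ = _
  rw [swap_nb_na, mul_assoc, s4n_mul]

/-- the elements of the opposite Ree unipotent group -/
def betaR (φ : K →+* K) (t u v : K) : GL chevG2.Idx K :=
  Q6 K (-φ t) (-t) (-(φ t * t + φ u)) (-(φ t ^ 2 * t + φ v)) (-u) (-v)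

variable (hφ : ∀ t, φ (φ t) ^ 3 = t)
include hφ

theorem sg_betaR (t u v : K) : sg hG2 isoOK_G2 hinj φ (betaR φ t u v) = betaR φ t u v := by
  unfold betaR
  rw [sg_Q6]
  have : Fact (Nat.Prime 3) := ⟨by norm_num⟩
  have h3 : ∀ a b : K, (a + b) ^ 3 = a ^ 3 + b ^ 3 := fun a b => add_pow_char a b 3
  have hn : ∀ a : K, (-a) ^ 3 = -a ^ 3 := fun a => by ring
  congr 1
  · rw [map_neg]
  · rw [map_neg, hn, hφ t]
  · rw [map_neg, map_neg, map_neg, hn, hφ t]; ring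
  · rw [map_neg, map_neg, map_neg, hn, hφ t]; ring
  · rw [map_neg, map_neg, map_neg, map_add, map_mul, hn, hn, hn, h3, mul_pow, hφ u, hφ t]; ring
  · rw [map_neg, map_neg, map_neg, map_add, map_mul, map_pow, hn, hn, hn, h3, mul_pow, hφ v, hφ t,
      ← pow_mul, mul_comm 2 3, pow_mul, hφ t]; ring

end

end Cfsg.Agent.Lib.Helper8
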