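import Cfsg.Agent.Lib.Helper8.Tw4
import Cfsg.Prelude.Def_LieTwisted

set_option autoImplicit false
set_option linter.unusedSectionVars false
set_option linter.unusedVariables false

namespace Cfsg.Agent.Lib.Helper8

open Cfsg Cfsg.Lie

/-! ### finite fields -/

theorem card_units_pow_fixed {K : Type*} [Field K] [Fintype K] {q d : ℕ} (hq : 1 < q) (hK : Fintype.card K = q ^ d) :
    Nat.card ↥(powMonoidHom (q - 1) : Kˣ →* Kˣ).ker = q - 1 := by
  rw [IsCyclic.card_powMonoidHom_ker, Nat.card_units, Nat.card_eq_fintype_card, hK]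
  exact Nat.gcd_eq_right (Nat.sub_one_dvd_pow_sub_one q d)

theorem card_pow_fixed {K : Type*} [Field K] [Fintype K] {q d : ℕ} (hq : 1 < q) (hK : Fintype.card K = q ^ d) :
    Nat.card {t : K // t ^ q = t} = q := by
  have hq1 : q - 1 + 1 = q := by omega
  let f : Option ↥(powMonoidHom (q - 1) : Kˣ →* Kˣ).ker → {t : K // t ^ q = t} := fun o =>
    match o with
    | none => ⟨0, zero_pow (by omega)⟩
    | some u => ⟨((u : Kˣ) : K), by
        have h1 : (u : Kˣ) ^ (q - 1) = 1 := u.2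
        have h2 : ((u : Kˣ) : K) ^ (q - 1) = 1 := by rw [← Units.val_pow_eq_pow_val, h1]; rfl
        have h3 : ((u : Kˣ) : K) ^ q = ((u : Kˣ) : K) ^ (q - 1) * ((u : Kˣ) : K) := by rw [← pow_succ, hq1]
        rw [h3, h2, one_mul]⟩
  have hf : Function.Bijective f := by
    constructor
    · rintro (_ | u) (_ | v) e
      · rfl
      · exact absurd (congrArg Subtype.val e).symm (Units.ne_zero _)
      · exact absurd (congrArg Subtype.val e) (Units.ne_zero _)
      · have : ((u : Kˣ) : K) = ((v : Kˣ) : K) := congrArg Subtype.val e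
        rw [Subtype.ext (Units.ext this)]
    · rintro ⟨t, ht⟩
      by_cases h0 : t = 0
      · exact ⟨none, Subtype.ext h0.symm⟩
      · refine ⟨some ⟨Units.mk0 t h0, ?_⟩, rfl⟩
        rw [MonoidHom.mem_ker]
        apply Units.ext
        show t ^ (q - 1) = 1
        rw [← hq1, pow_succ] at ht
        exact mul_right_cancel₀ h0 (ht.trans (one_mul t).symm)
  rw [← Nat.card_congr (Equiv.ofBijective f hf), Finite.card_option, card_units_pow_fixed hq hK, hq1]

/-- the `q`-th power map as an endomorphism of the field -/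
theorem exists_frob {K : Type*} [Field K] [Fintype K] {q d : ℕ} (hq : IsPrimePow q) (hd : d ≠ 0)
    (hK : Fintype.card K = q ^ d) : ∃ φ : K →+* K, ∀ t, φ t = t ^ q := by
  obtain ⟨p, hp⟩ := CharP.exists K
  obtain ⟨n, hpp, hn⟩ := FiniteField.card K p
  obtain ⟨p', a, hp', ha, rfl⟩ := hq
  have hp'' : p'.Prime := hp'.nat_prime
  have h1 : p' ∣ p ^ (n : ℕ) := by
    rw [← hn, hK]
    exact dvd_pow (dvd_pow_self p' (by omega)) hd
  have h2 : p' = p := (Nat.prime_dvd_prime_iff_eq hp'' hpp).mp (hp''.dvd_of_dvd_pow h1)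
  subst h2
  have : Fact p'.Prime := ⟨hpp⟩
  exact ⟨iterateFrobenius K p' a, fun t => iterateFrobenius_def p' a t⟩

theorem iter_frob {K : Type*} [Field K] {q : ℕ} {φ : K →+* K} (hφ : ∀ t, φ t = t ^ q) (k : ℕ) (t : K) :
    φ^[k] t = t ^ (q ^ k) := by
  induction k generalizing t with
  | zero => simp
  | succ k ih => rw [Function.iterate_succ_apply, ih, hφ, ← pow_mul, pow_succ, mul_comm]

theorem card_iter_fixed {K : Type*} [Field K] [Fintype K] {q d : ℕ} (hq : 1 < q) (hK : Fintype.card K = q ^ d)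
    {φ : K →+* K} (hφ : ∀ t, φ t = t ^ q) {k : ℕ} (hk : k = 1 ∨ k = d) :
    Nat.card {t : K // φ^[k] t = t} = q ^ k := by
  rcases hk with rfl | rfl
  · simp only [Function.iterate_one, hφ, pow_one]
    exact card_pow_fixed hq hK
  · have : ∀ t : K, φ^[k] t = t := fun t => by rw [iter_frob hφ, ← hK, FiniteField.pow_card]
    simp only [this]
    rw [← hK, ← Nat.card_eq_fintype_card]
    exact Nat.card_congr (Equiv.subtypeUnivEquiv (fun _ => trivial))

/-! ### the two twisted groups -/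

def blE6 : List (List ℕ) := [[1], [3], [2, 4], [0, 5]]
def blD4 : List (List ℕ) := [[1], [0, 2, 3]]

def w0BlE6 : List (List ℕ) := [[0, 5], [2, 4], [3], [2, 4], [1], [3], [2, 4], [0, 5], [2, 4], [3], [2, 4], [1], [3],
  [2, 4], [0, 5], [2, 4], [3], [2, 4], [1], [3], [2, 4], [1], [3], [1]]
def w0BlD4 : List (List ℕ) := [[0, 2, 3], [1], [0, 2, 3], [1], [0, 2, 3], [1]]

theorem hE6 : chevE6 ∈ allData := by simp [allData]
theorem hD4 : chevD4 ∈ allData := by simp [allData]

instance decOrthL (D : ChevalleyDatum) (J : List ℕ) : Decidable (OrthL D J) :=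
  decidable_of_iff ((∀ j ∈ J, j < D.rank) ∧ J.Nodup ∧ (∀ a ∈ J, ∀ b ∈ J, a ≠ b → orthB D a b = true) ∧
    (∀ a ∈ J, ∀ b ∈ J, a ≠ b → D.reflectRoot a (D.simple b) = D.simple b))
    ⟨fun h => ⟨h.1, h.2.1, h.2.2.1, h.2.2.2⟩, fun h => ⟨h.1, h.2, h.3, h.4⟩⟩

instance decBlockOK (D : ChevalleyDatum) (r0 J : List ℕ) : Decidable (BlockOK D r0 J) :=
  decidable_of_iff (OrthL D J ∧ J.map (fun i => r0.getD i 0) = J.rotate 1 ∧ J ≠ [])
    ⟨fun h => ⟨h.1, h.2.1, h.2.2⟩, fun h => ⟨h.1, h.2, h.3⟩⟩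

theorem blE6_ok : ∀ J ∈ blE6, BlockOK chevE6 [5, 1, 4, 3, 2, 0] J := by decide +kernel
theorem blD4_ok : ∀ J ∈ blD4, BlockOK chevD4 [2, 1, 3, 0] J := by decide +kernel

theorem w0BlE6_mem : ∀ J ∈ w0BlE6, J ∈ blE6 := by decide
theorem w0BlD4_mem : ∀ J ∈ w0BlD4, J ∈ blD4 := by decide

theorem w0BlE6_red : Red chevE6 w0BlE6.flatten := chkRed_spec hE6 (by decide +kernel)
theorem w0BlD4_red : Red chevD4 w0BlD4.flatten := chkRed_spec hD4 (by decide +kernel)
theorem w0BlE6_chk : chkW0 chevE6 (nrowOf chevE6) w0BlE6.flatten = true := by decide +kernel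
theorem w0BlD4_chk : chkW0 chevD4 (nrowOf chevD4) w0BlD4.flatten = true := by decide +kernel

theorem twistedE6_eq {K : Type*} [Field K] {q : ℕ} {φ : K →+* K} (hφ : ∀ t, φ t = t ^ q)
    (hφ2 : ∀ t : K, φ^[2] t = t) : twistedE6 K q = twG hE6 φ blE6 := by
  have s0 : chevE6.simple 0 = 56 := by decide +kernel
  have s1 : chevE6.simple 1 = 46 := by decide +kernel
  have s2 : chevE6.simple 2 = 42 := by decide +kernel
  have s3 : chevE6.simple 3 = 39 := by decide +kernel
  have s4 : chevE6.simple 4 = 37 := by decide +kernel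
  have s5 : chevE6.simple 5 = 36 := by decide +kernel
  have m0 : chevE6.neg 56 = 15 := by decide +kernel
  have m1 : chevE6.neg 46 = 25 := by decide +kernel
  have m2 : chevE6.neg 42 = 29 := by decide +kernel
  have m3 : chevE6.neg 39 = 32 := by decide +kernel
  have m4 : chevE6.neg 37 = 34 := by decide +kernel
  have m5 : chevE6.neg 36 = 35 := by decide +kernel
  apply le_antisymm
  · rw [twistedE6, ChevalleyDatum.genSubgroup, Subgroup.closure_le]
    rintro g ⟨w, hw, hg⟩
    have hg' : g = wG hE6 w := Units.ext (by rw [hg, wG_coe])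
    rw [hg']
    rcases hw with ⟨t, ht, r, hr, rfl⟩ | ⟨t, rs, hrs, rfl⟩
    · have ht' : φ^[1] t = t := by rw [Function.iterate_one, hφ, ht]
      simp only [List.mem_cons, List.not_mem_nil, or_false] at hr
      rcases hr with rfl | rfl | rfl | rfl
      · refine Subgroup.subset_closure ⟨[1], by simp [blE6], t, ht', Or.inl ?_⟩
        simp [wG, xB, PB, s1, e6p2]
      · refine Subgroup.subset_closure ⟨[1], by simp [blE6], t, ht', Or.inr ?_⟩
        simp [wG, yB, PB, s1, m1, e6m2]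
      · refine Subgroup.subset_closure ⟨[3], by simp [blE6], t, ht', Or.inl ?_⟩
        simp [wG, xB, PB, s3, e6p4]
      · refine Subgroup.subset_closure ⟨[3], by simp [blE6], t, ht', Or.inr ?_⟩
        simp [wG, yB, PB, s3, m3, e6m4]
    · simp only [List.mem_cons, List.not_mem_nil, or_false] at hrs
      rcases hrs with rfl | rfl | rfl | rfl
      · refine Subgroup.subset_closure ⟨[0, 5], by simp [blE6], t, hφ2 t, Or.inl ?_⟩
        simp [wG, xB, PB, s0, s5, e6p1, e6p6, hφ]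
      · refine Subgroup.subset_closure ⟨[0, 5], by simp [blE6], t, hφ2 t, Or.inr ?_⟩
        simp [wG, yB, PB, s0, s5, m0, m5, e6m1, e6m6, hφ]
      · refine Subgroup.subset_closure ⟨[2, 4], by simp [blE6], t, hφ2 t, Or.inl ?_⟩
        simp [wG, xB, PB, s2, s4, e6p3, e6p5, hφ]
      · refine Subgroup.subset_closure ⟨[2, 4], by simp [blE6], t, hφ2 t, Or.inr ?_⟩
        simp [wG, yB, PB, s2, s4, m2, m4, e6m3, e6m5, hφ]
  · rw [twG, Subgroup.closure_le]
    have key : ∀ w ∈ e6Words K q, wG hE6 w ∈ twistedE6 K q := fun w hw =>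
      Subgroup.subset_closure ⟨w, hw, wG_coe hE6 w⟩
    rintro g ⟨J, hJ, t, ht, hg⟩
    simp only [blE6, List.mem_cons, List.not_mem_nil, or_false] at hJ
    rcases hJ with rfl | rfl | rfl | rfl
    · have ht' : t ^ q = t := by rw [← hφ]; exact ht
      rcases hg with rfl | rfl
      · have := key [(e6p2, t)] (Or.inl ⟨t, ht', e6p2, by simp, rfl⟩)
        simpa [wG, xB, PB, s1, e6p2] using this
      · have := key [(e6m2, t)] (Or.inl ⟨t, ht', e6m2, by simp, rfl⟩)
        simpa [wG, yB, PB, s1, m1, e6m2] using this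
    · have ht' : t ^ q = t := by rw [← hφ]; exact ht
      rcases hg with rfl | rfl
      · have := key [(e6p4, t)] (Or.inl ⟨t, ht', e6p4, by simp, rfl⟩)
        simpa [wG, xB, PB, s3, e6p4] using this
      · have := key [(e6m4, t)] (Or.inl ⟨t, ht', e6m4, by simp, rfl⟩)
        simpa [wG, yB, PB, s3, m3, e6m4] using this
    · rcases hg with rfl | rfl
      · have := key [(e6p3, t), (e6p5, t ^ q)] (Or.inr ⟨t, (e6p3, e6p5), by simp, rfl⟩)
        simpa [wG, xB, PB, s2, s4, e6p3, e6p5, hφ] using this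
      · have := key [(e6m3, t), (e6m5, t ^ q)] (Or.inr ⟨t, (e6m3, e6m5), by simp, rfl⟩)
        simpa [wG, yB, PB, s2, s4, m2, m4, e6m3, e6m5, hφ] using this
    · rcases hg with rfl | rfl
      · have := key [(e6p1, t), (e6p6, t ^ q)] (Or.inr ⟨t, (e6p1, e6p6), by simp, rfl⟩)
        simpa [wG, xB, PB, s0, s5, e6p1, e6p6, hφ] using this
      · have := key [(e6m1, t), (e6m6, t ^ q)] (Or.inr ⟨t, (e6m1, e6m6), by simp, rfl⟩)
        simpa [wG, yB, PB, s0, s5, m0, m5, e6m1, e6m6, hφ] using this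

theorem twistedD4_eq {K : Type*} [Field K] {q : ℕ} {φ : K →+* K} (hφ : ∀ t, φ t = t ^ q)
    (hφ3 : ∀ t : K, φ^[3] t = t) : twistedD4 K q = twG hD4 φ blD4 := by
  have s0 : chevD4.simple 0 = 18 := by decide +kernel
  have s1 : chevD4.simple 1 = 14 := by decide +kernel
  have s2 : chevD4.simple 2 = 13 := by decide +kernel
  have s3 : chevD4.simple 3 = 12 := by decide +kernel
  have m0 : chevD4.neg 18 = 5 := by decide +kernel
  have m1 : chevD4.neg 14 = 9 := by decide +kernel
  have m2 : chevD4.neg 13 = 10 := by decide +kernel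
  have m3 : chevD4.neg 12 = 11 := by decide +kernel
  have hqq : ∀ t : K, (t ^ q) ^ q = t ^ q ^ 2 := fun t => by rw [← pow_mul, pow_two]
  apply le_antisymm
  · rw [twistedD4, ChevalleyDatum.genSubgroup, Subgroup.closure_le]
    rintro g ⟨w, hw, hg⟩
    have hg' : g = wG hD4 w := Units.ext (by rw [hg, wG_coe])
    rw [hg']
    rcases hw with ⟨t, ht, r, hr, rfl⟩ | ⟨t, rs, hrs, rfl⟩
    · have ht' : φ^[1] t = t := by rw [Function.iterate_one, hφ, ht]
      simp only [List.mem_cons, List.not_mem_nil, or_false] at hr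
      rcases hr with rfl | rfl
      · refine Subgroup.subset_closure ⟨[1], by simp [blD4], t, ht', Or.inl ?_⟩
        simp [wG, xB, PB, s1, d4p2]
      · refine Subgroup.subset_closure ⟨[1], by simp [blD4], t, ht', Or.inr ?_⟩
        simp [wG, yB, PB, s1, m1, d4m2]
    · simp only [List.mem_cons, List.not_mem_nil, or_false] at hrs
      rcases hrs with rfl | rfl
      · refine Subgroup.subset_closure ⟨[0, 2, 3], by simp [blD4], t, hφ3 t, Or.inl ?_⟩
        simp [wG, xB, PB, s0, s2, s3, d4p1, d4p3, d4p4, hφ, hqq, mul_assoc]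
      · refine Subgroup.subset_closure ⟨[0, 2, 3], by simp [blD4], t, hφ3 t, Or.inr ?_⟩
        simp [wG, yB, PB, s0, s2, s3, m0, m2, m3, d4m1, d4m3, d4m4, hφ, hqq, mul_assoc]
  · rw [twG, Subgroup.closure_le]
    have key : ∀ w ∈ d4Words K q, wG hD4 w ∈ twistedD4 K q := fun w hw =>
      Subgroup.subset_closure ⟨w, hw, wG_coe hD4 w⟩
    rintro g ⟨J, hJ, t, ht, hg⟩
    simp only [blD4, List.mem_cons, List.not_mem_nil, or_false] at hJ
    rcases hJ with rfl | rfl
    · have ht' : t ^ q = t := by rw [← hφ]; exact ht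
      rcases hg with rfl | rfl
      · have := key [(d4p2, t)] (Or.inl ⟨t, ht', d4p2, by simp, rfl⟩)
        simpa [wG, xB, PB, s1, d4p2] using this
      · have := key [(d4m2, t)] (Or.inl ⟨t, ht', d4m2, by simp, rfl⟩)
        simpa [wG, yB, PB, s1, m1, d4m2] using this
    · rcases hg with rfl | rfl
      · have := key [(d4p1, t), (d4p3, t ^ q), (d4p4, t ^ (q ^ 2))] (Or.inr ⟨t, (d4p1, d4p3, d4p4), by simp, rfl⟩)
        simpa [wG, xB, PB, s0, s2, s3, d4p1, d4p3, d4p4, hφ, hqq, mul_assoc] using this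
      · have := key [(d4m1, t), (d4m3, t ^ q), (d4m4, t ^ (q ^ 2))] (Or.inr ⟨t, (d4m1, d4m3, d4m4), by simp, rfl⟩)
        simpa [wG, yB, PB, s0, s2, s3, m0, m2, m3, d4m1, d4m3, d4m4, hφ, hqq, mul_assoc] using this

/-- the set-up for `²E₆(q)` -/
theorem setup_E6 {K : Type*} [Field K] [Fintype K] {q : ℕ} (hq : IsPrimePow q) (hK : Fintype.card K = q ^ 2) :
    ∃ φ : K →+* K, (∀ t, φ t = t ^ q) ∧ twistedE6 K q = twG hE6 φ blE6 ∧
      ∀ J ∈ blE6, Nat.card {t : K // φ^[J.length] t = t} = q ^ J.length := by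
  obtain ⟨φ, hφ⟩ := exists_frob hq two_ne_zero hK
  refine ⟨φ, hφ, twistedE6_eq hφ (fun t => by rw [iter_frob hφ, ← hK, FiniteField.pow_card]), ?_⟩
  intro J hJ
  apply card_iter_fixed hq.one_lt hK hφ
  simp only [blE6, List.mem_cons, List.not_mem_nil, or_false] at hJ
  rcases hJ with rfl | rfl | rfl | rfl <;> simp

/-- the set-up for `³D₄(q)` -/
theorem setup_D4 {K : Type*} [Field K] [Fintype K] {q : ℕ} (hq : IsPrimePow q) (hK : Fintype.card K = q ^ 3) :
    ∃ φ : K →+* K, (∀ t, φ t = t ^ q) ∧ twistedD4 K q = twG hD4 φ blD4 ∧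
      ∀ J ∈ blD4, Nat.card {t : K // φ^[J.length] t = t} = q ^ J.length := by
  obtain ⟨φ, hφ⟩ := exists_frob hq three_ne_zero hK
  refine ⟨φ, hφ, twistedD4_eq hφ (fun t => by rw [iter_frob hφ, ← hK, FiniteField.pow_card]), ?_⟩
  intro J hJ
  apply card_iter_fixed hq.one_lt hK hφ
  simp only [blD4, List.mem_cons, List.not_mem_nil, or_false] at hJ
  rcases hJ with rfl | rfl <;> simp

end Cfsg.Agent.Lib.Helper8
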