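import Cfsg.Agent.Lib.Helper8.Ree4
import Cfsg.Agent.Lib.Helper8.Tw5

set_option autoImplicit false
set_option linter.unusedSectionVars false
set_option linter.unusedVariables false

/-! The Ree group `²G₂` as a subgroup of the fixed points of `σ`. -/

namespace Cfsg.Agent.Lib.Helper8

open Cfsg Cfsg.Lie

section
variable {K : Type*} [Field K] (φ : K →+* K)

/-- the Ree group -/
def reeG : Subgroup (GL chevG2.Idx K) :=
  Subgroup.closure ({g | ∃ t u v, g = alphaR φ t u v} ∪ {g | ∃ t u v, g = betaR φ t u v})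

theorem alphaR_mem (t u v : K) : alphaR φ t u v ∈ reeG φ := Subgroup.subset_closure (Or.inl ⟨t, u, v, rfl⟩)
theorem betaR_mem (t u v : K) : betaR φ t u v ∈ reeG φ := Subgroup.subset_closure (Or.inr ⟨t, u, v, rfl⟩)

theorem alphaR_coe {e : ℕ} (he : ∀ t, φ t = t ^ e) (t u v : K) :
    ((alphaR φ t u v : GL chevG2.Idx K) : Matrix chevG2.Idx chevG2.Idx K) = chevG2.wordMat K (reeWordU e t u v) := by
  rw [alphaR, P6_eq_wG, wG_coe, reeWordU, he t, he u, he v]
  simp only [g2a, g2b, g2ab, g2aab, g2aaab, g2aaabb]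
  congr 4 <;> ring_nf

theorem betaR_coe {e : ℕ} (he : ∀ t, φ t = t ^ e) (t u v : K) :
    ((betaR φ t u v : GL chevG2.Idx K) : Matrix chevG2.Idx chevG2.Idx K) = chevG2.wordMat K (reeWordV e t u v) := by
  rw [betaR, Q6_eq_wG, wG_coe, reeWordV, reeWordU, he t, he u, he v]
  simp only [g2a, g2b, g2ab, g2aab, g2aaab, g2aaabb, ChevalleyDatum.negWord, List.map_cons, List.map_nil]
  have h : ∀ r ∈ [7, 6, 8, 9, 10, 11], chevG2.negIdx.getD r 0 = 11 - r := by decide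
  rw [h 7 (by simp), h 6 (by simp), h 8 (by simp), h 9 (by simp), h 10 (by simp), h 11 (by simp)]
  congr 4 <;> ring_nf

theorem twistedG2_eq {e : ℕ} (he : ∀ t, φ t = t ^ e) : twistedG2 K e = reeG φ := by
  apply le_antisymm
  · rw [twistedG2, ChevalleyDatum.genSubgroup, Subgroup.closure_le]
    rintro g ⟨w, ⟨t, u, v, rfl | rfl⟩, hg⟩
    · have : g = alphaR φ t u v := Units.ext (by rw [hg, alphaR_coe φ he])
      rw [this]; exact alphaR_mem φ t u v
    · have : g = betaR φ t u v := Units.ext (by rw [hg, betaR_coe φ he])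
      rw [this]; exact betaR_mem φ t u v
  · rw [reeG, Subgroup.closure_le]
    rintro g (⟨t, u, v, rfl⟩ | ⟨t, u, v, rfl⟩)
    · exact Subgroup.subset_closure ⟨_, ⟨t, u, v, Or.inl rfl⟩, alphaR_coe φ he t u v⟩
    · exact Subgroup.subset_closure ⟨_, ⟨t, u, v, Or.inr rfl⟩, betaR_coe φ he t u v⟩

theorem alphaR_mem_posU (t u v : K) : alphaR φ t u v ∈ chevG2.posUnipotent K := P6_mem_posU _ _ _ _ _ _

theorem betaR_mem_negU (t u v : K) : betaR φ t u v ∈ chevG2.negUnipotent K := by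
  have h : ∀ r ∈ [0, 1, 2, 3, 4, 5], ∀ t : K, xG hG2 K r t ∈ chevG2.negUnipotent K := by
    intro r hr t
    apply xG_mem_negU hG2
    rw [isNeg_iff hG2]
    simp only [List.mem_cons, List.mem_nil_iff, or_false] at hr
    rcases hr with rfl | rfl | rfl | rfl | rfl | rfl <;> decide
  unfold betaR Q6 s4n
  exact mul_mem (mul_mem (h 4 (by simp) _) (h 5 (by simp) _))
    (mul_mem (mul_mem (h 3 (by simp) _) (h 2 (by simp) _)) (mul_mem (h 1 (by simp) _) (h 0 (by simp) _)))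

variable [CharP K 3] (hinj : Function.Injective (isoR1 hG2 isoOK_G2 (F := K))) (hφ : ∀ t, φ (φ t) ^ 3 = t)
include hφ

theorem reeG_le_fixR : reeG φ ≤ fixR hG2 isoOK_G2 hinj φ := by
  rw [reeG, Subgroup.closure_le]
  rintro g (⟨t, u, v, rfl⟩ | ⟨t, u, v, rfl⟩)
  · exact ⟨posU_le_group hG2 (alphaR_mem_posU φ t u v), sg_alphaR hinj φ hφ t u v⟩
  · exact ⟨negU_le_group hG2 (betaR_mem_negU φ t u v), sg_betaR hinj φ hφ t u v⟩

theorem posU_inf_fixR_le [Fintype K] : chevG2.posUnipotent K ⊓ fixR hG2 isoOK_G2 hinj φ ≤ reeG φ := by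
  rintro g ⟨h1, h2⟩
  obtain ⟨t, u, v, rfl⟩ := fixed_posU hinj φ hφ h1 h2.2
  exact alphaR_mem φ t u v

include hinj in
theorem mem_posU_inf_reeG [Fintype K] {g : GL chevG2.Idx K} :
    g ∈ chevG2.posUnipotent K ⊓ reeG φ ↔ ∃ t u v, g = alphaR φ t u v := by
  constructor
  · rintro ⟨h1, h2⟩
    exact fixed_posU hinj φ hφ h1 (reeG_le_fixR φ hinj hφ h2).2
  · rintro ⟨t, u, v, rfl⟩
    exact ⟨alphaR_mem_posU φ t u v, alphaR_mem φ t u v⟩

omit hφ [CharP K 3] in
theorem alphaR_inj [Fintype K] {t u v t' u' v' : K} (e : alphaR φ t u v = alphaR φ t' u' v') :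
    t = t' ∧ u = u' ∧ v = v' := by
  obtain ⟨-, h2, -, -, h5, h6⟩ := P6_inj e
  exact ⟨h2, h5, h6⟩

include hinj in
theorem card_posU_inf_reeG [Fintype K] :
    Nat.card ↥(chevG2.posUnipotent K ⊓ reeG φ) = Fintype.card K ^ 3 := by
  have hb : Function.Bijective (fun p : K × K × K =>
      (⟨alphaR φ p.1 p.2.1 p.2.2, (mem_posU_inf_reeG φ hinj hφ).mpr ⟨_, _, _, rfl⟩⟩ :
        ↥(chevG2.posUnipotent K ⊓ reeG φ))) := by
    constructor
    · rintro ⟨t, u, v⟩ ⟨t', u', v'⟩ e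
      obtain ⟨rfl, rfl, rfl⟩ := alphaR_inj φ (congrArg Subtype.val e)
      rfl
    · rintro ⟨g, hg⟩
      obtain ⟨t, u, v, rfl⟩ := (mem_posU_inf_reeG φ hinj hφ).mp hg
      exact ⟨(t, u, v), rfl⟩
  rw [← Nat.card_congr (Equiv.ofBijective _ hb), Nat.card_prod, Nat.card_prod, Nat.card_eq_fintype_card]
  ring

end

end Cfsg.Agent.Lib.Helper8
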