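import Cfsg.Agent.Lib.Helper8.Ree5

set_option autoImplicit false
set_option linter.unusedSectionVars false
set_option linter.unusedVariables false

/-! Set-up for the finite Ree groups `²G₂(3^(2m+1))`. -/

namespace Cfsg.Agent.Lib.Helper8

open Cfsg Cfsg.Lie

theorem charP3_of_card {K : Type*} [Field K] [Fintype K] {n : ℕ} (hn : n ≠ 0) (hK : Fintype.card K = 3 ^ n) :
    CharP K 3 := by
  obtain ⟨p, hp⟩ := CharP.exists K
  obtain ⟨k, hpp, hk⟩ := FiniteField.card K p
  have h1 : 3 ∣ p ^ (k : ℕ) := by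
    rw [← hk, hK]
    exact dvd_pow_self 3 hn
  have h2 : 3 = p := (Nat.prime_dvd_prime_iff_eq Nat.prime_three hpp).mp (Nat.prime_three.dvd_of_dvd_pow h1)
  subst h2
  exact hp

theorem G2_simple3 {K : Type*} [Field K] [CharP K 3] : IsSimpleGroup ↥(chevG2.group K) :=
  (group_simple (F := K) hG2 (fun _ => ⟨-1, by simp, by
      intro h
      have h2 : (2 : K) = 0 := by linear_combination -h
      have h3 : ((2 : ℕ) : K) = 0 := by exact_mod_cast h2
      rw [CharP.cast_eq_zero_iff K 3] at h3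
      omega⟩)).1

theorem G2_isoR1_inj {K : Type*} [Field K] [CharP K 3] : Function.Injective (isoR1 hG2 isoOK_G2 (F := K)) :=
  isoR1_injective (F := K) hG2 isoOK_G2 G2_simple3 isoW_G2

/-- the set-up for `²G₂(3^(2m+1))` -/
theorem setup_ree {K : Type*} [Field K] [Fintype K] {m : ℕ} (hK : Fintype.card K = 3 ^ (2 * m + 1)) :
    ∃ (_ : CharP K 3) (φ : K →+* K), (∀ t, φ t = t ^ 3 ^ m) ∧ (∀ t, φ (φ t) ^ 3 = t) ∧
      twistedG2 K (3 ^ m) = reeG φ := by
  have hc : CharP K 3 := charP3_of_card (by omega) hK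
  have : Fact (Nat.Prime 3) := ⟨Nat.prime_three⟩
  refine ⟨hc, iterateFrobenius K 3 m, fun t => iterateFrobenius_def 3 m t, fun t => ?_,
    twistedG2_eq _ (fun t => iterateFrobenius_def 3 m t)⟩
  rw [iterateFrobenius_def, iterateFrobenius_def, ← pow_mul, ← pow_mul]
  have : 3 ^ m * (3 ^ m * 3) = Fintype.card K := by rw [hK]; ring
  rw [this, FiniteField.pow_card]

end Cfsg.Agent.Lib.Helper8
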