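import Cfsg.Agent.Lib.Helper8.Tw6

set_option autoImplicit false
set_option linter.unusedSectionVars false
set_option linter.unusedVariables false

namespace Cfsg.Agent.Lib.Helper8

open Cfsg Cfsg.Lie

/-- all the checked data of a twisted group -/
structure TwS (D : ChevalleyDatum) (tab tab' : List (ℕ × ℤ)) (r0 : List ℕ) (Bl M0 : List (List ℕ)) : Prop where
  T : TwOK D tab tab' r0
  bl : ∀ J ∈ Bl, BlockOK D r0 J
  cov : ∀ i < D.rank, ∃ J ∈ Bl, i ∈ J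
  orb : ∀ J ∈ Bl, ∀ i ∈ J, ∀ j ∈ J, j = i ∨ j = r0.getD i 0 ∨ j = r0.getD (r0.getD i 0) 0
  m0_mem : ∀ J ∈ M0, J ∈ Bl
  m0_red : Red D M0.flatten
  m0_chk : chkW0 D (nrowOf D) M0.flatten = true

section
variable {D : ChevalleyDatum} (hD : D ∈ allData) {tab tab' : List (ℕ × ℤ)} {r0 : List ℕ} {Bl M0 : List (List ℕ)}
  (S : TwS D tab tab' r0 Bl M0) {K : Type*} [Field K] (φ : K →+* K)
include hD S

theorem fixed_normal_form {g : GL D.Idx K} (hg : g ∈ D.group K) (hfix : sig S.T φ g = g) :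
    ∃ u ∈ D.posUnipotent K ⊓ fixS S.T φ, ∃ h ∈ D.diagonalSubgroup K ⊓ fixS S.T φ,
      ∃ M : List (List ℕ), (∀ J ∈ M, J ∈ Bl) ∧ Red D M.flatten ∧
        ∃ u' ∈ FU S.T φ (nR hD K M.flatten), g = u * h * nR hD K M.flatten * u' := by
  obtain ⟨b, hb, L, hL, u', hu', rfl⟩ := normal_form_exists hD hg
  have hm := nR_mem_mono (F := K) hD L hL.lt
  have hm' := nR_mem_mono (F := K) hD (L.map S.T.p) (S.T.map_lt hL.lt)
  have e0 : sig S.T φ b * nR hD K (L.map S.T.p) * sig S.T φ u' = b * nR hD K L * u' := by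
    rw [← sig_nR hD S.T φ L hL.lt, ← map_mul, ← map_mul]; exact hfix
  have h1 := bruhat_unique hD hm hm' hb (sig_mem_borel hD S.T φ hb) (posU_le_borel hD (Uw_le_posU _ hu'))
    (posU_le_borel hD (sig_mem_posU hD S.T φ (Uw_le_posU _ hu'))) e0.symm
  have hst : om (sP hD) (L.map S.T.p) = om (sP hD) L := by
    apply om_of_nR_eq (F := K) hD (S.T.map_lt hL.lt) hL.lt
    refine ⟨nR hD K L * ((nR hD K L)⁻¹ * nR hD K (L.map S.T.p)) * (nR hD K L)⁻¹, mono_conj_diag hD hm h1, ?_⟩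
    group
  obtain ⟨M, hM1, hM2, hM3⟩ := descent hD S.T Bl S.bl S.cov S.orb _ L rfl hL hst
  obtain ⟨h1, hh1, e1⟩ := nR_eq_of_om (F := K) hD hL.lt hM2.lt hM3.symm
  have hUw : Uw D K (nR hD K L) = Uw D K (nR hD K M.flatten) :=
    Uw_congr hD (act_nR hD L hL.lt) (act_nR hD _ hM2.lt) ((om_eq_iff hD hL.lt hM2.lt).mp hM3.symm)
  rw [hUw] at hu'
  have hsn := sig_nR_flatten hD S.T φ Bl S.bl hM1
  have hbh : b * h1 ∈ D.borelSubgroup K := mul_mem hb (diag_le_borel hD hh1)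
  have e2 : sig S.T φ (b * h1) * nR hD K M.flatten * sig S.T φ u' = (b * h1) * nR hD K M.flatten * u' := by
    have : (b * h1) * nR hD K M.flatten * u' = b * nR hD K L * u' := by rw [e1]; group
    calc sig S.T φ (b * h1) * nR hD K M.flatten * sig S.T φ u'
        = sig S.T φ ((b * h1) * nR hD K M.flatten * u') := by simp only [map_mul, hsn]
      _ = _ := by rw [this, hfix]
  obtain ⟨e3, e4⟩ := normal_form_unique hD (sig_mem_borel hD S.T φ hbh) hbh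
    (sig_mem_Uw hD S.T φ hM2 hsn hu') hu' e2
  obtain ⟨u, hu, h, hh, e5⟩ := mem_borel hD hbh
  rw [e5, map_mul] at e3
  have e6 : u⁻¹ * sig S.T φ u = h * (sig S.T φ h)⁻¹ := by
    have : sig S.T φ u = u * h * (sig S.T φ h)⁻¹ := by rw [← e3]; group
    rw [this]; group
  have e7 : u⁻¹ * sig S.T φ u ∈ D.posUnipotent K ⊓ D.diagonalSubgroup K :=
    Subgroup.mem_inf.mpr ⟨mul_mem (inv_mem hu) (sig_mem_posU hD S.T φ hu), by
      rw [e6]; exact mul_mem hh (inv_mem (sig_mem_diag hD S.T φ hh))⟩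
  rw [posU_inf_diag hD, Subgroup.mem_bot] at e7
  have e8 : sig S.T φ u = u := by
    have := congrArg (fun z => u * z) e7
    simpa using this
  have e9 : sig S.T φ h = h := by
    rw [e8] at e3
    exact mul_left_cancel e3
  refine ⟨u, ⟨hu, e8⟩, h, ⟨hh, e9⟩, M, hM1, hM2, u', ⟨hu', e4⟩, ?_⟩
  rw [← e5, e1]
  group

theorem posU_fix_le_twG : D.posUnipotent K ⊓ fixS S.T φ ≤ twG hD φ Bl := by
  rw [← posU_inf_twG hD S.T φ Bl S.bl S.m0_mem S.m0_red S.m0_chk]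
  exact inf_le_right

theorem twG_normal_form {g : GL D.Idx K} (hg : g ∈ twG hD φ Bl) :
    ∃ u ∈ D.posUnipotent K ⊓ twG hD φ Bl, ∃ h ∈ D.diagonalSubgroup K ⊓ twG hD φ Bl,
      ∃ M : List (List ℕ), (∀ J ∈ M, J ∈ Bl) ∧ Red D M.flatten ∧
        ∃ u' ∈ FU S.T φ (nR hD K M.flatten), g = u * h * nR hD K M.flatten * u' := by
  obtain ⟨u, hu, h, hh, M, hM1, hM2, u', hu', e⟩ := fixed_normal_form hD S φ (twG_le_group hD φ Bl hg)
    (twG_le_fixS hD S.T φ Bl S.bl hg)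
  have h1 := posU_fix_le_twG hD S φ hu
  have h2 := nR_flatten_mem hD φ Bl S.bl hM1
  have h3 := FU_le_twG hD S.T φ Bl S.bl hM1 hM2 hu'
  have h4 : h ∈ twG hD φ Bl := by
    have : h = u⁻¹ * g * u'⁻¹ * (nR hD K M.flatten)⁻¹ := by rw [e]; group
    rw [this]
    exact mul_mem (mul_mem (mul_mem (inv_mem h1) hg) (inv_mem h3)) (inv_mem h2)
  exact ⟨u, ⟨hu.1, h1⟩, h, ⟨hh.1, h4⟩, M, hM1, hM2, u', hu', e⟩

/-- the order of the twisted group from a system of representatives of the fixed points in the Weyl group -/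
theorem card_twG_of_reps [Fintype K] {q : ℕ} (hq : ∀ J ∈ Bl, Nat.card {t : K // φ^[J.length] t = t} = q ^ J.length)
    (R : Finset (List (List ℕ))) (hR : ∀ t ∈ R, (∀ J ∈ t, J ∈ Bl) ∧ Red D t.flatten)
    (hC : ∀ M : List (List ℕ), (∀ J ∈ M, J ∈ Bl) → ∃ t ∈ R, om (sP hD) t.flatten = om (sP hD) M.flatten)
    (hU : ∀ t ∈ R, ∀ t' ∈ R, om (sP hD) t.flatten = om (sP hD) t'.flatten → t = t') :
    Nat.card ↥(twG hD φ Bl) = q ^ M0.flatten.length * Nat.card ↥(D.diagonalSubgroup K ⊓ twG hD φ Bl) *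
      ∑ t ∈ R, q ^ t.flatten.length := by
  have hmem : ∀ (t : R) (x : (↥(D.posUnipotent K ⊓ twG hD φ Bl) × ↥(D.diagonalSubgroup K ⊓ twG hD φ Bl)) ×
      ↥(FU S.T φ (nR hD K t.1.flatten))),
      (x.1.1 : GL D.Idx K) * x.1.2 * nR hD K t.1.flatten * x.2 ∈ twG hD φ Bl := fun t x =>
    mul_mem (mul_mem (mul_mem x.1.1.2.2 x.1.2.2.2) (nR_flatten_mem hD φ Bl S.bl (hR t.1 t.2).1))
      (FU_le_twG hD S.T φ Bl S.bl (hR t.1 t.2).1 (hR t.1 t.2).2 x.2.2)
  have key : Function.Bijective (fun x : (Σ t : R, (↥(D.posUnipotent K ⊓ twG hD φ Bl) ×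
      ↥(D.diagonalSubgroup K ⊓ twG hD φ Bl)) × ↥(FU S.T φ (nR hD K t.1.flatten))) =>
      (⟨(x.2.1.1 : GL D.Idx K) * x.2.1.2 * nR hD K x.1.1.flatten * x.2.2, hmem x.1 x.2⟩ :
        ↥(twG hD φ Bl))) := by
    constructor
    · rintro ⟨⟨t, ht⟩, ⟨⟨u, hu⟩, ⟨h, hh⟩⟩, ⟨v, hv⟩⟩ ⟨⟨t', ht'⟩, ⟨⟨u', hu'⟩, ⟨h', hh'⟩⟩, ⟨v', hv'⟩⟩ e
      have e1 : u * h * nR hD K t.flatten * v = u' * h' * nR hD K t'.flatten * v' := congrArg Subtype.val e
      have hm := nR_mem_mono (F := K) hD t.flatten (hR t ht).2.lt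
      have hm' := nR_mem_mono (F := K) hD t'.flatten (hR t' ht').2.lt
      have hb : u * h ∈ D.borelSubgroup K := mul_mem (posU_le_borel hD hu.1) (diag_le_borel hD hh.1)
      have hb' : u' * h' ∈ D.borelSubgroup K := mul_mem (posU_le_borel hD hu'.1) (diag_le_borel hD hh'.1)
      have h1 := bruhat_unique hD hm hm' hb hb' (posU_le_borel hD (Uw_le_posU _ hv.1))
        (posU_le_borel hD (Uw_le_posU _ hv'.1)) e1
      have h2 : t' = t := by
        apply hU t' ht' t ht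
        apply om_of_nR_eq (F := K) hD (hR t' ht').2.lt (hR t ht).2.lt
        refine ⟨nR hD K t.flatten * ((nR hD K t.flatten)⁻¹ * nR hD K t'.flatten) * (nR hD K t.flatten)⁻¹,
          mono_conj_diag hD hm h1, ?_⟩
        group
      subst h2
      obtain ⟨e2, rfl⟩ := normal_form_unique hD hb hb' hv.1 hv'.1 e1
      have e3 : u'⁻¹ * u = h' * h⁻¹ := by
        have : u = u' * h' * h⁻¹ := by rw [← e2]; group
        rw [this]; group
      have e4 : u'⁻¹ * u ∈ D.posUnipotent K ⊓ D.diagonalSubgroup K :=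
        Subgroup.mem_inf.mpr ⟨mul_mem (inv_mem hu'.1) hu.1, by rw [e3]; exact mul_mem hh'.1 (inv_mem hh.1)⟩
      rw [posU_inf_diag hD, Subgroup.mem_bot] at e4
      have e5 : u = u' := by
        have := congrArg (fun z => u' * z) e4
        simpa using this
      subst e5
      have e6 : h = h' := mul_left_cancel e2
      subst e6
      rfl
    · rintro ⟨g, hg⟩
      obtain ⟨u, hu, h, hh, M, hM1, hM2, v, hv, rfl⟩ := twG_normal_form hD S φ hg
      obtain ⟨t, ht, e⟩ := hC M hM1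
      obtain ⟨h2, hh2, e2⟩ := nR_eq_of_om (F := K) hD hM2.lt (hR t ht).2.lt e.symm
      have hUw : Uw D K (nR hD K M.flatten) = Uw D K (nR hD K t.flatten) :=
        Uw_congr hD (act_nR hD _ hM2.lt) (act_nR hD _ (hR t ht).2.lt)
          ((om_eq_iff hD hM2.lt (hR t ht).2.lt).mp e.symm)
      have hh2' : h2 ∈ twG hD φ Bl := by
        have : h2 = nR hD K M.flatten * (nR hD K t.flatten)⁻¹ := by rw [e2]; group
        rw [this]
        exact mul_mem (nR_flatten_mem hD φ Bl S.bl hM1) (inv_mem (nR_flatten_mem hD φ Bl S.bl (hR t ht).1))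
      refine ⟨⟨⟨t, ht⟩, ⟨⟨u, hu⟩, ⟨h * h2, mul_mem hh.1 hh2, mul_mem hh.2 hh2'⟩⟩,
        ⟨v, by rw [FU, ← hUw]; exact hv⟩⟩, ?_⟩
      apply Subtype.ext
      show u * (h * h2) * nR hD K t.flatten * v = u * h * nR hD K M.flatten * v
      rw [e2]
      group
  rw [← Nat.card_congr (Equiv.ofBijective _ key), Nat.card_sigma, Finset.mul_sum, ← Finset.sum_coe_sort R]
  apply Finset.sum_congr rfl
  intro t _
  rw [Nat.card_prod, Nat.card_prod, card_posU_inf_twG hD S.T φ Bl S.bl hq S.m0_mem S.m0_red S.m0_chk,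
    card_FU hD S.T φ Bl S.bl hq (hR t.1 t.2).1 (hR t.1 t.2).2]

end

end Cfsg.Agent.Lib.Helper8
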