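import Cfsg.Agent.Lib.Helper8.Chk.Lev_G2
import Cfsg.Agent.Lib.Helper8.Chk.Lev_B2
import Cfsg.Agent.Lib.Helper8.Chk.Lev_D4
import Cfsg.Agent.Lib.Helper8.Chk.Lev_F4
import Cfsg.Agent.Lib.Helper8.Chk.Lev_E6
import Cfsg.Agent.Lib.Helper8.Chk.Lev_E7
import Cfsg.Agent.Lib.Helper8.Chk.Lev_E8
import Cfsg.Agent.Lib.Helper8.PolyN

set_option autoImplicit false
set_option linter.unusedSectionVars false

namespace Cfsg.Agent.Lib.Helper8

open Cfsg Cfsg.Lie

theorem levOK_all {D : ChevalleyDatum} (hD : D ∈ allData) :
    ∀ k < D.rank, LevOK D (nrowOf D) k (maskOf D k) (levOf D k) (keyOf D k) :=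
  all_of (P := fun D => ∀ k < D.rank, LevOK D (nrowOf D) k (maskOf D k) (levOf D k) (keyOf D k))
    cLev_G2 cLev_B2 cLev_D4 cLev_F4 cLev_E6 cLev_E7 cLev_E8 D hD

/-- the degrees of the basic invariants -/
def degsOf (D : ChevalleyDatum) : List ℕ :=
  if D.nroots = 12 then [2, 6] else if D.nroots = 8 then [2, 4] else if D.nroots = 24 then [2, 4, 4, 6]
  else if D.nroots = 48 then [2, 6, 8, 12] else if D.nroots = 72 then [2, 5, 6, 8, 9, 12]
  else if D.nroots = 126 then [2, 6, 8, 10, 12, 14, 18] else [2, 8, 12, 14, 18, 20, 24, 30]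

theorem poincare_all : ∀ D ∈ allData,
    (prodP ((List.range D.rank).map (fun m => histP (levOf D m))) = prodP ((degsOf D).map geoP) ∧
      (degsOf D).length = D.rank) := by
  apply all_of <;> decide +kernel

section
variable {D : ChevalleyDatum} (hD : D ∈ allData)
include hD

theorem levels_all : Levels (sP hD) (Red D) D.rank (levOf D) := levels_of_ok hD (levOK_all hD)

/-- the reduced normal forms of the elements of the Weyl group -/
def weylForms (D : ChevalleyDatum) : Finset (List ℕ) := normalForms (levOf D) D.rank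

theorem weylForms_red : ∀ t ∈ weylForms D, Red D t := fun t ht =>
  (((levels_all hD).main D.rank le_rfl).1 t ht).1

theorem weylForms_cover (L : List ℕ) (hL : ∀ i ∈ L, i < D.rank) :
    ∃ t ∈ weylForms D, om (sP hD) t = om (sP hD) L := ((levels_all hD).main D.rank le_rfl).2.1 L hL

theorem weylForms_inj : ∀ t ∈ weylForms D, ∀ t' ∈ weylForms D, om (sP hD) t = om (sP hD) t' → t = t' :=
  ((levels_all hD).main D.rank le_rfl).2.2

theorem weylForms_sum (x : ℕ) :
    ∑ t ∈ weylForms D, x ^ t.length = ((degsOf D).map (fun d => evalP (geoP d) x)).prod := by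
  rw [weylForms, (levels_all hD).sum x D.rank le_rfl, prod_range_eq_list]
  have h := congrArg (fun c => evalP c x) (poincare_all D hD).1
  simp only [evalP_prodP, List.map_map] at h
  rw [show ((degsOf D).map (fun d => evalP (geoP d) x)) = (degsOf D).map ((fun c => evalP c x) ∘ geoP) from rfl,
    ← h]
  congr 1
  apply List.map_congr_left
  intro m _
  simp only [Function.comp]
  rw [evalP_histP]

theorem card_group_mul {F : Type*} [Field F] [Fintype F] :
    Nat.card ↥(D.group F) * (Fintype.card F - 1) ^ D.rank =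
      Fintype.card F ^ (D.nroots / 2) * Nat.card ↥(D.diagonalSubgroup F) *
        ((degsOf D).map (fun d => Fintype.card F ^ d - 1)).prod := by
  have h := card_group_of_reps (F := F) hD (weylForms D) (weylForms_red hD)
    (fun L hL => by
      obtain ⟨t, ht, e⟩ := weylForms_cover hD L hL
      exact ⟨t, ht, nR_eq_of_om hD hL (weylForms_red hD t ht).lt e.symm⟩)
    (fun t ht t' ht' e => weylForms_inj hD t ht t' ht'
      (om_of_nR_eq hD (weylForms_red hD t ht).lt (weylForms_red hD t' ht').lt e))
  have h2 := prod_geoP (degsOf D) (Nat.le_of_lt (Fintype.one_lt_card (α := F)))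
  rw [(poincare_all D hD).2] at h2
  rw [h, weylForms_sum hD, mul_assoc, h2]

/-- the order formula, given the order of `H` -/
theorem card_group_of_diag {F : Type*} [Field F] [Fintype F] {c : ℕ}
    (hc : c * Nat.card ↥(D.diagonalSubgroup F) = (Fintype.card F - 1) ^ D.rank) :
    c * Nat.card ↥(D.group F) =
      Fintype.card F ^ (D.nroots / 2) * ((degsOf D).map (fun d => Fintype.card F ^ d - 1)).prod := by
  have h := card_group_mul (F := F) hD
  have hq : 0 < (Fintype.card F - 1) ^ D.rank := by
    have := Fintype.one_lt_card (α := F)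
    exact Nat.pow_pos (by omega)
  apply Nat.eq_of_mul_eq_mul_right hq
  calc c * Nat.card ↥(D.group F) * (Fintype.card F - 1) ^ D.rank
      = c * (Nat.card ↥(D.group F) * (Fintype.card F - 1) ^ D.rank) := by ring
    _ = Fintype.card F ^ (D.nroots / 2) * (c * Nat.card ↥(D.diagonalSubgroup F)) *
        ((degsOf D).map (fun d => Fintype.card F ^ d - 1)).prod := by rw [h]; ring
    _ = _ := by rw [hc]; ring

end

end Cfsg.Agent.Lib.Helper8
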