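import Cfsg.Agent.Lib.Helper8.Ree6
import Cfsg.Agent.Lib.Helper8.Tw7
import Cfsg.Agent.Lib.Helper8.WeylLev2

set_option autoImplicit false
set_option linter.unusedSectionVars false
set_option linter.unusedVariables false

/-! The normal form of the fixed points of `σ` on `G₂` (rank one). -/

namespace Cfsg.Agent.Lib.Helper8

open Cfsg Cfsg.Lie

/-- `h_r(c) x_s(t) h_r(c)⁻¹ = x_s(c^A t)` -/
theorem conj_hG_x {D : ChevalleyDatum} (hD : D ∈ allData) {F : Type*} [Field F] {r s : ℕ} (hr : r < D.nroots)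
    (hs : s < D.nroots) {c : F} (hc : c ≠ 0) (t : F) :
    hG hD F r c * xG hD F s t * (hG hD F r c)⁻¹ = xG hD F s (c ^ (AOf D r s) * t) := by
  obtain ⟨c', hc'⟩ := hG_mem_torus hD hr (Units.mk0 c hc)
  have h1 : ((chi D c' s : Fˣ) : F) = c ^ (AOf D r s) := by
    have h2 : tMat D c' = D.hMat F r c := by
      have := congrArg Units.val hc'
      rwa [tG_coe, hG_coe] at this
    have h3 := congrFun (congrFun h2 (Sum.inr ⟨s, hs⟩)) (Sum.inr ⟨s, hs⟩)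
    rw [hMat_eq_diag hD hr hc, tMat, Matrix.diagonal_apply_eq, Matrix.diagonal_apply_eq, code_inr,
      chiC_inr] at h3
    simp only [Sum.elim_inr] at h3
    exact h3
  have h4 : hG hD F r c = tG D c' := hc'.symm
  rw [h4, conj_tG_x hD c' hs, h1]

theorem weylG2_fixed : ∀ t ∈ weylForms chevG2,
    (∀ s < 12, wR chevG2 (t.map (fun i => [1, 0].getD i 0)) s = wR chevG2 t s) →
      (∀ s < 12, wR chevG2 t s = wR chevG2 [] s) ∨ (∀ s < 12, wR chevG2 t s = wR chevG2 (w0Of chevG2) s) := by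
  decide +kernel

theorem weylG2_fixed' {L : List ℕ} (hL : ∀ i ∈ L, i < chevG2.rank)
    (h : om (sP hG2) (L.map isoR_G2.p) = om (sP hG2) L) :
    om (sP hG2) L = om (sP hG2) [] ∨ om (sP hG2) L = om (sP hG2) (w0Of chevG2) := by
  obtain ⟨t, ht, e⟩ := weylForms_cover hG2 L hL
  have htl := (weylForms_red hG2 t ht).lt
  have e2 : om (sP hG2) (t.map isoR_G2.p) = om (sP hG2) t := by
    rw [IsoR.om_map_congr hG2 isoOK_G2 isoR_G2 htl hL e, h, e]
  rw [← e]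
  rcases weylG2_fixed t ht ((om_eq_iff hG2 (isoR_G2.map_lt htl) htl).mp e2) with h1 | h1
  · left
    exact (om_eq_iff hG2 htl (by simp)).mpr h1
  · right
    exact (om_eq_iff hG2 htl (w0_lt hG2)).mpr h1

section
variable {K : Type*} [Field K] [CharP K 3] (hinj : Function.Injective (isoR1 hG2 isoOK_G2 (F := K))) (φ : K →+* K)

local notation "σ" => sg hG2 isoOK_G2 hinj φ
local notation "Fx" => fixR hG2 isoOK_G2 hinj φ

theorem fixed_borel {b : GL chevG2.Idx K} (hb : b ∈ chevG2.borelSubgroup K) {h2 : GL chevG2.Idx K}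
    (hh2 : h2 ∈ chevG2.diagonalSubgroup K) (e : σ b * h2 = b) :
    ∃ u ∈ chevG2.posUnipotent K ⊓ Fx, ∃ h ∈ chevG2.diagonalSubgroup K, σ h * h2 = h ∧ b = u * h := by
  obtain ⟨u, hu, h, hh, e5⟩ := mem_borel hG2 hb
  have hug := posU_le_group hG2 hu
  have hhg := diag_le_group hG2 hh
  rw [e5, sg_mul hG2 isoOK_G2 hinj φ hug hhg] at e
  have e6 : u⁻¹ * σ u = h * (σ h * h2)⁻¹ := by
    have : σ u = u * h * (σ h * h2)⁻¹ := by rw [← e]; group
    rw [this]; group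
  have e7 : u⁻¹ * σ u ∈ chevG2.posUnipotent K ⊓ chevG2.diagonalSubgroup K :=
    Subgroup.mem_inf.mpr ⟨mul_mem (inv_mem hu) (sg_mem_posU hG2 isoOK_G2 hinj φ isoR_G2 hu), by
      rw [e6]; exact mul_mem hh (inv_mem (mul_mem (sg_mem_diag hG2 isoOK_G2 hinj φ isoR_G2 isoG2_odd hh) hh2))⟩
  rw [posU_inf_diag hG2, Subgroup.mem_bot] at e7
  have e8 : σ u = u := by
    have := congrArg (fun z => u * z) e7
    simpa using this
  have e9 : σ h * h2 = h := by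
    rw [e8, mul_assoc] at e
    exact mul_left_cancel e
  exact ⟨u, ⟨hu, hug, e8⟩, h, hh, e9, e5⟩

theorem fixed_normal_form_G2 {g : GL chevG2.Idx K} (hg : g ∈ Fx) :
    (∃ u ∈ chevG2.posUnipotent K ⊓ Fx, ∃ h ∈ chevG2.diagonalSubgroup K ⊓ Fx, g = u * h) ∨
    (∃ u ∈ chevG2.posUnipotent K ⊓ Fx, ∃ h ∈ chevG2.diagonalSubgroup K, h * n0 hG2 K ∈ Fx ∧
      ∃ u' ∈ chevG2.posUnipotent K ⊓ Fx, g = u * (h * n0 hG2 K) * u') := by
  obtain ⟨hgG, hfix⟩ := hg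
  obtain ⟨b, hb, L, hL, u', hu', rfl⟩ := normal_form_exists hG2 hgG
  have hm := nR_mem_mono (F := K) hG2 L hL.lt
  have hm' := nR_mem_mono (F := K) hG2 (L.map isoR_G2.p) (isoR_G2.map_lt hL.lt)
  have hbG := borel_le_group hG2 hb
  have hmG := mono_le_group hG2 hm
  have hu'U := Uw_le_posU _ hu'
  have hu'G := posU_le_group hG2 hu'U
  have e0 : σ b * nR hG2 K (L.map isoR_G2.p) * σ u' = b * nR hG2 K L * u' := by
    rw [← sg_nR hG2 isoOK_G2 hinj φ isoR_G2 isoG2_odd L hL.lt, ← sg_mul hG2 isoOK_G2 hinj φ hbG hmG,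
      ← sg_mul hG2 isoOK_G2 hinj φ (mul_mem hbG hmG) hu'G]
    exact hfix
  have h1 := bruhat_unique hG2 hm hm' hb (sg_mem_borel hG2 isoOK_G2 hinj φ isoR_G2 isoG2_odd hb)
    (posU_le_borel hG2 hu'U)
    (posU_le_borel hG2 (sg_mem_posU hG2 isoOK_G2 hinj φ isoR_G2 hu'U)) e0.symm
  have hst : om (sP hG2) (L.map isoR_G2.p) = om (sP hG2) L := by
    apply om_of_nR_eq (F := K) hG2 (isoR_G2.map_lt hL.lt) hL.lt
    refine ⟨nR hG2 K L * ((nR hG2 K L)⁻¹ * nR hG2 K (L.map isoR_G2.p)) * (nR hG2 K L)⁻¹,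
      mono_conj_diag hG2 hm h1, ?_⟩
    group
  obtain ⟨h2, hh2, e2⟩ := nR_eq_of_om (F := K) hG2 (isoR_G2.map_lt hL.lt) hL.lt hst
  have hus : σ u' ∈ Uw chevG2 K (nR hG2 K L) := by
    apply mem_Uw_of hG2 hL (sg_mem_posU hG2 isoOK_G2 hinj φ isoR_G2 hu'U)
    have h3 := sg_mem_negU hG2 isoOK_G2 hinj φ isoR_G2 (conj_Uw_mem_negU hu')
    rw [sg_mul hG2 isoOK_G2 hinj φ (mul_mem hmG hu'G) (inv_mem hmG), sg_mul hG2 isoOK_G2 hinj φ hmG hu'G, sg_inv hG2 isoOK_G2 hinj φ hmG,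
      sg_nR hG2 isoOK_G2 hinj φ isoR_G2 isoG2_odd L hL.lt, e2] at h3
    have h4 : nR hG2 K L * σ u' * (nR hG2 K L)⁻¹ =
        h2⁻¹ * (h2 * nR hG2 K L * σ u' * (h2 * nR hG2 K L)⁻¹) * (h2⁻¹)⁻¹ := by group
    rw [h4]
    exact (Subgroup.le_normalizer_iff.mp (diag_le_normalizer_negU hG2)) _ (inv_mem hh2) _ h3
  have e3 : (σ b * h2) * nR hG2 K L * σ u' = b * nR hG2 K L * u' := by
    rw [← e0, e2]; group
  obtain ⟨e4, e5⟩ := normal_form_unique hG2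
    (mul_mem (sg_mem_borel hG2 isoOK_G2 hinj φ isoR_G2 isoG2_odd hb) (diag_le_borel hG2 hh2)) hb hus hu' e3
  obtain ⟨u, hu, h, hh, e6, rfl⟩ := fixed_borel hinj φ hb hh2 e4
  have hhG := diag_le_group hG2 hh
  have hmfix : h * nR hG2 K L ∈ Fx := by
    refine ⟨mul_mem hhG hmG, ?_⟩
    rw [sg_mul hG2 isoOK_G2 hinj φ hhG hmG, sg_nR hG2 isoOK_G2 hinj φ isoR_G2 isoG2_odd L hL.lt, e2, ← mul_assoc, e6]
  rcases weylG2_fixed' hL.lt hst with hw | hw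
  · left
    obtain ⟨h3, hh3, e7⟩ := nR_eq_of_om (F := K) hG2 hL.lt (by simp) hw
    have hU : Uw chevG2 K (nR hG2 K L) = Uw chevG2 K 1 :=
      Uw_congr hG2 (act_nR hG2 L hL.lt) (act_one hG2) ((om_eq_iff hG2 hL.lt (by simp)).mp hw)
    rw [hU, Uw_one hG2, Subgroup.mem_bot] at hu'
    subst hu'
    have e8 : nR hG2 K L = h3 := by rw [e7]; exact mul_one _
    refine ⟨u, hu, h * h3, ⟨mul_mem hh hh3, by rw [← e8]; exact hmfix⟩, ?_⟩
    rw [e8]; group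
  · right
    obtain ⟨h3, hh3, e7⟩ := nR_eq_of_om (F := K) hG2 hL.lt (w0_lt hG2) hw
    refine ⟨u, hu, h * h3, mul_mem hh hh3, ?_, u', ⟨hu'U, hu'G, e5⟩, ?_⟩
    · have : h * h3 * n0 hG2 K = h * nR hG2 K L := by rw [e7, n0]; group
      rw [this]; exact hmfix
    · rw [e7, n0]; group

end

end Cfsg.Agent.Lib.Helper8
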