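import Cfsg.Agent.Lib.Helper8.Ree5
import Cfsg.Agent.Lib.Helper8.EngineC

set_option autoImplicit false
set_option linter.unusedSectionVars false
set_option linter.unusedVariables false

/-! An explicit Bruhat decomposition over the prime field, which produces the involution of the torus. -/

namespace Cfsg.Agent.Lib.Helper8

open Cfsg Cfsg.Lie

def reeKeyL : List (ℕ × ℤ) := [(4, 0), (5, 0), (3, -1), (2, -1), (1, -1), (0, -1)]
def reeKeyR : List (ℕ × ℤ) :=
  [(7, 0), (6, 0), (8, 1), (9, 1), (10, 1), (11, 1),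
   (7, -1), (4, 1), (7, -1), (7, -1), (4, 1), (7, -1),
   (6, -1), (5, 1), (6, -1), (6, -1), (5, 1), (6, -1),
   (8, 1), (3, -1), (8, 1), (10, 1), (1, -1), (10, 1),
   (7, 1), (6, 1), (8, 2), (9, 0), (10, 1), (11, -1)]

theorem reeKey_chk : chkWC 3 chevG2.rank chevG2.nroots (getOf chevG2) reeKeyL reeKeyR = true := by
  decide +kernel

theorem reeKey {K : Type*} [Field K] [CharP K 3] (φ : K →+* K) :
    betaR φ 0 1 1 = alphaR φ 0 1 1 * (hG hG2 K 7 (-1) * hG hG2 K 6 (-1)) * (nG hG2 K 8 1 * nG hG2 K 10 1) *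
      alphaR φ 1 1 (-1) := by
  have h := wG_eq_of_chkWC hG2 (F := K) 3 reeKey_chk
  simp only [castW, reeKeyL, reeKeyR, wG, List.map_cons, List.map_nil, List.prod_cons, List.prod_nil, mul_one,
    Int.cast_zero, Int.cast_one, Int.cast_neg, Int.cast_ofNat] at h
  have hn : ∀ r ∈ [7, 6, 8, 10], chevG2.neg r = 11 - r := by decide
  unfold betaR alphaR Q6 P6 s4 s4n hG nG
  rw [hn 7 (by simp), hn 6 (by simp), hn 8 (by simp), hn 10 (by simp)]
  simp only [map_zero, map_one, map_neg, mul_zero, zero_mul, zero_add, add_zero, neg_zero, one_pow, mul_one,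
    inv_one, inv_neg, neg_neg, mul_assoc, Nat.reduceSub, ne_eq, OfNat.ofNat_ne_zero, not_false_eq_true, zero_pow]
  rw [show (1 : K) + 1 = 2 by norm_num, show (1 : K) + -1 = 0 by norm_num]
  simpa only [mul_assoc] using h

end Cfsg.Agent.Lib.Helper8
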