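import Cfsg.Agent.Lib.Helper8.Ree7
import Cfsg.Agent.Lib.Helper8.ReeKey

set_option autoImplicit false
set_option linter.unusedSectionVars false
set_option linter.unusedVariables false

/-! The torus of the Ree group. -/

namespace Cfsg.Agent.Lib.Helper8

open Cfsg Cfsg.Lie

section
variable {K : Type*} [Field K]

theorem tG_G2 (c : ℕ → Kˣ) : tG chevG2 c = hG hG2 K 7 (c 0 : K) * hG hG2 K 6 (c 1 : K) := by
  rw [tG_eq_prod hG2 c]
  have : List.range chevG2.rank = [0, 1] := rfl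
  rw [this]
  simp only [List.map_cons, List.map_nil, List.prod_cons, List.prod_nil, mul_one]
  rfl

theorem chi_G2 (c : ℕ → Kˣ) (s : ℕ) : chi chevG2 c s = c 0 ^ chevG2.cartan 0 s * c 1 ^ chevG2.cartan 1 s := by
  unfold chi
  rw [show chevG2.rank = 2 from rfl, Finset.prod_range_succ, Finset.prod_range_one]

theorem chi_G2_11 (c : ℕ → Kˣ) : chi chevG2 c 11 = c 1 := by
  rw [chi_G2, show chevG2.cartan 0 11 = 0 by decide, show chevG2.cartan 1 11 = 1 by decide]; simp

theorem chi_G2_9 (c : ℕ → Kˣ) : chi chevG2 c 9 = c 0 := by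
  rw [chi_G2, show chevG2.cartan 0 9 = 1 by decide, show chevG2.cartan 1 9 = 0 by decide]; simp

theorem chi_of_tG_eq {c c' : ℕ → Kˣ} (h : tG chevG2 c = tG chevG2 c') {s : ℕ} (hs : s < chevG2.nroots) :
    chi chevG2 c s = chi chevG2 c' s := by
  have h1 := conj_tG_x hG2 c hs (1 : K)
  rw [h, conj_tG_x hG2 c' hs] at h1
  have := xG_inj hG2 hs h1
  rw [mul_one, mul_one] at this
  exact (Units.ext this).symm

theorem tG_G2_inj {c c' : ℕ → Kˣ} (h : tG chevG2 c = tG chevG2 c') : c 0 = c' 0 ∧ c 1 = c' 1 := by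
  have h1 := chi_of_tG_eq h (s := 9) (by decide)
  have h2 := chi_of_tG_eq h (s := 11) (by decide)
  rw [chi_G2_9, chi_G2_9] at h1
  rw [chi_G2_11, chi_G2_11] at h2
  exact ⟨h1, h2⟩

/-- the parameters of the torus of the Ree group -/
noncomputable def cR (φ : K →+* K) (z : Kˣ) : ℕ → Kˣ := fun i => if i = 0 then Units.map (φ : K →* K) z else z

/-- the torus of the Ree group -/
noncomputable def hR (φ : K →+* K) : Kˣ →* GL chevG2.Idx K where
  toFun z := tG chevG2 (cR φ z)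
  map_one' := by
    rw [← tG_one]
    congr 1
    funext i
    simp [cR]
  map_mul' a b := by
    rw [tG_mul]
    congr 1
    funext i
    simp only [cR, Pi.mul_apply]
    split_ifs
    · rw [map_mul]
    · rfl

theorem hR_apply (φ : K →+* K) (z : Kˣ) : hR φ z = tG chevG2 (cR φ z) := rfl

theorem hR_injective (φ : K →+* K) : Function.Injective (hR φ) := by
  intro a b h
  exact (tG_G2_inj h).2

theorem hR_mem_diag (φ : K →+* K) (z : Kˣ) : hR φ z ∈ chevG2.diagonalSubgroup K := by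
  rw [diag_eq_torus hG2]
  exact ⟨_, rfl⟩

theorem conj_hR_x (φ : K →+* K) (z : Kˣ) {s : ℕ} (hs : s < chevG2.nroots) (t : K) :
    hR φ z * xG hG2 K s t * (hR φ z)⁻¹ = xG hG2 K s ((chi chevG2 (cR φ z) s : Kˣ) * t) :=
  conj_tG_x hG2 _ hs t

variable [CharP K 3] (hinj : Function.Injective (isoR1 hG2 isoOK_G2 (F := K))) (φ : K →+* K)

theorem sg_tG (c : ℕ → Kˣ) : sg hG2 isoOK_G2 hinj φ (tG chevG2 c) =
    tG chevG2 (fun i => if i = 0 then Units.map (φ : K →* K) (c 1) else (Units.map (φ : K →* K) (c 0)) ^ 3) := by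
  rw [tG_G2, tG_G2, sg_mul hG2 isoOK_G2 hinj φ (hG_mem_group hG2 _ _) (hG_mem_group hG2 _ _),
    sg_hG hG2 isoOK_G2 hinj φ isoR_G2 isoG2_odd (by decide), sg_hG hG2 isoOK_G2 hinj φ isoR_G2 isoG2_odd (by decide)]
  have h1 : isoG2.rho chevG2.rank 7 = 6 := by decide
  have h2 : isoG2.rho chevG2.rank 6 = 7 := by decide
  have h3 : eR isoG2 φ 7 (c 0 : K) = φ (c 0) ^ 3 := rfl
  have h4 : eR isoG2 φ 6 (c 1 : K) = φ (c 1) := by
    show φ (c 1) ^ 1 = _
    rw [pow_one]
  rw [h1, h2, h3, h4]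
  have hcomm : ∀ a b : Kˣ, hG hG2 K 6 (a : K) * hG hG2 K 7 (b : K) = hG hG2 K 7 (b : K) * hG hG2 K 6 (a : K) := by
    intro a b
    have e1 := hG_simple_eq_tG hG2 (F := K) (i := 0) (by decide) b
    have e2 := hG_simple_eq_tG hG2 (F := K) (i := 1) (by decide) a
    have s0 : chevG2.simple 0 = 7 := rfl
    have s1 : chevG2.simple 1 = 6 := rfl
    rw [s0] at e1
    rw [s1] at e2
    rw [e1, e2, tG_mul, tG_mul, mul_comm]
  have := hcomm ((Units.map (φ : K →* K) (c 0)) ^ 3) (Units.map (φ : K →* K) (c 1))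
  simpa using this

variable (hφ : ∀ t, φ (φ t) ^ 3 = t)
include hφ

theorem hR_mem_fixR (z : Kˣ) : hR φ z ∈ fixR hG2 isoOK_G2 hinj φ := by
  refine ⟨diag_le_group hG2 (hR_mem_diag φ z), ?_⟩
  rw [hR_apply, sg_tG]
  congr 1
  funext i
  by_cases h : i = 0
  · simp [cR, h]
  · simp only [cR, h, if_false, if_true]
    apply Units.ext
    simp only [Units.val_pow_eq_pow_val, Units.coe_map, MonoidHom.coe_coe]
    exact hφ z

theorem fixed_diag {h : GL chevG2.Idx K} (hh : h ∈ chevG2.diagonalSubgroup K ⊓ fixR hG2 isoOK_G2 hinj φ) :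
    ∃ z : Kˣ, h = hR φ z := by
  obtain ⟨h1, -, h2⟩ := hh
  rw [diag_eq_torus hG2] at h1
  obtain ⟨c, rfl⟩ := h1
  rw [sg_tG] at h2
  obtain ⟨e0, e1⟩ := tG_G2_inj h2
  simp only [if_true] at e0
  refine ⟨c 1, ?_⟩
  rw [hR_apply]
  apply Units.ext
  apply tMat_congr
  intro i hi
  have hi2 : i < 2 := hi
  simp only [cR]
  interval_cases i
  · simp only [if_true]; exact e0.symm
  · simp

end

end Cfsg.Agent.Lib.Helper8
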