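import Cfsg.Agent.Lib.Helper8.Ree8

set_option autoImplicit false
set_option linter.unusedSectionVars false
set_option linter.unusedVariables false

/-! The torus of the fixed points lies in the Ree group. -/

namespace Cfsg.Agent.Lib.Helper8

open Cfsg Cfsg.Lie

section
variable {K : Type*} [Field K]

theorem G2_orth_commute {r s : ℕ} (hr : r ∈ [8, 3]) (hs : s ∈ [10, 1]) (t u : K) :
    Commute (xG hG2 K r t) (xG hG2 K s u) := by
  have key : ∀ r ∈ [8, 3], ∀ s ∈ [10, 1], r < chevG2.nroots ∧ s < chevG2.nroots ∧ s ≠ r ∧ s ≠ chevG2.neg r ∧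
      chevG2.commTerms r s = [] := by decide
  obtain ⟨h1, h2, h3, h4, h5⟩ := key r hr s hs
  exact xG_commute_of_terms hG2 h1 h2 h3 h4 (by rw [h5]; simp) t u

theorem nG_orth_commute (t u : K) : Commute (nG hG2 K 8 t) (nG hG2 K 10 u) := by
  unfold nG
  have h3 : chevG2.neg 8 = 3 := by decide
  have h1 : chevG2.neg 10 = 1 := by decide
  rw [h3, h1]
  have hc : ∀ {r s : ℕ} (hr : r ∈ [8, 3]) (hs : s ∈ [10, 1]) (t u : K),
    Commute (xG hG2 K r t) (xG hG2 K s u) := fun hr hs t u => G2_orth_commute hr hs t u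
  have h : ∀ {r : ℕ} (hr : r ∈ [8, 3]) (a : K),
      Commute (xG hG2 K r a) (xG hG2 K 10 u * xG hG2 K 1 (-u⁻¹) * xG hG2 K 10 u) := fun hr a =>
    Commute.mul_right (Commute.mul_right (hc hr (by simp) _ _) (hc hr (by simp) _ _)) (hc hr (by simp) _ _)
  exact Commute.mul_left (Commute.mul_left (h (by simp) _) (h (by simp) _)) (h (by simp) _)

variable (φ : K →+* K)

theorem alphaR_0u0 (u : K) : alphaR φ 0 u 0 = xG hG2 K 8 (φ u) * xG hG2 K 10 u := by
  unfold alphaR P6 s4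
  simp [xG_zero]

theorem betaR_0u0 (u : K) : betaR φ 0 u 0 = xG hG2 K 3 (-φ u) * xG hG2 K 1 (-u) := by
  unfold betaR Q6 s4n
  simp [xG_zero]

/-- the representative of the non-trivial element of the Weyl group -/
def n1R (u : K) : GL chevG2.Idx K := nG hG2 K 8 (φ u) * nG hG2 K 10 u

theorem n1R_eq (u : K) : n1R φ u = alphaR φ 0 u 0 * betaR φ 0 u⁻¹ 0 * alphaR φ 0 u 0 := by
  rw [alphaR_0u0, betaR_0u0, n1R, map_inv₀]
  unfold nG
  have h3 : chevG2.neg 8 = 3 := by decide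
  have h1 : chevG2.neg 10 = 1 := by decide
  rw [h3, h1]
  have c1 : Commute (xG hG2 K 3 (-(φ u)⁻¹)) (xG hG2 K 10 u) := G2_orth_commute (by simp) (by simp) _ _
  have c2 : Commute (xG hG2 K 8 (φ u)) (xG hG2 K 10 u) := G2_orth_commute (by simp) (by simp) _ _
  have c3 : Commute (xG hG2 K 8 (φ u)) (xG hG2 K 1 (-u⁻¹)) := G2_orth_commute (by simp) (by simp) _ _
  generalize xG hG2 K 8 (φ u) = A at *
  generalize xG hG2 K 10 u = B at *
  generalize xG hG2 K 3 (-(φ u)⁻¹) = C at *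
  generalize xG hG2 K 1 (-u⁻¹) = E at *
  symm
  calc A * B * (C * E) * (A * B) = A * (B * C) * (E * A) * B := by group
    _ = A * (C * B) * (A * E) * B := by rw [c1.eq, c3.eq]
    _ = A * C * (B * A) * E * B := by group
    _ = A * C * (A * B) * E * B := by rw [c2.eq]
    _ = A * C * A * (B * E * B) := by group

theorem n1R_mem (u : K) : n1R φ u ∈ reeG φ := by
  rw [n1R_eq]
  exact mul_mem (mul_mem (alphaR_mem φ _ _ _) (betaR_mem φ _ _ _)) (alphaR_mem φ _ _ _)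

theorem h1R_mem (u : K) : hG hG2 K 8 (φ u) * hG hG2 K 10 u ∈ reeG φ := by
  have h := mul_mem (n1R_mem φ u) (n1R_mem φ (-1))
  have e : n1R φ u * n1R φ (-1) = hG hG2 K 8 (φ u) * hG hG2 K 10 u := by
    unfold n1R hG
    rw [map_neg, map_one]
    have c := nG_orth_commute (K := K) (-1) u
    generalize nG hG2 K 8 (φ u) = A at *
    generalize nG hG2 K 10 u = B at *
    generalize nG hG2 K 8 (-1) = C at *
    generalize nG hG2 K 10 (-1) = E at *
    calc A * B * (C * E) = A * (B * C) * E := by group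
      _ = A * (C * B) * E := by rw [c.eq]
      _ = A * C * (B * E) := by group
  rwa [e] at h

variable [CharP K 3] (hinj : Function.Injective (isoR1 hG2 isoOK_G2 (F := K))) (hφ : ∀ t, φ (φ t) ^ 3 = t)
include hinj hφ

theorem hR_pow_mem (u : Kˣ) : hR φ ((Units.map (φ : K →* K) u) ^ 3 * u) ∈ reeG φ := by
  have h1 := h1R_mem φ (u : K)
  have hu : (u : K) ≠ 0 := u.ne_zero
  have hu' : φ u ≠ 0 := by rwa [Ne, map_eq_zero]
  have h2 : hG hG2 K 8 (φ u) * hG hG2 K 10 u ∈ chevG2.diagonalSubgroup K :=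
    mul_mem (hG_mem_diag hG2 (by decide) hu') (hG_mem_diag hG2 (by decide) hu)
  obtain ⟨z, hz⟩ := fixed_diag hinj φ hφ ⟨h2, reeG_le_fixR φ hinj hφ h1⟩
  have e1 := conj_hR_x φ z (s := 11) (by decide) 1
  rw [← hz, chi_G2_11] at e1
  have e2 : hG hG2 K 8 (φ u) * hG hG2 K 10 u * xG hG2 K 11 1 * (hG hG2 K 8 (φ u) * hG hG2 K 10 u)⁻¹ =
      hG hG2 K 8 (φ u) * (hG hG2 K 10 u * xG hG2 K 11 1 * (hG hG2 K 10 u)⁻¹) * (hG hG2 K 8 (φ u))⁻¹ := by group
  rw [e2, conj_hG_x hG2 (by decide) (by decide) hu, conj_hG_x hG2 (by decide) (by decide) hu',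
    show AOf chevG2 8 11 = 3 by decide +kernel, show AOf chevG2 10 11 = 1 by decide +kernel] at e1
  have e3 := xG_inj hG2 (by decide) e1
  have e4 : z = (Units.map (φ : K →* K) u) ^ 3 * u := by
    apply Units.ext
    have : ((cR φ z 1 : Kˣ) : K) = z := rfl
    rw [this] at e3
    simp only [mul_one, zpow_one] at e3
    rw [← e3]
    simp only [Units.val_mul, Units.val_pow_eq_pow_val, Units.coe_map, MonoidHom.coe_coe]
    norm_cast
  rw [← e4, ← hz]
  exact h1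

theorem hR_sq_mem (y : Kˣ) : hR φ (y ^ 2) ∈ reeG φ := by
  have h := hR_pow_mem φ hinj hφ ((Units.map (φ : K →* K) y) ^ 3 * y⁻¹)
  have e : (Units.map (φ : K →* K) ((Units.map (φ : K →* K) y) ^ 3 * y⁻¹)) ^ 3 *
      ((Units.map (φ : K →* K) y) ^ 3 * y⁻¹) = y ^ 2 := by
    have h1 : (Units.map (φ : K →* K) (Units.map (φ : K →* K) y)) ^ 3 = y := by
      apply Units.ext
      simp only [Units.val_pow_eq_pow_val, Units.coe_map, MonoidHom.coe_coe]
      exact hφ y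
    rw [map_mul, map_pow, map_inv, mul_pow, ← pow_mul, mul_comm 3 3, pow_mul, h1]
    generalize (Units.map (φ : K →* K)) y = w
    rw [inv_pow]
    have : y ^ 3 * (w ^ 3)⁻¹ * (w ^ 3 * y⁻¹) = y ^ 3 * y⁻¹ := by group
    rw [this, pow_succ y 2, mul_assoc, mul_inv_cancel, mul_one]
  rwa [e] at h

theorem hR_neg_one_mem : hR φ (-1) ∈ reeG φ := by
  have h := reeKey φ
  have e : hG hG2 K 7 (-1) * hG hG2 K 6 (-1) = hR φ (-1) := by
    rw [hR_apply, tG_G2]
    simp [cR]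
  rw [e] at h
  have h2 : hR φ (-1) = (alphaR φ 0 1 1)⁻¹ * betaR φ 0 1 1 * (alphaR φ 1 1 (-1))⁻¹ *
      (nG hG2 K 8 1 * nG hG2 K 10 1)⁻¹ := by
    rw [h]; group
  rw [h2]
  have h3 : nG hG2 K 8 1 * nG hG2 K 10 1 = n1R φ 1 := by rw [n1R, map_one]
  rw [h3]
  exact mul_mem (mul_mem (mul_mem (inv_mem (alphaR_mem φ _ _ _)) (betaR_mem φ _ _ _))
    (inv_mem (alphaR_mem φ _ _ _))) (inv_mem (n1R_mem φ 1))

theorem hR_mem_reeG [Fintype K] (h4 : Fintype.card K % 4 = 3) (z : Kˣ) : hR φ z ∈ reeG φ := by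
  classical
  have hm1 : ¬ IsSquare (-1 : K) := by
    rw [FiniteField.isSquare_neg_one_iff]
    simp [h4]
  by_cases hz : IsSquare (z : K)
  · obtain ⟨y, hy⟩ := hz
    have hy0 : y ≠ 0 := by
      rintro rfl
      exact z.ne_zero (by rw [hy, mul_zero])
    have : z = (Units.mk0 y hy0) ^ 2 := Units.ext (by rw [hy]; simp [sq])
    rw [this]
    exact hR_sq_mem φ hinj hφ _
  · have h1 : quadraticChar K (-(z : K)) = 1 := by
      rw [← neg_one_mul, map_mul, quadraticChar_neg_one_iff_not_isSquare.mpr hm1,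
        quadraticChar_neg_one_iff_not_isSquare.mpr hz]
      norm_num
    obtain ⟨y, hy⟩ := (quadraticChar_one_iff_isSquare (neg_ne_zero.mpr z.ne_zero)).mp h1
    have hy0 : y ≠ 0 := by
      rintro rfl
      exact z.ne_zero (by rw [← neg_eq_zero, hy, mul_zero])
    have : z = -1 * (Units.mk0 y hy0) ^ 2 := Units.ext (by
      simp only [Units.val_mul, Units.val_neg, Units.val_one, Units.val_pow_eq_pow_val, Units.val_mk0]
      rw [sq, ← hy]; ring)
    rw [this, map_mul]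
    exact mul_mem (hR_neg_one_mem φ hinj hφ) (hR_sq_mem φ hinj hφ _)

theorem diag_inf_reeG [Fintype K] (h4 : Fintype.card K % 4 = 3) :
    chevG2.diagonalSubgroup K ⊓ reeG φ = (hR φ).range := by
  apply le_antisymm
  · rintro h ⟨h1, h2⟩
    obtain ⟨z, rfl⟩ := fixed_diag hinj φ hφ ⟨h1, reeG_le_fixR φ hinj hφ h2⟩
    exact ⟨z, rfl⟩
  · rintro _ ⟨z, rfl⟩
    exact ⟨hR_mem_diag φ z, hR_mem_reeG φ hinj hφ h4 z⟩

end

end Cfsg.Agent.Lib.Helper8
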