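import Cfsg.Agent.Lib.Helper8.Centr

set_option autoImplicit false
set_option linter.unusedSectionVars false

namespace Cfsg.Agent.Lib.Helper8

open Cfsg Cfsg.Lie

section
variable {D : ChevalleyDatum} (hD : D ∈ allData) {F : Type*} [Field F]
include hD

/-- root elements commute when all the constants of the commutator formula vanish in the field -/
theorem commute_of_terms {r s : ℕ} (hr : r < D.nroots) (hs : s < D.nroots) (hrs : s ≠ r)
    (hneg : s ≠ D.neg r) (h : ∀ c ∈ D.commTerms r s, ((c.2.1 : ℤ) : F) = 0) (t u : F) :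
    xG hD F r t * xG hD F s u = xG hD F s u * xG hD F r t := by
  have h1 := conj_x_x hD hr hs hrs hneg t u
  have h2 : wG hD (D.commWord F r s (-t) u) ∈ (⊥ : Subgroup (GL D.Idx F)) := by
    apply wG_mem
    intro p hp
    simp only [ChevalleyDatum.commWord, List.mem_map] at hp
    obtain ⟨c, hc, rfl⟩ := hp
    rw [Subgroup.mem_bot]
    simp only [h c hc, zero_mul]
    exact xG_zero hD _
  rw [Subgroup.mem_bot] at h2
  rw [h2, mul_one] at h1
  conv_rhs => rw [← h1]
  group

theorem xG_comm_self (r : ℕ) (t u : F) : xG hD F r t * xG hD F r u = xG hD F r u * xG hD F r t := by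
  rw [xG_mul, xG_mul, add_comm]

/-- root elements do not commute when the commutator formula has a single unit term -/
theorem not_commute_of_terms {r s k : ℕ} {ε : ℤ} (hr : r < D.nroots) (hs : s < D.nroots) (hrs : s ≠ r)
    (hneg : s ≠ D.neg r) (hk : k < D.nroots) (h : D.commTerms r s = [(k, ε, 1, 1)]) (hε : (ε : F) ≠ 0) :
    xG hD F r 1 * xG hD F s 1 ≠ xG hD F s 1 * xG hD F r 1 := by
  intro e
  have h1 := conj_x_x (F := F) hD hr hs hrs hneg 1 1
  rw [e, mul_inv_cancel_right] at h1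
  have h2 : wG hD (D.commWord F r s (-1) 1) = 1 := by
    have := congrArg (fun z => (xG hD F s 1)⁻¹ * z) h1
    simpa using this.symm
  rw [ChevalleyDatum.commWord, h] at h2
  simp only [List.map_cons, List.map_nil, wG, List.prod_cons, List.prod_nil, mul_one, neg_neg, one_pow] at h2
  rw [xG_eq_one_iff hD hk] at h2
  exact hε h2

theorem hG_one {r : ℕ} (hr : r < D.nroots) : hG hD F r 1 = 1 := by
  have := hG_mul (F := F) hD hr one_ne_zero one_ne_zero
  rw [mul_one] at this
  exact mul_eq_left.mp this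

theorem nG_mem_of {K : Subgroup (GL D.Idx F)} {r : ℕ} (h1 : ∀ a : F, xG hD F r a ∈ K)
    (h2 : ∀ a : F, xG hD F (D.neg r) a ∈ K) (t : F) : nG hD F r t ∈ K := by
  unfold nG
  exact Subgroup.mul_mem _ (Subgroup.mul_mem _ (h1 _) (h2 _)) (h1 _)

theorem hG_mem_of {K : Subgroup (GL D.Idx F)} {r : ℕ} (h1 : ∀ a : F, xG hD F r a ∈ K)
    (h2 : ∀ a : F, xG hD F (D.neg r) a ∈ K) (t : F) : hG hD F r t ∈ K := by
  unfold hG
  exact Subgroup.mul_mem _ (nG_mem_of hD h1 h2 _) (nG_mem_of hD h1 h2 _)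

theorem posU_le_of {K : Subgroup (GL D.Idx F)} (h : ∀ s, D.IsPosRoot s → ∀ a : F, xG hD F s a ∈ K) :
    D.posUnipotent F ≤ K := by
  rw [ChevalleyDatum.posUnipotent, Subgroup.closure_le]
  rintro g ⟨r, t, hr, hg⟩
  rw [eq_xG hD hg]
  exact h r hr t

theorem wR_neg_simple (L : List ℕ) {p : ℕ} (hp : p < D.rank) :
    wR D (p :: L) (D.neg (D.simple p)) = wR D L (D.simple p) := by
  show wR D L (D.reflectRoot p (D.neg (D.simple p))) = _
  rw [reflect_neg hD hp (simple_lt hD hp), reflect_simple, neg_neg' hD (simple_lt hD hp)]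

end

/-- the centraliser of all the elements of a root subgroup -/
def cenX {D : ChevalleyDatum} (hD : D ∈ allData) (F : Type*) [Field F] (θ : ℕ) : Subgroup (GL D.Idx F) :=
  Subgroup.centralizer (Set.range (xG hD F θ))

section
variable {D : ChevalleyDatum} (hD : D ∈ allData) {F : Type*} [Field F]
include hD

theorem mem_cenX {θ : ℕ} {g : GL D.Idx F} : g ∈ cenX hD F θ ↔ ∀ b : F, g * xG hD F θ b = xG hD F θ b * g := by
  unfold cenX
  rw [Subgroup.mem_centralizer_iff]
  constructor
  · intro h b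
    exact (h _ ⟨b, rfl⟩).symm
  · rintro h _ ⟨b, rfl⟩
    exact (h b).symm

variable {θ i0 : ℕ} (hθ : θ < D.nroots)
  (hU : ∀ s, D.IsPosRoot s → ∀ a : F, xG hD F s a ∈ cenX hD F θ)
  (hJ : ∀ i < D.rank, i ≠ i0 → ∀ a : F, xG hD F (D.neg (D.simple i)) a ∈ cenX hD F θ)
  (hn : xG hD F (D.neg (D.simple i0)) 1 * xG hD F θ 1 ≠ xG hD F θ 1 * xG hD F (D.neg (D.simple i0)) 1)
include hθ hU hJ hn

theorem nS_mem_cenX {i : ℕ} (hi : i < D.rank) (hne : i ≠ i0) : nS hD F i ∈ cenX hD F θ :=
  nG_mem_of hD (hU _ (simple_pos hD hi)) (hJ i hi hne) 1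

theorem reflect_eq_of_ne {i : ℕ} (hi : i < D.rank) (hne : i ≠ i0) : D.reflectRoot i θ = θ := by
  obtain ⟨κ, hκ⟩ := (act_nS (F := F) hD hi).conj θ hθ
  have h1 := hκ 1
  rw [(mem_cenX hD).mp (nS_mem_cenX hD hθ hU hJ hn hi hne) 1, mul_inv_cancel_right] at h1
  exact (xG_root_inj hD hθ (reflect_lt hD hi hθ) one_ne_zero h1).symm

/-- a reduced word fixing `θ` only involves the reflections fixing `θ` -/
theorem letters_of_fix : ∀ L : List ℕ, Red D L → wR D L θ = θ → ∀ i ∈ L, i ≠ i0
  | [], _, _ => by simp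
  | p :: L, hL, hfix => by
    obtain ⟨hp, hpos, hred⟩ := hL
    have hp0 : p ≠ i0 := by
      rintro rfl
      apply hn
      have hlt : ∀ i ∈ p :: L, i < D.rank := by
        intro i hi
        rcases List.mem_cons.mp hi with rfl | hi
        · exact hp
        · exact hred.lt i hi
      have hact := act_nR (F := F) hD (p :: L) hlt
      obtain ⟨κ₁, h₁⟩ := hact.conj _ (neg_lt' hD _ (simple_lt hD hp))
      obtain ⟨κ₂, h₂⟩ := hact.conj θ hθ
      rw [wR_neg_simple hD L hp] at h₁
      rw [hfix] at h₂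
      have h3 := (mem_cenX hD).mp (hU _ hpos ((κ₁ : F) * 1)) ((κ₂ : F) * 1)
      rw [← h₁, ← h₂] at h3
      have h4 := congrArg (fun z => (nR hD F (p :: L))⁻¹ * z * nR hD F (p :: L)) h3
      have e1 : ∀ a b : GL D.Idx F, (nR hD F (p :: L))⁻¹ * (nR hD F (p :: L) * a * (nR hD F (p :: L))⁻¹ *
          (nR hD F (p :: L) * b * (nR hD F (p :: L))⁻¹)) * nR hD F (p :: L) = a * b := by
        intro a b; group
      rwa [e1, e1] at h4
    have hfix' : wR D L θ = θ := by
      have : wR D (p :: L) θ = wR D L (D.reflectRoot p θ) := rfl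
      rwa [this, reflect_eq_of_ne hD hθ hU hJ hn hp hp0] at hfix
    intro i hi
    rcases List.mem_cons.mp hi with rfl | hi
    · exact hp0
    · exact letters_of_fix L hred hfix' i hi

theorem centralizer_root (hi0 : i0 < D.rank) (hc : D.cartan i0 θ = 1) (Js : List ℕ)
    (hJs : ∀ s ∈ Js, ∀ a : F, xG hD F s a ∈ cenX hD F θ)
    (hJmem : ∀ i < D.rank, i ≠ i0 → D.neg (D.simple i) ∈ Js) :
    D.group F ⊓ Subgroup.centralizer {xG hD F θ 1} =
      D.posUnipotent F ⊔ Subgroup.closure {g : GL D.Idx F | ∃ s ∈ Js, ∃ c : F, g = xG hD F s c} := by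
  have hcen : cenX hD F θ ≤ Subgroup.centralizer {xG hD F θ 1} := by
    apply Subgroup.centralizer_le
    rintro _ rfl
    exact ⟨1, rfl⟩
  apply le_antisymm
  · rintro g ⟨hg, hgc⟩
    replace hg : g ∈ D.group F := hg
    replace hgc : g ∈ Subgroup.centralizer {xG hD F θ 1} := hgc
    set P := D.posUnipotent F ⊔ Subgroup.closure {g : GL D.Idx F | ∃ s ∈ Js, ∃ c : F, g = xG hD F s c} with hP
    have hUP : D.posUnipotent F ≤ P := le_sup_left
    have hUC : D.posUnipotent F ≤ cenX hD F θ := posU_le_of hD hU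
    have hxp : ∀ i < D.rank, ∀ a : F, xG hD F (D.simple i) a ∈ P ⊓ cenX hD F θ := fun i hi a =>
      ⟨hUP (xG_mem_posU hD (simple_pos hD hi) a), hU _ (simple_pos hD hi) a⟩
    have hxn : ∀ i < D.rank, i ≠ i0 → ∀ a : F, xG hD F (D.neg (D.simple i)) a ∈ P ⊓ cenX hD F θ :=
      fun i hi hne a => ⟨(le_sup_right : _ ≤ P) (Subgroup.subset_closure ⟨_, hJmem i hi hne, a, rfl⟩),
        hJ i hi hne a⟩
    obtain ⟨b, hb, L, hL, u, hu, e⟩ := normal_form_exists hD hg
    obtain ⟨u1, hu1, h, hh, rfl⟩ := mem_borel hD hb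
    rw [diag_eq_torus hD, mem_torus] at hh
    obtain ⟨c, rfl⟩ := hh
    have huU := Uw_le_posU _ hu
    have hgt : g * xG hD F θ 1 * g⁻¹ = xG hD F θ 1 := by
      rw [Subgroup.mem_centralizer_singleton_iff] at hgc
      rw [hgc]; group
    have hact := act_nR (F := F) hD L hL.lt
    obtain ⟨κ, hκ⟩ := hact.conj θ hθ
    -- the Weyl group element fixes `θ`
    have hfix : wR D L θ = θ := by
      have h1 : u * xG hD F θ 1 * u⁻¹ = xG hD F θ 1 := by
        rw [(mem_cenX hD).mp (hUC huU) 1]; group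
      have h2 : u1⁻¹ * xG hD F θ 1 * u1 = xG hD F θ 1 := by
        have := (mem_cenX hD).mp (hUC hu1) 1
        rw [mul_assoc, ← this]; group
      have h3 : tG D c * (nR hD F L * (u * xG hD F θ 1 * u⁻¹) * (nR hD F L)⁻¹) * (tG D c)⁻¹ =
          u1⁻¹ * (g * xG hD F θ 1 * g⁻¹) * u1 := by
        rw [e]; group
      rw [h1, hgt, h2, hκ, conj_tG_x hD c (hact.lt θ hθ)] at h3
      exact (xG_root_inj hD hθ (hact.lt θ hθ) one_ne_zero h3.symm).symm
    have hlet := letters_of_fix hD hθ hU hJ hn L hL hfix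
    have hnK : ∀ M : List ℕ, (∀ i ∈ M, i < D.rank ∧ i ≠ i0) → nR hD F M ∈ P ⊓ cenX hD F θ := by
      intro M
      induction M with
      | nil => intro _; exact Subgroup.one_mem _
      | cons i M ih =>
        intro hM
        obtain ⟨hi, hne⟩ := hM i List.mem_cons_self
        exact Subgroup.mul_mem _ (ih (fun j hj => hM j (List.mem_cons_of_mem _ hj)))
          (nG_mem_of hD (hxp i hi) (hxn i hi hne) 1)
    have hn' := hnK L (fun i hi => ⟨hL.lt i hi, hlet i hi⟩)
    -- the diagonal part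
    have hhc : tG D c ∈ Subgroup.centralizer {xG hD F θ 1} := by
      have : tG D c = u1⁻¹ * g * u⁻¹ * (nR hD F L)⁻¹ := by rw [e]; group
      rw [this]
      exact Subgroup.mul_mem _ (Subgroup.mul_mem _ (Subgroup.mul_mem _
        (Subgroup.inv_mem _ (hcen (hUC hu1))) hgc) (Subgroup.inv_mem _ (hcen (hUC huU))))
        (Subgroup.inv_mem _ (hcen hn'.2))
    have hchi : chi D c θ = 1 := by
      have h1 := conj_tG_x (F := F) hD c hθ 1
      rw [Subgroup.mem_centralizer_singleton_iff] at hhc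
      rw [hhc, mul_inv_cancel_right] at h1
      have h2 := xG_inj hD hθ h1
      rw [mul_one] at h2
      exact Units.ext h2.symm
    have hc'K : tG D (Function.update c i0 1) ∈ P ⊓ cenX hD F θ := by
      rw [tG_eq_prod hD]
      apply Subgroup.list_prod_mem
      intro x hx
      simp only [List.mem_map, List.mem_range] at hx
      obtain ⟨i, hi, rfl⟩ := hx
      by_cases hne : i = i0
      · subst hne
        rw [Function.update_self, Units.val_one, hG_one hD (simple_lt hD hi)]
        exact Subgroup.one_mem _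
      · exact hG_mem_of hD (hxp i hi) (hxn i hi hne) _
    have hchi' : chi D (Function.update c i0 1) θ = 1 := by
      have h1 := conj_tG_x (F := F) hD (Function.update c i0 1) hθ 1
      rw [(mem_cenX hD).mp hc'K.2 1, mul_inv_cancel_right] at h1
      have h2 := xG_inj hD hθ h1
      rw [mul_one] at h2
      exact Units.ext h2.symm
    have hsplit : c = Function.update c i0 1 * Function.update (1 : ℕ → Fˣ) i0 (c i0) := by
      funext i
      by_cases hne : i = i0
      · subst hne; simp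
      · simp [Function.update_of_ne hne]
    have hci0 : c i0 = 1 := by
      rw [hsplit, chi_mul, hchi', chi_update D hi0, hc, one_mul, zpow_one] at hchi
      exact hchi
    have hceq : Function.update c i0 1 = c := by
      rw [← hci0]; exact Function.update_eq_self i0 c
    rw [hceq] at hc'K
    rw [e]
    exact Subgroup.mul_mem _ (Subgroup.mul_mem _ (Subgroup.mul_mem _ (hUP hu1) hc'K.1) hn'.1) (hUP huU)
  · apply sup_le
    · exact le_inf (posU_le_group hD) (le_trans (posU_le_of hD hU) hcen)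
    · rw [Subgroup.closure_le]
      rintro g ⟨s, hs, c, rfl⟩
      exact ⟨xG_mem_group hD s c, hcen (hJs s hs c)⟩

end

end Cfsg.Agent.Lib.Helper8
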