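import Cfsg.Agent.Lib.Helper8.FactR1
import Cfsg.Agent.Lib.Helper8.IdTri
import Cfsg.Agent.Lib.Helper8.NTabs

set_option autoImplicit false

namespace Cfsg.Agent.Lib.Helper8

open Cfsg Cfsg.Lie

section
variable {D : ChevalleyDatum} (hD : D ∈ allData) {F : Type*} [Field F]
include hD

theorem xG_mem_lev_pos {r : ℕ} (hr : D.IsPosRoot r) (t : F) : xG hD F r t ∈ lev (posI D) 1 := by
  rw [isPos_iff hD] at hr
  refine ⟨x_fil_pos hD hr.2 hr.1 t, ?_⟩
  rw [xG_inv]
  exact x_fil_pos hD hr.2 hr.1 (-t)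

theorem xG_mem_lev_neg {r : ℕ} (hr : D.IsNegRoot r) (t : F) : xG hD F r t ∈ lev (posI' D) 1 := by
  rw [isNeg_iff hD] at hr
  refine ⟨x_fil_neg hD hr t, ?_⟩
  rw [xG_inv]
  exact x_fil_neg hD hr (-t)

theorem posU_le_lev : D.posUnipotent F ≤ lev (posI D) 1 := by
  rw [ChevalleyDatum.posUnipotent, Subgroup.closure_le]
  rintro g ⟨r, t, hr, hg⟩
  rw [eq_xG hD hg]
  exact xG_mem_lev_pos hD hr t

theorem negU_le_lev : D.negUnipotent F ≤ lev (posI' D) 1 := by
  rw [ChevalleyDatum.negUnipotent, Subgroup.closure_le]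
  rintro g ⟨r, t, hr, hg⟩
  rw [eq_xG hD hg]
  exact xG_mem_lev_neg hD hr t

theorem rank_pos : 1 ≤ D.rank :=
  all_of (P := fun D => 1 ≤ D.rank) (by decide) (by decide) (by decide) (by decide) (by decide) (by decide)
    (by decide) D hD

theorem posU_sub_one_pow {g : GL D.Idx F} (hg : g ∈ D.posUnipotent F) :
    ((g : Matrix D.Idx D.Idx F) - 1) ^ (D.rank + D.nroots) = 0 :=
  sub_one_pow_eq_zero (posI_lt D) (posU_le_lev hD hg) (by have := rank_pos hD; omega)

theorem posU_nilpotent : Group.IsNilpotent (D.posUnipotent F) :=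
  isNilpotent_of_le_lev (posI_lt D) _ (posU_le_lev hD)

end

end Cfsg.Agent.Lib.Helper8
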