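import Cfsg.Agent.Lib.Helper8.NGroup
import Cfsg.Agent.Lib.Helper8.Struct1

set_option autoImplicit false

namespace Cfsg.Agent.Lib.Helper8

open Cfsg Cfsg.Lie

/-- elements of `U ⊔ H` when `H` normalises `U` -/
theorem mem_sup_of_normalizes {G : Type*} [Group G] {U H : Subgroup G}
    (hn : H ≤ Subgroup.normalizer (U : Set G)) {g : G} (hg : g ∈ U ⊔ H) :
    ∃ u ∈ U, ∃ h ∈ H, g = u * h := by
  rw [Subgroup.le_normalizer_iff] at hn
  rw [Subgroup.sup_eq_closure] at hg
  induction hg using Subgroup.closure_induction with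
  | mem x hx =>
    rcases hx with hx | hx
    · exact ⟨x, hx, 1, H.one_mem, (mul_one x).symm⟩
    · exact ⟨1, U.one_mem, x, hx, (one_mul x).symm⟩
  | one => exact ⟨1, U.one_mem, 1, H.one_mem, (mul_one 1).symm⟩
  | mul x y _ _ hx hy =>
    obtain ⟨u1, hu1, h1, hh1, rfl⟩ := hx
    obtain ⟨u2, hu2, h2, hh2, rfl⟩ := hy
    refine ⟨u1 * (h1 * u2 * h1⁻¹), U.mul_mem hu1 (hn h1 hh1 u2 hu2), h1 * h2, H.mul_mem hh1 hh2, ?_⟩
    group
  | inv x _ hx =>
    obtain ⟨u1, hu1, h1, hh1, rfl⟩ := hx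
    refine ⟨h1⁻¹ * u1⁻¹ * h1⁻¹⁻¹, hn h1⁻¹ (H.inv_mem hh1) u1⁻¹ (U.inv_mem hu1), h1⁻¹, H.inv_mem hh1, ?_⟩
    group

section
variable {D : ChevalleyDatum} (hD : D ∈ allData) {F : Type*} [Field F]
include hD

theorem wordMat_flatMap {α : Type*} (L : List α) (f : α → List (ℕ × F)) :
    D.wordMat F (L.flatMap f) = (L.map (fun a => D.wordMat F (f a))).prod := by
  induction L with
  | nil => rfl
  | cons a L ih => rw [List.flatMap_cons, wordMat_append, ih, List.map_cons, List.prod_cons]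

/-- every element of `H` is a product of `h_{p_i}(c_i)` -/
theorem diag_eq_prod_simple {g : GL D.Idx F} (hg : g ∈ D.diagonalSubgroup F) :
    ∃ c : ℕ → F, (∀ i < D.rank, c i ≠ 0) ∧
      (g : Matrix D.Idx D.Idx F) =
        D.wordMat F ((List.range D.rank).flatMap fun i => D.hWord (D.simple i) (c i)) := by
  rw [diag_eq_torus hD] at hg
  obtain ⟨c, rfl⟩ := hg
  refine ⟨fun i => (c i : F), fun i _ => (c i).ne_zero, ?_⟩
  rw [tG_coe, tMat_eq_prod hD, wordMat_flatMap hD]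
  rfl

theorem xG_mem_posU {r : ℕ} (hr : D.IsPosRoot r) (t : F) : xG hD F r t ∈ D.posUnipotent F :=
  Subgroup.subset_closure ⟨r, t, hr, rfl⟩

theorem xG_mem_negU {r : ℕ} (hr : D.IsNegRoot r) (t : F) : xG hD F r t ∈ D.negUnipotent F :=
  Subgroup.subset_closure ⟨r, t, hr, rfl⟩

theorem conj_tG_x (c : ℕ → Fˣ) {s : ℕ} (hs : s < D.nroots) (t : F) :
    tG D c * xG hD F s t * (tG D c)⁻¹ = xG hD F s ((chi D c s : Fˣ) * t) := by
  rw [mul_inv_eq_iff_eq_mul]
  exact tG_x hD c hs t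

theorem diag_le_normalizer_posU :
    D.diagonalSubgroup F ≤ Subgroup.normalizer (D.posUnipotent F : Set (GL D.Idx F)) := by
  rw [diag_eq_torus hD, ChevalleyDatum.posUnipotent, Subgroup.le_normalizer_closure_iff]
  rintro _ ⟨c, rfl⟩ g ⟨r, t, hr, hg⟩
  rw [eq_xG hD hg, conj_tG_x hD c hr.1]
  exact xG_mem_posU hD hr _

theorem diag_le_normalizer_negU :
    D.diagonalSubgroup F ≤ Subgroup.normalizer (D.negUnipotent F : Set (GL D.Idx F)) := by
  rw [diag_eq_torus hD, ChevalleyDatum.negUnipotent, Subgroup.le_normalizer_closure_iff]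
  rintro _ ⟨c, rfl⟩ g ⟨r, t, hr, hg⟩
  rw [eq_xG hD hg, conj_tG_x hD c hr.1]
  exact xG_mem_negU hD hr _

theorem posU_inf_diag : D.posUnipotent F ⊓ D.diagonalSubgroup F = ⊥ := by
  rw [eq_bot_iff]
  rintro g ⟨h1, h2⟩
  rw [SetLike.mem_coe, diag_eq_torus hD] at h2
  obtain ⟨c, rfl⟩ := h2
  rw [Subgroup.mem_bot]
  exact eq_one_of_lev_of_diag (posU_le_lev hD h1) rfl

omit hD in
theorem tG_mem_triGL (pos : D.Idx → ℕ) (c : ℕ → Fˣ) : tG D c ∈ triGL pos :=
  ⟨TriD.diagonal _, TriD.diagonal _⟩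

theorem diag_le_triGL (pos : D.Idx → ℕ) : D.diagonalSubgroup F ≤ triGL pos := by
  rw [diag_eq_torus hD]
  rintro _ ⟨c, rfl⟩
  exact tG_mem_triGL pos c

theorem borel_le_triGL : D.borelSubgroup F ≤ triGL (posI D) :=
  sup_le ((posU_le_lev hD).trans lev_le_triGL) (diag_le_triGL hD _)

theorem borel_solvable : Group.IsSolvable ↥(D.borelSubgroup F) :=
  isSolvable_of_le_triGL (posI_lt D) _ (borel_le_triGL hD)

theorem borel_inf_negU : D.borelSubgroup F ⊓ D.negUnipotent F = ⊥ := by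
  rw [eq_bot_iff]
  rintro g ⟨h1, h2⟩
  rw [Subgroup.mem_bot]
  exact eq_one_of_triGL_of_lev (posI_rev D) (borel_le_triGL hD h1) (negU_le_lev hD h2)

theorem mem_borel {g : GL D.Idx F} (hg : g ∈ D.borelSubgroup F) :
    ∃ u ∈ D.posUnipotent F, ∃ h ∈ D.diagonalSubgroup F, g = u * h :=
  mem_sup_of_normalizes (diag_le_normalizer_posU hD) hg

theorem borel_inf_negBorel :
    D.borelSubgroup F ⊓ (D.negUnipotent F ⊔ D.diagonalSubgroup F) = D.diagonalSubgroup F := by
  apply le_antisymm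
  · rintro g ⟨h1, h2⟩
    obtain ⟨u, hu, h, hh, rfl⟩ := mem_borel hD h1
    have h3 : u * h ∈ triGL (posI' D) :=
      (sup_le ((negU_le_lev hD).trans lev_le_triGL) (diag_le_triGL hD _)) h2
    have h4 : u ∈ triGL (posI' D) := by
      have := (triGL (posI' D)).mul_mem h3 ((triGL (posI' D)).inv_mem (diag_le_triGL hD _ hh))
      rwa [mul_inv_cancel_right] at this
    have h5 : u = 1 := eq_one_of_triGL_of_lev (pos := posI' D) (pos' := posI D)
      (fun i j => (posI_rev D j i).symm) h4 (posU_le_lev hD hu)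
    rw [h5, one_mul]
    exact hh
  · exact le_inf le_sup_right le_sup_right

/-! ### `B`, `N` and the whole group -/

theorem xG_mem_group (r : ℕ) (t : F) : xG hD F r t ∈ D.group F := by
  by_cases hr : r < D.nroots
  · apply Subgroup.subset_closure
    exact ⟨⟨r, hr⟩, t, by rw [xG_coe, ChevalleyDatum.x, dif_pos hr]⟩
  · have : xG hD F r t = 1 := Units.ext (by rw [xG_coe, ChevalleyDatum.x, dif_neg hr]; rfl)
    rw [this]
    exact Subgroup.one_mem _

theorem nG_mem_group (r : ℕ) (t : F) : nG hD F r t ∈ D.group F :=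
  Subgroup.mul_mem _ (Subgroup.mul_mem _ (xG_mem_group hD _ _) (xG_mem_group hD _ _)) (xG_mem_group hD _ _)

theorem hG_mem_group (r : ℕ) (t : F) : hG hD F r t ∈ D.group F :=
  Subgroup.mul_mem _ (nG_mem_group hD _ _) (nG_mem_group hD _ _)

theorem posU_le_group : D.posUnipotent F ≤ D.group F := by
  rw [ChevalleyDatum.posUnipotent, Subgroup.closure_le]
  rintro g ⟨r, t, _, hg⟩
  rw [eq_xG hD hg]
  exact xG_mem_group hD r t

theorem diag_le_group : D.diagonalSubgroup F ≤ D.group F := by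
  rw [ChevalleyDatum.diagonalSubgroup, Subgroup.closure_le]
  rintro g ⟨r, t, _, _, hg⟩
  rw [eq_hG hD hg]
  exact hG_mem_group hD r t

theorem borel_le_group : D.borelSubgroup F ≤ D.group F :=
  sup_le (posU_le_group hD) (diag_le_group hD)

theorem mono_le_group : D.monomialSubgroup F ≤ D.group F := by
  apply sup_le (diag_le_group hD)
  rw [Subgroup.closure_le]
  rintro g ⟨r, _, hg⟩
  rw [eq_nG hD hg]
  exact nG_mem_group hD r 1

theorem nG_mem_mono {r : ℕ} (hr : r < D.nroots) : nG hD F r 1 ∈ D.monomialSubgroup F :=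
  (le_sup_right : _ ≤ D.monomialSubgroup F) (Subgroup.subset_closure ⟨r, hr, nG_coe hD r 1⟩)

theorem nS_mem_mono {i : ℕ} (hi : i < D.rank) : nS hD F i ∈ D.monomialSubgroup F :=
  nG_mem_mono hD (simple_lt hD hi)

theorem diag_le_mono : D.diagonalSubgroup F ≤ D.monomialSubgroup F := le_sup_left

/-- transport of a property of root subgroups along the Weyl group -/
theorem xG_mem_of_simple {K : Subgroup (GL D.Idx F)} (hn : ∀ i < D.rank, nS hD F i ∈ K)
    (hs : ∀ i < D.rank, ∀ t : F, xG hD F (D.simple i) t ∈ K) {r : ℕ} (hr : r < D.nroots) :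
    ∀ t : F, xG hD F r t ∈ K := by
  refine root_induction hD (P := fun r => ∀ t : F, xG hD F r t ∈ K) hs ?_ r hr
  intro i hi r hr ih t
  have h1 := conj_nS_x hD hi (reflect_lt hD hi hr) ((etaOf D i (D.reflectRoot i r) : F) * t)
  rw [reflect_reflect hD hi hr, ← mul_assoc, etaF_sq, one_mul, MulAut.conj_apply] at h1
  rw [← h1]
  exact K.mul_mem (K.mul_mem (hn i hi) (ih _)) (K.inv_mem (hn i hi))

theorem borel_sup_mono : D.borelSubgroup F ⊔ D.monomialSubgroup F = D.group F := by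
  apply le_antisymm (sup_le (borel_le_group hD) (mono_le_group hD))
  rw [ChevalleyDatum.group, Subgroup.closure_le]
  rintro g ⟨r, t, hg⟩
  have hg' : (g : Matrix D.Idx D.Idx F) = D.x F r.val t := by
    rw [hg, ChevalleyDatum.x, dif_pos r.2]
  rw [eq_xG hD hg']
  refine xG_mem_of_simple hD (fun i hi => ?_) (fun i hi t => ?_) r.2 t
  · exact (le_sup_right : _ ≤ D.borelSubgroup F ⊔ D.monomialSubgroup F) (nS_mem_mono hD hi)
  · exact (le_sup_left : _ ≤ D.borelSubgroup F ⊔ D.monomialSubgroup F)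
      ((le_sup_left : _ ≤ D.borelSubgroup F) (xG_mem_posU hD (simple_pos hD hi) t))

end

end Cfsg.Agent.Lib.Helper8
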