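import Cfsg.Agent.Lib.Helper8.ChevBasic
import Cfsg.Agent.Lib.Helper8.TabG2
import Cfsg.Agent.Lib.Helper8.TabB2
import Cfsg.Agent.Lib.Helper8.TabD4
import Cfsg.Agent.Lib.Helper8.TabF4
import Cfsg.Agent.Lib.Helper8.TabE6
import Cfsg.Agent.Lib.Helper8.TabE7
import Cfsg.Agent.Lib.Helper8.TabE8

set_option autoImplicit false

namespace Cfsg.Agent.Lib.Helper8

open Cfsg Cfsg.Lie

/-- the packed table of a datum, selected by the number of roots -/
noncomputable def treeOf (D : ChevalleyDatum) : RTree :=
  if D.nroots = 12 then treeG2 else if D.nroots = 8 then treeB2 else if D.nroots = 24 then treeD4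
  else if D.nroots = 48 then treeF4 else if D.nroots = 72 then treeE6
  else if D.nroots = 126 then treeE7 else treeE8

def hOf (D : ChevalleyDatum) : ℕ :=
  if D.nroots = 12 then 8 else if D.nroots = 8 then 4 else if D.nroots = 24 then 16
  else if D.nroots = 48 then 32 else if D.nroots = 72 then 64
  else if D.nroots = 126 then 64 else 128

noncomputable def getOf (D : ChevalleyDatum) : ℕ → RootRec := fun r => (treeOf D).get r (hOf D)

theorem getOf_G2 : getOf chevG2 = fun r => treeG2.get r 8 := rfl
theorem getOf_B2 : getOf chevB2 = fun r => treeB2.get r 4 := rfl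
theorem getOf_D4 : getOf chevD4 = fun r => treeD4.get r 16 := rfl
theorem getOf_F4 : getOf chevF4 = fun r => treeF4.get r 32 := rfl
theorem getOf_E6 : getOf chevE6 = fun r => treeE6.get r 64 := rfl
theorem getOf_E7 : getOf chevE7 = fun r => treeE7.get r 64 := rfl
theorem getOf_E8 : getOf chevE8 = fun r => treeE8.get r 128 := rfl

theorem all_of {P : ChevalleyDatum → Prop} (h1 : P chevG2) (h2 : P chevB2) (h3 : P chevD4) (h4 : P chevF4)
    (h5 : P chevE6) (h6 : P chevE7) (h7 : P chevE8) : ∀ D ∈ allData, P D := by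
  intro D hD
  simp only [allData, List.mem_cons, List.mem_nil_iff, or_false] at hD
  rcases hD with rfl | rfl | rfl | rfl | rfl | rfl | rfl <;> assumption

theorem treeOf_ok {D : ChevalleyDatum} (hD : D ∈ allData) : fastOK D (treeOf D) (hOf D) = true :=
  all_of (P := fun D => fastOK D (treeOf D) (hOf D) = true) treeG2_ok treeB2_ok treeD4_ok treeF4_ok treeE6_ok
    treeE7_ok treeE8_ok D hD

theorem neg_lt' {D : ChevalleyDatum} (hD : D ∈ allData) : ∀ r < D.nroots, D.neg r < D.nroots :=
  fun _ hr => neg_lt hD hr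

end Cfsg.Agent.Lib.Helper8
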