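import Cfsg.Agent.Lib.Helper8.ChevBasic

set_option autoImplicit false

namespace Cfsg.Agent.Lib.Helper8

open Cfsg Cfsg.Lie

def topWitG2 : List (List ℕ) := [[], [0, 1], [0, 1, 0], [1, 0], [0], [1]]

def topWitD4 : List (List ℕ) := [[], [0, 2, 1, 3], [0, 1, 2], [0, 1, 3], [0, 1], [0], [2, 1, 3], [1, 2], [1, 3], [1], [2], [3]]

def topWitE6 : List (List ℕ) := [[], [3, 2, 0, 4, 3, 1, 2, 3, 4, 5], [2, 0, 4, 3, 1, 2, 3, 4, 5], [2, 0, 3, 1, 2, 3, 4, 5], [2, 0, 3, 1, 2, 3, 4], [0, 4, 3, 1, 2, 3, 4, 5], [0, 3, 1, 2, 3, 4, 5], [0, 3, 1, 2, 3, 4], [0, 1, 2, 3, 4, 5], [0, 1, 2, 3, 4], [0, 1, 2, 3], [0, 2, 3, 4, 5], [0, 2, 3, 4], [0, 2, 3], [0, 2], [0], [4, 3, 1, 2, 3, 4, 5], [3,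 1, 2, 3, 4, 5], [3, 1, 2, 3, 4], [1, 2, 3, 4, 5], [1, 2, 3, 4], [1, 2, 3], [1, 3, 4, 5], [1, 3, 4], [1, 3], [1], [2, 3, 4, 5], [2, 3, 4], [2, 3], [2], [3, 4, 5], [3, 4], [3], [4, 5], [4], [5]]

def topWitE7 : List (List ℕ) := [[], [2, 3, 1, 4, 3, 2, 0, 5, 4, 3, 1, 2, 3, 4, 5, 6], [3, 1, 4, 3, 2, 0, 5, 4, 3, 1, 2, 3, 4, 5, 6], [1, 4, 3, 2, 0, 5, 4, 3, 1, 2, 3, 4, 5, 6], [1, 3, 2, 0, 5, 4, 3, 1, 2, 3, 4, 5, 6], [1, 3, 2, 0, 4, 3, 1, 2, 3, 4, 5, 6], [1, 3, 2, 0, 4, 3, 1, 2, 3, 4, 5], [4, 3, 2, 0, 5, 4, 3, 1, 2, 3, 4, 5, 6], [3, 2, 0, 5, 4, 3, 1, 2, 3, 4, 5, 6], [3, 2, 0, 4, 3, 1, 2, 3, 4, 5, 6], [3, 2, 0, 4, 3, 1, 2, 3, 4, 5], [2, 0, 5, 4, 3, 1, 2, 3, 4, 5, 6], [2, 0, 4,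 3, 1, 2, 3, 4, 5, 6], [2, 0, 4, 3, 1, 2, 3, 4, 5], [2, 0, 3, 1, 2, 3, 4, 5, 6], [2, 0, 3, 1, 2, 3, 4, 5], [2, 0, 3, 1, 2, 3, 4], [0, 5, 4, 3, 1, 2, 3, 4, 5, 6], [0, 4, 3, 1, 2, 3, 4, 5, 6], [0, 4, 3, 1, 2, 3, 4, 5], [0, 3, 1, 2, 3, 4, 5, 6], [0, 3, 1, 2, 3, 4, 5], [0, 3, 1, 2, 3, 4], [0, 1, 2, 3, 4, 5, 6], [0, 1, 2, 3, 4, 5], [0, 1, 2, 3, 4], [0, 1, 2, 3], [0, 2, 3, 4, 5, 6], [0, 2, 3, 4, 5], [0, 2, 3, 4], [0, 2, 3], [0, 2], [0], [5, 4, 3, 1, 2, 3, 4, 5, 6], [4, 3, 1, 2, 3, 4, 5, 6], [4, 3, 1, 2, 3, 4, 5], [3, 1, 2, 3, 4, 5, 6], [3, 1, 2, 3, 4, 5], [3, 1, 2, 3, 4], [1, 2, 3, 4, 5, 6], [1, 2, 3, 4, 5], [1, 2, 3, 4], [1, 2, 3], [1, 3, 4, 5, 6], [1, 3, 4, 5], [1, 3, 4],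 [1, 3], [1], [2, 3, 4, 5, 6], [2, 3, 4, 5], [2, 3, 4], [2, 3], [2], [3, 4, 5, 6], [3, 4, 5], [3, 4], [3], [4, 5, 6], [4, 5], [4], [5, 6], [5], [6]]

def topWitE8 : List (List ℕ) := [[], [6, 5, 4, 3, 1, 2, 0, 3, 2, 4, 3, 1, 5, 4, 3, 2, 0, 6, 5, 4, 3, 1, 2, 3, 4, 5, 6, 7], [5, 4, 3, 1, 2, 0, 3, 2, 4, 3, 1, 5, 4, 3, 2, 0, 6, 5, 4, 3, 1, 2, 3, 4, 5, 6, 7], [4, 3, 1, 2, 0, 3, 2, 4, 3, 1, 5, 4, 3, 2, 0, 6, 5, 4, 3, 1, 2, 3, 4, 5, 6, 7], [3, 1, 2, 0, 3, 2, 4, 3, 1, 5, 4, 3, 2, 0, 6, 5, 4, 3, 1, 2, 3, 4, 5, 6, 7], [1, 2, 0, 3, 2, 4, 3, 1, 5, 4, 3, 2, 0, 6, 5, 4, 3, 1, 2, 3, 4, 5, 6, 7], [0, 1, 3, 2, 4, 3, 1, 5, 4, 3, 2, 0, 6, 5, 4, 3, 1, 2, 3, 4, 5, 6, 7], [2, 0, 3, 2, 4, 3,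 1, 5, 4, 3, 2, 0, 6, 5, 4, 3, 1, 2, 3, 4, 5, 6, 7], [0, 3, 2, 4, 3, 1, 5, 4, 3, 2, 0, 6, 5, 4, 3, 1, 2, 3, 4, 5, 6, 7], [0, 2, 4, 3, 1, 5, 4, 3, 2, 0, 6, 5, 4, 3, 1, 2, 3, 4, 5, 6, 7], [0, 2, 3, 1, 5, 4, 3, 2, 0, 6, 5, 4, 3, 1, 2, 3, 4, 5, 6, 7], [0, 2, 3, 1, 4, 3, 2, 0, 6, 5, 4, 3, 1, 2, 3, 4, 5, 6, 7], [0, 2, 3, 1, 4, 3, 2, 0, 5, 4, 3, 1, 2, 3, 4, 5, 6, 7], [0, 2, 3, 1, 4, 3, 2, 0, 5, 4, 3, 1, 2, 3, 4, 5, 6], [1, 3, 2, 4, 3, 1, 5, 4, 3, 2, 0, 6, 5, 4, 3, 1, 2, 3, 4, 5, 6, 7], [3, 2, 4, 3, 1, 5, 4, 3, 2, 0, 6, 5, 4, 3, 1, 2, 3, 4, 5, 6, 7], [2, 4, 3, 1, 5, 4, 3, 2, 0, 6, 5, 4, 3, 1, 2, 3, 4, 5, 6, 7], [2, 3, 1, 5, 4, 3, 2, 0, 6, 5, 4, 3, 1, 2, 3, 4, 5, 6, 7], [2, 3,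 1, 4, 3, 2, 0, 6, 5, 4, 3, 1, 2, 3, 4, 5, 6, 7], [2, 3, 1, 4, 3, 2, 0, 5, 4, 3, 1, 2, 3, 4, 5, 6, 7], [2, 3, 1, 4, 3, 2, 0, 5, 4, 3, 1, 2, 3, 4, 5, 6], [4, 3, 1, 5, 4, 3, 2, 0, 6, 5, 4, 3, 1, 2, 3, 4, 5, 6, 7], [3, 1, 5, 4, 3, 2, 0, 6, 5, 4, 3, 1, 2, 3, 4, 5, 6, 7], [3, 1, 4, 3, 2, 0, 6, 5, 4, 3, 1, 2, 3, 4, 5, 6, 7], [3, 1, 4, 3, 2, 0, 5, 4, 3, 1, 2, 3, 4, 5, 6, 7], [3, 1, 4, 3, 2, 0, 5, 4, 3, 1, 2, 3, 4, 5, 6], [1, 5, 4, 3, 2, 0, 6, 5, 4, 3, 1, 2, 3, 4, 5, 6, 7], [1, 4, 3, 2, 0, 6, 5, 4, 3, 1, 2, 3, 4, 5, 6, 7], [1, 4, 3, 2, 0, 5, 4, 3, 1, 2, 3, 4, 5, 6, 7], [1, 4, 3, 2, 0, 5, 4, 3, 1, 2, 3, 4, 5, 6], [1, 3, 2, 0, 6, 5, 4, 3, 1, 2, 3, 4, 5, 6, 7], [1, 3, 2, 0, 5, 4,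 3, 1, 2, 3, 4, 5, 6, 7], [1, 3, 2, 0, 5, 4, 3, 1, 2, 3, 4, 5, 6], [1, 3, 2, 0, 4, 3, 1, 2, 3, 4, 5, 6, 7], [1, 3, 2, 0, 4, 3, 1, 2, 3, 4, 5, 6], [1, 3, 2, 0, 4, 3, 1, 2, 3, 4, 5], [5, 4, 3, 2, 0, 6, 5, 4, 3, 1, 2, 3, 4, 5, 6, 7], [4, 3, 2, 0, 6, 5, 4, 3, 1, 2, 3, 4, 5, 6, 7], [4, 3, 2, 0, 5, 4, 3, 1, 2, 3, 4, 5, 6, 7], [4, 3, 2, 0, 5, 4, 3, 1, 2, 3, 4, 5, 6], [3, 2, 0, 6, 5, 4, 3, 1, 2, 3, 4, 5, 6, 7], [3, 2, 0, 5, 4, 3, 1, 2, 3, 4, 5, 6, 7], [3, 2, 0, 5, 4, 3, 1, 2, 3, 4, 5, 6], [3, 2, 0, 4, 3, 1, 2, 3, 4, 5, 6, 7], [3, 2, 0, 4, 3, 1, 2, 3, 4, 5, 6], [3, 2, 0, 4, 3, 1, 2, 3, 4, 5], [2, 0, 6, 5, 4, 3, 1, 2, 3, 4, 5, 6, 7], [2, 0, 5, 4, 3, 1, 2, 3, 4, 5, 6, 7], [2, 0,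 5, 4, 3, 1, 2, 3, 4, 5, 6], [2, 0, 4, 3, 1, 2, 3, 4, 5, 6, 7], [2, 0, 4, 3, 1, 2, 3, 4, 5, 6], [2, 0, 4, 3, 1, 2, 3, 4, 5], [2, 0, 3, 1, 2, 3, 4, 5, 6, 7], [2, 0, 3, 1, 2, 3, 4, 5, 6], [2, 0, 3, 1, 2, 3, 4, 5], [2, 0, 3, 1, 2, 3, 4], [0, 6, 5, 4, 3, 1, 2, 3, 4, 5, 6, 7], [0, 5, 4, 3, 1, 2, 3, 4, 5, 6, 7], [0, 5, 4, 3, 1, 2, 3, 4, 5, 6], [0, 4, 3, 1, 2, 3, 4, 5, 6, 7], [0, 4, 3, 1, 2, 3, 4, 5, 6], [0, 4, 3, 1, 2, 3, 4, 5], [0, 3, 1, 2, 3, 4, 5, 6, 7], [0, 3, 1, 2, 3, 4, 5, 6], [0, 3, 1, 2, 3, 4, 5], [0, 3, 1, 2, 3, 4], [0, 1, 2, 3, 4, 5, 6, 7], [0, 1, 2, 3, 4, 5, 6], [0, 1, 2, 3, 4, 5], [0, 1, 2, 3, 4], [0, 1, 2, 3], [0, 2, 3, 4, 5, 6, 7], [0, 2, 3, 4, 5, 6], [0, 2, 3,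 4, 5], [0, 2, 3, 4], [0, 2, 3], [0, 2], [0], [6, 5, 4, 3, 1, 2, 3, 4, 5, 6, 7], [5, 4, 3, 1, 2, 3, 4, 5, 6, 7], [5, 4, 3, 1, 2, 3, 4, 5, 6], [4, 3, 1, 2, 3, 4, 5, 6, 7], [4, 3, 1, 2, 3, 4, 5, 6], [4, 3, 1, 2, 3, 4, 5], [3, 1, 2, 3, 4, 5, 6, 7], [3, 1, 2, 3, 4, 5, 6], [3, 1, 2, 3, 4, 5], [3, 1, 2, 3, 4], [1, 2, 3, 4, 5, 6, 7], [1, 2, 3, 4, 5, 6], [1, 2, 3, 4, 5], [1, 2, 3, 4], [1, 2, 3], [1, 3, 4, 5, 6, 7], [1, 3, 4, 5, 6], [1, 3, 4, 5], [1, 3, 4], [1, 3], [1], [2, 3, 4, 5, 6, 7], [2, 3, 4, 5, 6], [2, 3, 4, 5], [2, 3, 4], [2, 3], [2], [3, 4, 5, 6, 7], [3, 4, 5, 6], [3, 4, 5], [3, 4], [3], [4, 5, 6, 7], [4, 5, 6], [4, 5], [4], [5, 6, 7], [5, 6], [5], [6, 7], [6], [7]]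

def topWitOf (D : ChevalleyDatum) : List (List ℕ) :=
  if D.nroots = 12 then topWitG2 else if D.nroots = 24 then topWitD4
  else if D.nroots = 72 then topWitE6 else if D.nroots = 126 then topWitE7 else topWitE8

end Cfsg.Agent.Lib.Helper8
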