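import Cfsg.Agent.Lib.Helper8.FactGr
import Cfsg.Agent.Lib.Helper8.FactNH

set_option autoImplicit false

namespace Cfsg.Agent.Lib.Helper8

open Cfsg Cfsg.Lie

/-! ### the torus generated by the `h_{p_i}(c)` -/

section
variable (D : ChevalleyDatum) {F : Type*} [Field F]

/-- the character `s ↦ ∏ c_i ^ A_{p_i, s}`, as a function of the code of a basis vector -/
noncomputable def chiC (c : ℕ → Fˣ) (j : ℕ) : Fˣ := ∏ i ∈ Finset.range D.rank, c i ^ cartanC D i j

/-- the character `s ↦ ∏ c_i ^ A_{p_i, s}` -/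
noncomputable def chi (c : ℕ → Fˣ) (s : ℕ) : Fˣ := ∏ i ∈ Finset.range D.rank, c i ^ D.cartan i s

theorem chiC_inl (c : ℕ → Fˣ) {j : ℕ} (hj : j < D.rank) : chiC D c j = 1 := by
  unfold chiC cartanC
  simp [hj]

theorem chiC_inr (c : ℕ → Fˣ) (s : ℕ) : chiC D c (D.rank + s) = chi D c s := by
  unfold chiC chi cartanC
  simp

theorem chiC_mul (c c' : ℕ → Fˣ) (j : ℕ) : chiC D (c * c') j = chiC D c j * chiC D c' j := by
  unfold chiC
  rw [← Finset.prod_mul_distrib]
  apply Finset.prod_congr rfl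
  intro i _
  rw [Pi.mul_apply, mul_zpow]

theorem chiC_one (j : ℕ) : chiC D (1 : ℕ → Fˣ) j = 1 := by
  unfold chiC
  simp

theorem chi_mul (c c' : ℕ → Fˣ) (s : ℕ) : chi D (c * c') s = chi D c s * chi D c' s := by
  rw [← chiC_inr, ← chiC_inr, ← chiC_inr, chiC_mul]

theorem chi_update {i : ℕ} (hi : i < D.rank) (a : Fˣ) (s : ℕ) :
    chi D (Function.update (1 : ℕ → Fˣ) i a) s = a ^ D.cartan i s := by
  unfold chi
  rw [Finset.prod_eq_single i]
  · simp
  · intro b _ hb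
    rw [Function.update_of_ne hb]
    simp
  · intro h
    exact absurd (Finset.mem_range.mpr hi) h

/-- the diagonal matrix of a character -/
noncomputable def tMat (c : ℕ → Fˣ) : Matrix D.Idx D.Idx F :=
  Matrix.diagonal (fun k : D.Idx => ((chiC D c (code k) : Fˣ) : F))

theorem tMat_mul (c c' : ℕ → Fˣ) : tMat D c * tMat D c' = tMat D (c * c') := by
  unfold tMat
  rw [Matrix.diagonal_mul_diagonal]
  congr 1
  funext k
  rw [chiC_mul, Units.val_mul]

theorem tMat_one : tMat D (1 : ℕ → Fˣ) = 1 := by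
  unfold tMat
  simp [chiC_one]

/-- the torus element of a family of parameters -/
noncomputable def tG (c : ℕ → Fˣ) : GL D.Idx F :=
  ⟨tMat D c, tMat D c⁻¹, by rw [tMat_mul, mul_inv_cancel, tMat_one],
    by rw [tMat_mul, inv_mul_cancel, tMat_one]⟩

@[simp] theorem tG_coe (c : ℕ → Fˣ) : ((tG D c : GL D.Idx F) : Matrix D.Idx D.Idx F) = tMat D c := rfl

theorem tG_mul (c c' : ℕ → Fˣ) : tG D c * tG D c' = tG D (c * c') := Units.ext (tMat_mul D c c')
theorem tG_one : tG D (1 : ℕ → Fˣ) = 1 := Units.ext (tMat_one D)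
theorem tG_inv (c : ℕ → Fˣ) : (tG D c)⁻¹ = tG D c⁻¹ := rfl

/-- the torus -/
noncomputable def torus (F : Type*) [Field F] : Subgroup (GL D.Idx F) where
  carrier := Set.range (tG D (F := F))
  mul_mem' := by
    rintro _ _ ⟨c, rfl⟩ ⟨c', rfl⟩
    exact ⟨c * c', (tG_mul D c c').symm⟩
  one_mem' := ⟨1, tG_one D⟩
  inv_mem' := by
    rintro _ ⟨c, rfl⟩
    exact ⟨c⁻¹, rfl⟩

theorem mem_torus {g : GL D.Idx F} : g ∈ torus D F ↔ ∃ c, tG D c = g := Iff.rfl

end

section
variable {D : ChevalleyDatum} (hD : D ∈ allData) {F : Type*} [Field F]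
include hD

theorem chiC_entry (c : ℕ → Fˣ) {s j : ℕ} (hs : s < D.nroots) (hj : j < D.rank + D.nroots) :
    ∀ e ∈ colSpec D s j, e.1 < D.rank + D.nroots → chiC D c e.1 = chi D c s ^ e.2.1 * chiC D c j := by
  intro e he he1
  unfold chiC chi
  rw [← Finset.prod_pow, ← Finset.prod_mul_distrib]
  apply Finset.prod_congr rfl
  intro i hi
  rw [cartanC_entry hD (Finset.mem_range.mp hi) hs hj e he he1, zpow_add, mul_comm (e.2.1 : ℤ), zpow_mul,
    zpow_natCast]

/-- `h(χ) x_s(t) = x_s(χ(s) t) h(χ)` -/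
theorem tMat_x (c : ℕ → Fˣ) {s : ℕ} (hs : s < D.nroots) (t : F) :
    tMat D c * D.x F s t = D.x F s ((chi D c s : Fˣ) * t) * tMat D c := by
  apply diag_mul_x D (fun j => ((chiC D c j : Fˣ) : F)) ((chi D c s : Fˣ) : F) hs
  intro j hj e he he1
  rw [chiC_entry hD c hs hj e he he1, Units.val_mul, Units.val_pow_eq_pow_val]

theorem tG_x (c : ℕ → Fˣ) {s : ℕ} (hs : s < D.nroots) (t : F) :
    tG D c * xG hD F s t = xG hD F s ((chi D c s : Fˣ) * t) * tG D c :=
  Units.ext (tMat_x hD c hs t)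

theorem hMat_simple_eq_tMat {i : ℕ} (hi : i < D.rank) (a : Fˣ) :
    D.hMat F (D.simple i) (a : F) = tMat D (Function.update (1 : ℕ → Fˣ) i a) := by
  rw [hMat_simple hD hi a.ne_zero, tMat]
  congr 1
  funext k
  rcases k with k | s
  · rw [code_inl, chiC_inl D _ k.2]; rfl
  · rw [code_inr, chiC_inr, chi_update D hi, Units.val_zpow_eq_zpow_val]; rfl

end

end Cfsg.Agent.Lib.Helper8
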