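import Cfsg.Agent.Lib.Helper8.Tw1
import Cfsg.Agent.Lib.Helper8.RootCentr

set_option autoImplicit false
set_option linter.unusedSectionVars false

namespace Cfsg.Agent.Lib.Helper8

open Cfsg Cfsg.Lie

/-! ### orthogonal fundamental roots -/

def orthB (D : ChevalleyDatum) (a b : ℕ) : Bool :=
  [D.simple a, D.neg (D.simple a)].all fun r => [D.simple b, D.neg (D.simple b)].all fun s =>
    (D.commTerms r s).isEmpty && (s != r) && (s != D.neg r)

/-- the subgroup `⟨X_p, X_{-p}⟩` -/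
abbrev rk1 (D : ChevalleyDatum) (F : Type*) [Field F] (i : ℕ) : Subgroup (GL D.Idx F) :=
  D.rootSubgroup F (D.simple i) ⊔ D.rootSubgroup F (D.neg (D.simple i))

section
variable {D : ChevalleyDatum} (hD : D ∈ allData) {F : Type*} [Field F]
include hD

theorem xG_mem_rk1 (i : ℕ) (t : F) : xG hD F (D.simple i) t ∈ rk1 D F i :=
  (le_sup_left : D.rootSubgroup F (D.simple i) ≤ _) ((mem_rootSubgroup hD).mpr ⟨t, rfl⟩)

theorem yG_mem_rk1 (i : ℕ) (t : F) : xG hD F (D.neg (D.simple i)) t ∈ rk1 D F i :=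
  (le_sup_right : D.rootSubgroup F (D.neg (D.simple i)) ≤ _) ((mem_rootSubgroup hD).mpr ⟨t, rfl⟩)

theorem nG_mem_rk1 (i : ℕ) (t : F) : nG hD F (D.simple i) t ∈ rk1 D F i :=
  mul_mem (mul_mem (xG_mem_rk1 hD i _) (yG_mem_rk1 hD i _)) (xG_mem_rk1 hD i _)

theorem hG_mem_rk1 (i : ℕ) (t : F) : hG hD F (D.simple i) t ∈ rk1 D F i :=
  mul_mem (nG_mem_rk1 hD i _) (nG_mem_rk1 hD i _)

theorem orth_commute {a b : ℕ} (ha : a < D.rank) (hb : b < D.rank) (h : orthB D a b = true)
    {g g' : GL D.Idx F} (hg : g ∈ rk1 D F a) (hg' : g' ∈ rk1 D F b) : Commute g g' := by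
  simp only [orthB, List.all_cons, List.all_nil, Bool.and_true, Bool.and_eq_true, List.isEmpty_iff,
    bne_iff_ne] at h
  obtain ⟨⟨⟨⟨h1, h2⟩, h3⟩, ⟨h4, h5⟩, h6⟩, ⟨⟨h7, h8⟩, h9⟩, ⟨h10, h11⟩, h12⟩ := h
  have sa := simple_lt hD ha
  have sb := simple_lt hD hb
  have na := neg_lt' hD _ sa
  have nb := neg_lt' hD _ sb
  have key : ∀ r s, r < D.nroots → s < D.nroots → D.commTerms r s = [] → s ≠ r → s ≠ D.neg r →
      ∀ t u : F, Commute (xG hD F r t) (xG hD F s u) := by
    intro r s hr hs e1 e2 e3 t u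
    exact commute_of_terms hD hr hs e2 e3 (by rw [e1]; simp) t u
  have step : ∀ x : GL D.Idx F, (∀ u, Commute x (xG hD F (D.simple b) u)) →
      (∀ u, Commute x (xG hD F (D.neg (D.simple b)) u)) → ∀ y ∈ rk1 D F b, Commute x y := by
    intro x hx1 hx2 y hy
    have : rk1 D F b ≤ Subgroup.centralizer {x} := by
      apply sup_le
      · intro z hz
        obtain ⟨u, rfl⟩ := (mem_rootSubgroup hD).mp hz
        rw [Subgroup.mem_centralizer_singleton_iff]
        exact (hx1 u).symm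
      · intro z hz
        obtain ⟨u, rfl⟩ := (mem_rootSubgroup hD).mp hz
        rw [Subgroup.mem_centralizer_singleton_iff]
        exact (hx2 u).symm
    exact (Subgroup.mem_centralizer_singleton_iff.mp (this hy)).symm
  have : rk1 D F a ≤ Subgroup.centralizer {g'} := by
    apply sup_le
    · intro z hz
      obtain ⟨t, rfl⟩ := (mem_rootSubgroup hD).mp hz
      rw [Subgroup.mem_centralizer_singleton_iff]
      exact step _ (fun u => key _ _ sa sb h1 h2 h3 t u) (fun u => key _ _ sa nb h4 h5 h6 t u) g' hg'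
    · intro z hz
      obtain ⟨t, rfl⟩ := (mem_rootSubgroup hD).mp hz
      rw [Subgroup.mem_centralizer_singleton_iff]
      exact step _ (fun u => key _ _ na sb h7 h8 h9 t u) (fun u => key _ _ na nb h10 h11 h12 t u) g' hg'
  exact Subgroup.mem_centralizer_singleton_iff.mp (this hg)

omit hD in
theorem orth_simple_ne {a b : ℕ} (h : orthB D a b = true) : D.simple b ≠ D.simple a := by
  simp only [orthB, List.all_cons, List.all_nil, Bool.and_true, Bool.and_eq_true, List.isEmpty_iff,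
    bne_iff_ne] at h
  exact h.1.1.1.2

end

/-! ### twisted products over a block -/

section
variable {G : Type*} [Group G] {K : Type*} (φ : K → K)

/-- `f j₀ t * f j₁ (φ t) * f j₂ (φ² t) ⋯` -/
def PB (f : ℕ → K → G) : List ℕ → K → G
  | [], _ => 1
  | j :: J, t => f j t * PB f J (φ t)

theorem PB_mem {f : ℕ → K → G} {S : Subgroup G} : ∀ {J : List ℕ} (_ : ∀ j ∈ J, ∀ t, f j t ∈ S) (t : K),
    PB φ f J t ∈ S
  | [], _, _ => one_mem _
  | j :: J, h, t => mul_mem (h j List.mem_cons_self t)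
      (PB_mem (fun a ha => h a (List.mem_cons_of_mem _ ha)) (φ t))

theorem PB_commute {f : ℕ → K → G} {g : G} : ∀ {J : List ℕ} (_ : ∀ j ∈ J, ∀ t, Commute g (f j t)) (t : K),
    Commute g (PB φ f J t)
  | [], _, _ => Commute.one_right g
  | j :: J, h, t => (h j List.mem_cons_self t).mul_right
      (PB_commute (fun a ha => h a (List.mem_cons_of_mem _ ha)) (φ t))

theorem PB_mul {f g : ℕ → K → G} : ∀ {J : List ℕ} (_ : J.Nodup)
    (_ : ∀ a ∈ J, ∀ b ∈ J, a ≠ b → ∀ s t, Commute (g a s) (f b t)) (t : K),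
    PB φ (fun j t => f j t * g j t) J t = PB φ f J t * PB φ g J t
  | [], _, _, _ => (one_mul 1).symm
  | j :: J, hn, h, t => by
    show f j t * g j t * PB φ (fun j t => f j t * g j t) J (φ t) = f j t * PB φ f J (φ t) * (g j t * PB φ g J (φ t))
    rw [PB_mul (List.nodup_cons.mp hn).2
      (fun a ha b hb => h a (List.mem_cons_of_mem _ ha) b (List.mem_cons_of_mem _ hb)) (φ t)]
    have hc : Commute (g j t) (PB φ f J (φ t)) := PB_commute φ (fun b hb s =>
      h j List.mem_cons_self b (List.mem_cons_of_mem _ hb)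
        (fun e => (List.nodup_cons.mp hn).1 (e ▸ hb)) t s) (φ t)
    calc f j t * g j t * (PB φ f J (φ t) * PB φ g J (φ t))
        = f j t * (g j t * PB φ f J (φ t)) * PB φ g J (φ t) := by simp only [mul_assoc]
      _ = f j t * (PB φ f J (φ t) * g j t) * PB φ g J (φ t) := by rw [hc.eq]
      _ = _ := by simp only [mul_assoc]

theorem PB_append (f : ℕ → K → G) : ∀ (A B : List ℕ) (t : K),
    PB φ f (A ++ B) t = PB φ f A t * PB φ f B (φ^[A.length] t)
  | [], B, t => (one_mul _).symm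
  | a :: A, B, t => by
    show f a t * PB φ f (A ++ B) (φ t) = f a t * PB φ f A (φ t) * PB φ f B (φ^[A.length + 1] t)
    rw [PB_append f A B (φ t), mul_assoc, Function.iterate_succ_apply]

theorem PB_comp (f : ℕ → K → G) (g : K → K) (hg : ∀ t, φ (g t) = g (φ t)) : ∀ (J : List ℕ) (t : K),
    PB φ (fun j t => f j (g t)) J t = PB φ f J (g t)
  | [], _ => rfl
  | j :: J, t => by
    show f j (g t) * PB φ (fun j t => f j (g t)) J (φ t) = f j (g t) * PB φ f J (φ (g t))
    rw [PB_comp f g hg J (φ t), hg]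

theorem PB_map {G' : Type*} [Group G'] (σ : G →* G') (f : ℕ → K → G) (f' : ℕ → K → G') (p : ℕ → ℕ) :
    ∀ (J : List ℕ) (_ : ∀ j ∈ J, ∀ t, σ (f j t) = f' (p j) (φ t)) (t : K),
    σ (PB φ f J t) = PB φ f' (J.map p) (φ t)
  | [], _, _ => map_one σ
  | j :: J, h, t => by
    show σ (f j t * PB φ f J (φ t)) = f' (p j) (φ t) * PB φ f' (J.map p) (φ (φ t))
    rw [map_mul, h j List.mem_cons_self, PB_map σ f f' p J (fun a ha => h a (List.mem_cons_of_mem _ ha))]

theorem PB_rotate {f : ℕ → K → G} {j : ℕ} {J : List ℕ} (hn : (j :: J).Nodup)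
    (h : ∀ a ∈ j :: J, ∀ b ∈ j :: J, a ≠ b → ∀ s t, Commute (f a s) (f b t)) {t : K}
    (ht : φ^[(j :: J).length] t = t) : PB φ f ((j :: J).rotate 1) (φ t) = PB φ f (j :: J) t := by
  rw [List.rotate_cons_succ, List.rotate_zero, PB_append]
  show PB φ f J (φ t) * (f j (φ^[J.length] (φ t)) * 1) = f j t * PB φ f J (φ t)
  rw [mul_one, ← Function.iterate_succ_apply]
  have ht' : φ^[J.length + 1] t = t := ht
  rw [ht']
  exact ((PB_commute φ (fun b hb s => h j List.mem_cons_self b (List.mem_cons_of_mem _ hb)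
    (fun e => (List.nodup_cons.mp hn).1 (e ▸ hb)) t s) (φ t)).eq).symm

end

end Cfsg.Agent.Lib.Helper8
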