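import Cfsg.Agent.Lib.Helper8.Tw2

set_option autoImplicit false
set_option linter.unusedSectionVars false
set_option linter.unusedVariables false

namespace Cfsg.Agent.Lib.Helper8

open Cfsg Cfsg.Lie

/-- lists of pairwise orthogonal fundamental roots -/
structure OrthL (D : ChevalleyDatum) (J : List ℕ) : Prop where
  lt : ∀ j ∈ J, j < D.rank
  nodup : J.Nodup
  orth : ∀ a ∈ J, ∀ b ∈ J, a ≠ b → orthB D a b = true
  refl : ∀ a ∈ J, ∀ b ∈ J, a ≠ b → D.reflectRoot a (D.simple b) = D.simple b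

/-- the checked properties of a block (an orbit of the symmetry on the nodes, consisting of orthogonal roots) -/
structure BlockOK (D : ChevalleyDatum) (r0 : List ℕ) (J : List ℕ) : Prop extends OrthL D J where
  rot : J.map (fun i => r0.getD i 0) = J.rotate 1
  ne : J ≠ []

theorem OrthL.tail {D : ChevalleyDatum} {j : ℕ} {J : List ℕ} (h : OrthL D (j :: J)) : OrthL D J :=
  ⟨fun a ha => h.lt a (List.mem_cons_of_mem _ ha), (List.nodup_cons.mp h.nodup).2,
    fun a ha b hb => h.orth a (List.mem_cons_of_mem _ ha) b (List.mem_cons_of_mem _ hb),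
    fun a ha b hb => h.refl a (List.mem_cons_of_mem _ ha) b (List.mem_cons_of_mem _ hb)⟩

theorem OrthL.head_ne {D : ChevalleyDatum} {j : ℕ} {J : List ℕ} (h : OrthL D (j :: J)) : ∀ a ∈ J, j ≠ a :=
  fun a ha e => (List.nodup_cons.mp h.nodup).1 (e ▸ ha)

theorem wR_fix (D : ChevalleyDatum) {s : ℕ} : ∀ {J : List ℕ}, (∀ a ∈ J, D.reflectRoot a s = s) → wR D J s = s
  | [], _ => rfl
  | a :: J, h => by
    show wR D J (D.reflectRoot a s) = s
    rw [h a List.mem_cons_self]
    exact wR_fix D (fun b hb => h b (List.mem_cons_of_mem _ hb))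

section
variable {D : ChevalleyDatum} (hD : D ∈ allData) {K : Type*} [Field K]
include hD

theorem OrthL.red : ∀ {J : List ℕ}, OrthL D J → Red D J
  | [], _ => trivial
  | j :: J, h => by
    refine ⟨h.lt j List.mem_cons_self, ?_, h.tail.red⟩
    rw [wR_fix D (fun a ha => h.refl a (List.mem_cons_of_mem _ ha) j List.mem_cons_self (h.head_ne a ha).symm)]
    exact simple_pos hD (h.lt j List.mem_cons_self)

theorem OrthL.comm {J : List ℕ} (hJ : OrthL D J) {f g : ℕ → K → GL D.Idx K} (hf : ∀ j t, f j t ∈ rk1 D K j)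
    (hg : ∀ j t, g j t ∈ rk1 D K j) : ∀ a ∈ J, ∀ b ∈ J, a ≠ b → ∀ s t, Commute (f a s) (g b t) :=
  fun a ha b hb hab s t => orth_commute hD (hJ.lt a ha) (hJ.lt b hb) (hJ.orth a ha b hb hab) (hf a s) (hg b t)

/-- a general product over a list of fundamental roots -/
def PX (J : List ℕ) (τ : ℕ → K) : GL D.Idx K := (J.map (fun j => xG hD K (D.simple j) (τ j))).prod

theorem PX_cons (j : ℕ) (J : List ℕ) (τ : ℕ → K) : PX hD (j :: J) τ = xG hD K (D.simple j) (τ j) * PX hD J τ := by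
  simp [PX]

theorem PX_commute {j : ℕ} {J : List ℕ} (h : OrthL D (j :: J)) {g : GL D.Idx K} (hg : g ∈ rk1 D K j)
    (τ : ℕ → K) : Commute g (PX hD J τ) := by
  apply Commute.list_prod_right
  intro x hx
  obtain ⟨a, ha, rfl⟩ := List.mem_map.mp hx
  exact orth_commute hD (h.lt j List.mem_cons_self) (h.lt a (List.mem_cons_of_mem _ ha))
    (h.orth j List.mem_cons_self a (List.mem_cons_of_mem _ ha) (h.head_ne a ha)) hg (xG_mem_rk1 hD a _)

theorem PX_mem_Ui {j : ℕ} {J : List ℕ} (h : OrthL D (j :: J)) (τ : ℕ → K) : PX hD J τ ∈ Ui D K j := by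
  apply Subgroup.list_prod_mem
  intro x hx
  obtain ⟨a, ha, rfl⟩ := List.mem_map.mp hx
  exact xG_mem_Ui hD (simple_pos hD (h.lt a (List.mem_cons_of_mem _ ha)))
    (orth_simple_ne (h.orth j List.mem_cons_self a (List.mem_cons_of_mem _ ha) (h.head_ne a ha))) _

theorem PX_congr {J : List ℕ} {τ τ' : ℕ → K} (h : ∀ j ∈ J, τ j = τ' j) : PX hD J τ = PX hD J τ' := by
  unfold PX
  congr 1
  apply List.map_congr_left
  intro j hj
  rw [h j hj]

/-- cancelling the head of a product -/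
theorem head_cancel {j : ℕ} (hj : j < D.rank) {a a' : K} {P P' : GL D.Idx K} (hP : P ∈ Ui D K j)
    (hP' : P' ∈ Ui D K j) (e : xG hD K (D.simple j) a * P = xG hD K (D.simple j) a' * P') : a = a' ∧ P = P' := by
  have h1 : xG hD K (D.simple j) (-a' + a) = P' * P⁻¹ := by
    rw [← xG_mul, ← xG_inv]
    have : xG hD K (D.simple j) a = xG hD K (D.simple j) a' * P' * P⁻¹ := by rw [← e]; group
    rw [this]; group
  have h2 : -a' + a = 0 := by
    by_contra hne
    apply xG_simple_not_mem_Ui hD hj hne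
    rw [h1]
    exact mul_mem hP' (inv_mem hP)
  have h3 : a = a' := by
    have := congrArg (fun z => a' + z) h2
    simpa using this
  subst h3
  exact ⟨rfl, mul_left_cancel e⟩

theorem PX_inj : ∀ {J : List ℕ}, OrthL D J → ∀ {τ τ' : ℕ → K}, PX hD J τ = PX hD J τ' → ∀ j ∈ J, τ j = τ' j
  | [], _, _, _, _, j, hj => by simp at hj
  | a :: J, h, τ, τ', e, j, hj => by
    rw [PX_cons, PX_cons] at e
    obtain ⟨e1, e2⟩ := head_cancel hD (h.lt a List.mem_cons_self) (PX_mem_Ui hD h τ) (PX_mem_Ui hD h τ') e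
    rcases List.mem_cons.mp hj with rfl | hj
    · exact e1
    · exact PX_inj h.tail e2 j hj

omit hD in
theorem conj_inv_of_commute {G : Type*} [Group G] {n c : G} (h : Commute n c) : n⁻¹ * c * n = c := by
  rw [mul_assoc, ← h.eq, inv_mul_cancel_left]

theorem Uw_block_exists : ∀ {J : List ℕ}, OrthL D J → ∀ {u : GL D.Idx K}, u ∈ Uw D K (nR hD K J) →
    ∃ τ : ℕ → K, u = PX hD J τ
  | [], _, u, hu => by
    have h1 : u ∈ Uw D K 1 := hu
    rw [Uw_one hD] at h1
    exact ⟨0, h1⟩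
  | j :: J, h, u, hu => by
    obtain ⟨hp, hpos, hred⟩ := h.red hD
    obtain ⟨⟨⟨c, hc⟩, t⟩, e⟩ := (stepMap_bijective (F := K) hD hred hp hpos).2 ⟨u, hu⟩
    have e1 : (nS hD K j)⁻¹ * c * nS hD K j * xG hD K (D.simple j) t = u := congrArg Subtype.val e
    obtain ⟨τ, rfl⟩ := Uw_block_exists h.tail hc
    refine ⟨Function.update τ j t, ?_⟩
    rw [← e1, conj_inv_of_commute (PX_commute hD h (nG_mem_rk1 hD j 1) τ), PX_cons, Function.update_self,
      ← (PX_commute hD h (xG_mem_rk1 hD j t) τ).eq]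
    congr 1
    apply PX_congr
    intro a ha
    rw [Function.update_of_ne (h.head_ne a ha).symm]

theorem PX_perm {J J' : List ℕ} (hJ : OrthL D J) (hp : J.Perm J') (τ : ℕ → K) : PX hD J τ = PX hD J' τ := by
  unfold PX
  apply List.Perm.prod_eq' (hp.map _)
  rw [List.pairwise_map]
  exact List.Pairwise.imp_of_mem (fun {a b} ha hb hab =>
    hJ.comm hD (f := fun j t => xG hD K (D.simple j) t) (g := fun j t => xG hD K (D.simple j) t)
      (fun j t => xG_mem_rk1 hD j t) (fun j t => xG_mem_rk1 hD j t) a ha b hb hab _ _) hJ.nodup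

end

section
variable {D : ChevalleyDatum} (hD : D ∈ allData) {tab tab' : List (ℕ × ℤ)} {r0 : List ℕ}
  (T : TwOK D tab tab' r0) {K : Type*} [Field K] (φ : K →+* K)

/-- `x_J(t)` -/
def xB (J : List ℕ) (t : K) : GL D.Idx K := PB φ (fun j t => xG hD K (D.simple j) t) J t
/-- `x_{-J}(t)` -/
def yB (J : List ℕ) (t : K) : GL D.Idx K := PB φ (fun j t => xG hD K (D.neg (D.simple j)) t) J t
/-- `n_J(t)` -/
def nB (J : List ℕ) (t : K) : GL D.Idx K := PB φ (fun j t => nG hD K (D.simple j) t) J t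
/-- `h_J(t)` -/
def hB (J : List ℕ) (t : K) : GL D.Idx K := PB φ (fun j t => hG hD K (D.simple j) t) J t

include hD

theorem nB_eq {J : List ℕ} (hJ : OrthL D J) (t : K) :
    nB hD φ J t = xB hD φ J t * yB hD φ J (-t⁻¹) * xB hD φ J t := by
  unfold nB nG
  rw [PB_mul φ hJ.nodup (hJ.comm hD (fun j t => xG_mem_rk1 hD j t)
      (fun j t => mul_mem (xG_mem_rk1 hD j t) (yG_mem_rk1 hD j _))),
    PB_mul φ hJ.nodup (hJ.comm hD (fun j t => yG_mem_rk1 hD j _) (fun j t => xG_mem_rk1 hD j t)),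
    PB_comp φ (fun j t => xG hD K (D.neg (D.simple j)) t) (fun t => -t⁻¹) (fun t => by simp)]
  rfl

theorem hB_eq {J : List ℕ} (hJ : OrthL D J) (t : K) : hB hD φ J t = nB hD φ J t * nB hD φ J (-1) := by
  unfold hB hG
  rw [PB_mul φ hJ.nodup (hJ.comm hD (fun j t => nG_mem_rk1 hD j _) (fun j t => nG_mem_rk1 hD j t)),
    PB_comp φ (fun j t => nG hD K (D.simple j) t) (fun _ => -1) (fun t => by simp)]
  rfl

theorem PB_commute_head {j : ℕ} {J : List ℕ} (h : OrthL D (j :: J)) {g : GL D.Idx K} (hg : g ∈ rk1 D K j)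
    {f : ℕ → K → GL D.Idx K} (hf : ∀ j t, f j t ∈ rk1 D K j) (t : K) : Commute g (PB φ f J t) :=
  PB_commute φ (fun a ha s => orth_commute hD (h.lt j List.mem_cons_self) (h.lt a (List.mem_cons_of_mem _ ha))
    (h.orth j List.mem_cons_self a (List.mem_cons_of_mem _ ha) (h.head_ne a ha)) hg (hf a s)) t

theorem nR_eq_nB : ∀ {J : List ℕ}, OrthL D J → nR hD K J = nB hD φ J 1
  | [], _ => rfl
  | j :: J, h => by
    show nR hD K J * nS hD K j = nG hD K (D.simple j) 1 * nB hD φ J (φ 1)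
    rw [map_one, nR_eq_nB h.tail]
    exact ((PB_commute_head hD φ h (nG_mem_rk1 hD j 1) (fun j t => nG_mem_rk1 hD j t) 1).eq).symm

theorem xB_mem_Uw : ∀ {J : List ℕ}, OrthL D J → ∀ t : K, xB hD φ J t ∈ Uw D K (nR hD K J)
  | [], _, _ => one_mem _
  | j :: J, h, t => by
    obtain ⟨hp, hpos, hred⟩ := h.red hD
    have h1 := (stepMap (F := K) hD hred.lt hp hpos (⟨_, xB_mem_Uw h.tail (φ t)⟩, t)).2
    have h2 : xB hD φ (j :: J) t =
        (nS hD K j)⁻¹ * xB hD φ J (φ t) * nS hD K j * xG hD K (D.simple j) t := by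
      have c1 : Commute (nS hD K j) (xB hD φ J (φ t)) :=
        PB_commute_head hD φ h (nG_mem_rk1 hD j 1) (fun j t => xG_mem_rk1 hD j t) _
      rw [conj_inv_of_commute c1]
      exact (PB_commute_head hD φ h (xG_mem_rk1 hD j t) (fun j t => xG_mem_rk1 hD j t) _).eq
    rw [h2]
    exact h1

theorem xB_mem_Ui {j : ℕ} {J : List ℕ} (h : OrthL D (j :: J)) (t : K) : xB hD φ J t ∈ Ui D K j :=
  PB_mem φ (fun a ha s => xG_mem_Ui hD (simple_pos hD (h.lt a (List.mem_cons_of_mem _ ha)))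
    (orth_simple_ne (h.orth j List.mem_cons_self a (List.mem_cons_of_mem _ ha) (h.head_ne a ha))) s) t

theorem xB_inj {J : List ℕ} (hJ : OrthL D J) (hne : J ≠ []) {t t' : K} (e : xB hD φ J t = xB hD φ J t') :
    t = t' := by
  obtain ⟨j, J', rfl⟩ := List.exists_cons_of_ne_nil hne
  exact (head_cancel hD (hJ.lt j List.mem_cons_self) (xB_mem_Ui hD φ hJ _) (xB_mem_Ui hD φ hJ _) e).1

variable {J : List ℕ} (hJ : BlockOK D r0 J)
include hJ

theorem sig_PB_fixed {f : ℕ → K → GL D.Idx K} (hf : ∀ j t, f j t ∈ rk1 D K j)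
    (hs : ∀ j < D.rank, ∀ t, sig T φ (f j t) = f (T.p j) (φ t)) {t : K} (ht : φ^[J.length] t = t) :
    sig T φ (PB φ f J t) = PB φ f J t := by
  rw [PB_map φ (sig T φ) f f T.p J (fun j hj t => hs j (hJ.lt j hj) t), hJ.rot]
  obtain ⟨j, J', rfl⟩ := List.exists_cons_of_ne_nil hJ.ne
  exact PB_rotate φ hJ.nodup (hJ.comm hD hf hf) ht

theorem sig_xB {t : K} (ht : φ^[J.length] t = t) : sig T φ (xB hD φ J t) = xB hD φ J t :=
  sig_PB_fixed hD T φ hJ (fun j t => xG_mem_rk1 hD j t) (fun j hj t => sig_x_simple hD T φ hj t) ht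

theorem sig_yB {t : K} (ht : φ^[J.length] t = t) : sig T φ (yB hD φ J t) = yB hD φ J t :=
  sig_PB_fixed hD T φ hJ (fun j t => yG_mem_rk1 hD j t) (fun j hj t => sig_x_neg hD T φ hj t) ht

theorem sig_nB {t : K} (ht : φ^[J.length] t = t) : sig T φ (nB hD φ J t) = nB hD φ J t :=
  sig_PB_fixed hD T φ hJ (fun j t => nG_mem_rk1 hD j t) (fun j hj t => sig_nG hD T φ hj t) ht

theorem sig_hB {t : K} (ht : φ^[J.length] t = t) : sig T φ (hB hD φ J t) = hB hD φ J t :=
  sig_PB_fixed hD T φ hJ (fun j t => hG_mem_rk1 hD j t) (fun j hj t => sig_hG hD T φ hj t) ht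

omit hJ hD in
theorem iter_one (n : ℕ) : φ^[n] 1 = 1 := by
  induction n with
  | zero => rfl
  | succ n ih => rw [Function.iterate_succ_apply, map_one, ih]

theorem sig_nR_block : sig T φ (nR hD K J) = nR hD K J := by
  rw [nR_eq_nB hD φ hJ.toOrthL]
  exact sig_nB hD T φ hJ (iter_one φ _)

omit hJ in
theorem chain_aux (τ : ℕ → K) : ∀ (J' : List ℕ) (j e : ℕ), (T.p j :: J'.map T.p = J' ++ [e]) →
    (∀ a ∈ j :: J', τ (T.p a) = φ (τ a)) →
    PX hD J' τ = xB hD φ J' (φ (τ j)) ∧ τ e = φ^[J'.length + 1] (τ j)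
  | [], j, e, h1, h2 => by
    simp only [List.map_nil, List.nil_append, List.cons.injEq, and_true] at h1
    refine ⟨rfl, ?_⟩
    rw [← h1, h2 j List.mem_cons_self]
    rfl
  | j1 :: J'', j, e, h1, h2 => by
    simp only [List.map_cons, List.cons_append, List.cons.injEq] at h1
    obtain ⟨e1, e2⟩ := h1
    obtain ⟨i1, i2⟩ := chain_aux τ J'' j1 e e2 (fun a ha => h2 a (List.mem_cons_of_mem _ ha))
    have e3 : τ j1 = φ (τ j) := by rw [← e1]; exact h2 j List.mem_cons_self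
    constructor
    · rw [PX_cons, i1, e3]
      rfl
    · rw [i2, e3, ← Function.iterate_succ_apply]
      rfl

/-- the fixed points of `σ` on `X_J` -/
theorem block_fixed {u : GL D.Idx K} (hu : u ∈ Uw D K (nR hD K J)) (hfix : sig T φ u = u) :
    ∃ t : K, φ^[J.length] t = t ∧ u = xB hD φ J t := by
  obtain ⟨τ, rfl⟩ := Uw_block_exists hD hJ.toOrthL hu
  have h1 : sig T φ (PX hD J τ) = PX hD (J.map T.p) (fun a => φ (τ (T.p^[5] a))) := by
    unfold PX
    rw [map_list_prod, List.map_map, List.map_map]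
    congr 1
    apply List.map_congr_left
    intro j hj
    simp only [Function.comp]
    rw [sig_x_simple hD T φ (hJ.lt j hj), T.six j (hJ.lt j hj)]
  rw [hJ.rot, ← PX_perm hD hJ.toOrthL (List.rotate_perm J 1).symm] at h1
  have h2 := PX_inj hD hJ.toOrthL (h1.symm.trans hfix)
  have h3 : ∀ j ∈ J, τ (T.p j) = φ (τ j) := by
    intro j hj
    have hm : T.p j ∈ J := by
      have : T.p j ∈ J.map T.p := List.mem_map_of_mem hj
      rw [hJ.rot, List.mem_rotate] at this
      exact this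
    rw [← h2 _ hm, T.six j (hJ.lt j hj)]
  obtain ⟨j, J', rfl⟩ := List.exists_cons_of_ne_nil hJ.ne
  have hrot := hJ.rot
  rw [List.rotate_cons_succ, List.rotate_zero, List.map_cons] at hrot
  obtain ⟨i1, i2⟩ := chain_aux hD T φ τ J' j j hrot h3
  exact ⟨τ j, i2.symm, by rw [PX_cons, i1]; rfl⟩

end

end Cfsg.Agent.Lib.Helper8
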