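import Cfsg.Agent.Lib.Helper8.Tw3

set_option autoImplicit false
set_option linter.unusedSectionVars false
set_option linter.unusedVariables false

namespace Cfsg.Agent.Lib.Helper8

open Cfsg Cfsg.Lie

section
variable {D : ChevalleyDatum} (hD : D ∈ allData) {tab tab' : List (ℕ × ℤ)} {r0 : List ℕ}
  (T : TwOK D tab tab' r0) {K : Type*} [Field K] (φ : K →+* K) (Bl : List (List ℕ))

/-- the twisted group -/
def twG : Subgroup (GL D.Idx K) :=
  Subgroup.closure {g | ∃ J ∈ Bl, ∃ t : K, φ^[J.length] t = t ∧ (g = xB hD φ J t ∨ g = yB hD φ J t)}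

/-- the fixed points of `σ` in `U_w⁻` -/
noncomputable def FU (n : GL D.Idx K) : Subgroup (GL D.Idx K) := Uw D K n ⊓ fixS T φ

include hD

theorem xB_mem_twG {J : List ℕ} (hJ : J ∈ Bl) {t : K} (ht : φ^[J.length] t = t) : xB hD φ J t ∈ twG hD φ Bl :=
  Subgroup.subset_closure ⟨J, hJ, t, ht, Or.inl rfl⟩

theorem yB_mem_twG {J : List ℕ} (hJ : J ∈ Bl) {t : K} (ht : φ^[J.length] t = t) : yB hD φ J t ∈ twG hD φ Bl :=
  Subgroup.subset_closure ⟨J, hJ, t, ht, Or.inr rfl⟩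

omit hD in
theorem iter_neg_inv (n : ℕ) {t : K} (ht : φ^[n] t = t) : φ^[n] (-t⁻¹) = -t⁻¹ := by
  rw [← RingHom.coe_pow] at ht ⊢
  rw [map_neg, map_inv₀, ht]

omit hD in
theorem iter_neg_one (n : ℕ) : φ^[n] (-1) = -1 := by
  rw [← RingHom.coe_pow, map_neg, map_one]

variable (hBl : ∀ J ∈ Bl, BlockOK D r0 J)
include hBl

theorem nB_mem_twG {J : List ℕ} (hJ : J ∈ Bl) {t : K} (ht : φ^[J.length] t = t) : nB hD φ J t ∈ twG hD φ Bl := by
  rw [nB_eq hD φ (hBl J hJ).toOrthL]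
  exact mul_mem (mul_mem (xB_mem_twG hD φ Bl hJ ht) (yB_mem_twG hD φ Bl hJ (iter_neg_inv φ _ ht)))
    (xB_mem_twG hD φ Bl hJ ht)

theorem hB_mem_twG {J : List ℕ} (hJ : J ∈ Bl) {t : K} (ht : φ^[J.length] t = t) : hB hD φ J t ∈ twG hD φ Bl := by
  rw [hB_eq hD φ (hBl J hJ).toOrthL]
  exact mul_mem (nB_mem_twG hD φ Bl hBl hJ ht) (nB_mem_twG hD φ Bl hBl hJ (iter_neg_one φ _))

theorem nR_block_mem {J : List ℕ} (hJ : J ∈ Bl) : nR hD K J ∈ twG hD φ Bl := by
  rw [nR_eq_nB hD φ (hBl J hJ).toOrthL]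
  exact nB_mem_twG hD φ Bl hBl hJ (iter_one φ _)

theorem twG_le_fixS : twG hD φ Bl ≤ fixS T φ := by
  rw [twG, Subgroup.closure_le]
  rintro g ⟨J, hJ, t, ht, rfl | rfl⟩
  · exact sig_xB hD T φ (hBl J hJ) ht
  · exact sig_yB hD T φ (hBl J hJ) ht

omit hBl in
theorem twG_le_group : twG hD φ Bl ≤ D.group K := by
  rw [twG, Subgroup.closure_le]
  rintro g ⟨J, hJ, t, ht, rfl | rfl⟩
  · exact PB_mem φ (fun j _ t => xG_mem_group hD _ t) t
  · exact PB_mem φ (fun j _ t => xG_mem_group hD _ t) t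

theorem flatten_lt {M : List (List ℕ)} (hM : ∀ J ∈ M, J ∈ Bl) : ∀ i ∈ M.flatten, i < D.rank := by
  intro i hi
  obtain ⟨J, hJ, hi⟩ := List.mem_flatten.mp hi
  exact (hBl J (hM J hJ)).lt i hi

theorem nR_flatten_mem : ∀ {M : List (List ℕ)}, (∀ J ∈ M, J ∈ Bl) → nR hD K M.flatten ∈ twG hD φ Bl
  | [], _ => one_mem _
  | J :: M, h => by
    rw [List.flatten_cons, nR_append]
    exact mul_mem (nR_flatten_mem (fun A hA => h A (List.mem_cons_of_mem _ hA)))
      (nR_block_mem hD φ Bl hBl (h J List.mem_cons_self))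

theorem sig_nR_flatten {M : List (List ℕ)} (hM : ∀ J ∈ M, J ∈ Bl) :
    sig T φ (nR hD K M.flatten) = nR hD K M.flatten :=
  twG_le_fixS hD T φ Bl hBl (nR_flatten_mem hD φ Bl hBl hM)

omit hBl in
theorem sig_mem_Uw {L : List ℕ} (hL : Red D L) (hs : sig T φ (nR hD K L) = nR hD K L) {u : GL D.Idx K}
    (hu : u ∈ Uw D K (nR hD K L)) : sig T φ u ∈ Uw D K (nR hD K L) := by
  apply mem_Uw_of hD hL (sig_mem_posU hD T φ (Uw_le_posU _ hu))
  have := sig_mem_negU hD T φ (conj_Uw_mem_negU hu)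
  rwa [map_mul, map_mul, map_inv, hs] at this

omit hBl in
/-- the parametrisation of the fixed points, one block at a time -/
theorem bstep_mem {J L : List ℕ} (hJ : BlockOK D r0 J) (hJL : Red D (J ++ L)) {c : GL D.Idx K}
    (hc : c ∈ FU T φ (nR hD K L)) {t : K} (ht : φ^[J.length] t = t) :
    (nR hD K J)⁻¹ * c * nR hD K J * xB hD φ J t ∈ FU T φ (nR hD K (J ++ L)) := by
  refine ⟨Uw_append_mem hD (hJ.toOrthL.red hD) hJL hc.1 (xB_mem_Uw hD φ hJ.toOrthL t), ?_⟩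
  show sig T φ _ = _
  rw [map_mul, map_mul, map_mul, map_inv, sig_nR_block hD T φ hJ, sig_xB hD T φ hJ ht]
  have : sig T φ c = c := hc.2
  rw [this]
  rfl

omit hBl in
theorem bstep_bijective {J L : List ℕ} (hJ : BlockOK D r0 J) (hL : Red D L) (hJL : Red D (J ++ L))
    (hs : sig T φ (nR hD K L) = nR hD K L) :
    Function.Bijective (fun x : ↥(FU T φ (nR hD K L)) × {t : K // φ^[J.length] t = t} =>
      (⟨(nR hD K J)⁻¹ * x.1 * nR hD K J * xB hD φ J x.2, bstep_mem hD T φ hJ hJL x.1.2 x.2.2⟩ :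
        ↥(FU T φ (nR hD K (J ++ L))))) := by
  constructor
  · rintro ⟨⟨c, hc⟩, ⟨t, ht⟩⟩ ⟨⟨c', hc'⟩, ⟨t', ht'⟩⟩ e
    have e1 : (nR hD K J)⁻¹ * c * nR hD K J * xB hD φ J t = (nR hD K J)⁻¹ * c' * nR hD K J * xB hD φ J t' :=
      congrArg Subtype.val e
    obtain ⟨rfl, e2⟩ := Uw_append_unique hD (Uw_le_posU _ hc.1) (Uw_le_posU _ hc'.1)
      (xB_mem_Uw hD φ hJ.toOrthL t) (xB_mem_Uw hD φ hJ.toOrthL t') e1
    have := xB_inj hD φ hJ.toOrthL hJ.ne e2
    subst this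
    rfl
  · rintro ⟨u, hu1, hu2⟩
    obtain ⟨c, hc, y, hy, rfl⟩ := Uw_append_exists hD (hJ.toOrthL.red hD) hJL hu1
    have hu3 : sig T φ ((nR hD K J)⁻¹ * c * nR hD K J * y) = (nR hD K J)⁻¹ * c * nR hD K J * y := hu2
    rw [map_mul, map_mul, map_mul, map_inv, sig_nR_block hD T φ hJ] at hu3
    obtain ⟨e1, e2⟩ := Uw_append_unique hD (sig_mem_posU hD T φ (Uw_le_posU _ hc)) (Uw_le_posU _ hc)
      (sig_mem_Uw hD T φ (hJ.toOrthL.red hD) (sig_nR_block hD T φ hJ) hy) hy hu3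
    obtain ⟨t, ht, rfl⟩ := block_fixed hD T φ hJ hy e2
    exact ⟨(⟨c, hc, e1⟩, ⟨t, ht⟩), rfl⟩

theorem FU_le_twG : ∀ {M : List (List ℕ)}, (∀ J ∈ M, J ∈ Bl) → Red D M.flatten →
    FU T φ (nR hD K M.flatten) ≤ twG hD φ Bl
  | [], _, _ => by
    intro u hu
    have h1 : u ∈ Uw D K 1 := hu.1
    rw [Uw_one hD, Subgroup.mem_bot] at h1
    rw [h1]; exact one_mem _
  | J :: M, h, hred => by
    have hM : ∀ A ∈ M, A ∈ Bl := fun A hA => h A (List.mem_cons_of_mem _ hA)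
    have hJ := h J List.mem_cons_self
    rw [List.flatten_cons] at hred ⊢
    have hred' : Red D M.flatten := by
      clear hJ h
      induction J with
      | nil => exact hred
      | cons a J ih => exact ih hred.2.2
    intro u hu
    obtain ⟨⟨⟨c, hc⟩, ⟨t, ht⟩⟩, e⟩ := (bstep_bijective hD T φ (hBl J hJ) hred' hred
      (sig_nR_flatten hD T φ Bl hBl hM)).2 ⟨u, hu⟩
    have e1 : (nR hD K J)⁻¹ * c * nR hD K J * xB hD φ J t = u := congrArg Subtype.val e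
    rw [← e1]
    have hn := nR_block_mem hD φ Bl hBl hJ
    exact mul_mem (mul_mem (mul_mem (inv_mem hn) (FU_le_twG hM hred' hc)) hn) (xB_mem_twG hD φ Bl hJ ht)

theorem card_FU {q : ℕ} (hq : ∀ J ∈ Bl, Nat.card {t : K // φ^[J.length] t = t} = q ^ J.length) :
    ∀ {M : List (List ℕ)}, (∀ J ∈ M, J ∈ Bl) → Red D M.flatten →
    Nat.card ↥(FU T φ (nR hD K M.flatten)) = q ^ M.flatten.length
  | [], _, _ => by
    have : FU T φ (nR hD K ([] : List (List ℕ)).flatten) = ⊥ := by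
      rw [eq_bot_iff]
      intro u hu
      have h1 : u ∈ Uw D K 1 := hu.1
      rwa [Uw_one hD] at h1
    rw [this]
    simp
  | J :: M, h, hred => by
    have hM : ∀ A ∈ M, A ∈ Bl := fun A hA => h A (List.mem_cons_of_mem _ hA)
    have hJ := h J List.mem_cons_self
    rw [List.flatten_cons] at hred ⊢
    have hred' : Red D M.flatten := by
      clear hJ h
      induction J with
      | nil => exact hred
      | cons a J ih => exact ih hred.2.2
    rw [← Nat.card_congr (Equiv.ofBijective _ (bstep_bijective hD T φ (hBl J hJ) hred' hred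
      (sig_nR_flatten hD T φ Bl hBl hM))), Nat.card_prod, card_FU hq hM hred', hq J hJ, List.length_append,
      pow_add, mul_comm]

omit hBl in
theorem Uw_eq_posU {L : List ℕ} (h : chkW0 D (nrowOf D) L = true) : Uw D K (nR hD K L) = D.posUnipotent K := by
  rw [chkW0, Bool.and_eq_true, List.all_eq_true, allR_iff] at h
  have hL : ∀ i ∈ L, i < D.rank := fun i hi => by
    have := h.1 i hi
    rwa [Nat.blt_eq] at this
  apply le_antisymm (Uw_le_posU _)
  rw [ChevalleyDatum.posUnipotent, Subgroup.closure_le]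
  rintro g ⟨r, t, hr, hg⟩
  rw [eq_xG hD hg]
  apply xG_mem_Uw hD (act_nR hD L hL) hr
  have h1 := h.2 r hr.1
  rw [wR9_eq hD _ hL hr.1, Bool.or_eq_true, Nat.blt_eq, Nat.blt_eq] at h1
  rw [isPos_iff hD] at hr
  rw [isNeg_iff hD]
  omega

/-- `U ∩ G¹` is the group of fixed points of `σ` on `U` -/
theorem posU_inf_twG {M : List (List ℕ)} (hM : ∀ J ∈ M, J ∈ Bl) (hred : Red D M.flatten)
    (h0 : chkW0 D (nrowOf D) M.flatten = true) :
    D.posUnipotent K ⊓ twG hD φ Bl = D.posUnipotent K ⊓ fixS T φ := by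
  apply le_antisymm (inf_le_inf_left _ (twG_le_fixS hD T φ Bl hBl))
  apply le_inf inf_le_left
  have := FU_le_twG hD T φ Bl hBl hM hred
  rwa [FU, Uw_eq_posU hD h0] at this

include T in
theorem card_posU_inf_twG {q : ℕ} (hq : ∀ J ∈ Bl, Nat.card {t : K // φ^[J.length] t = t} = q ^ J.length)
    {M : List (List ℕ)} (hM : ∀ J ∈ M, J ∈ Bl) (hred : Red D M.flatten)
    (h0 : chkW0 D (nrowOf D) M.flatten = true) :
    Nat.card ↥(D.posUnipotent K ⊓ twG hD φ Bl) = q ^ M.flatten.length := by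
  rw [posU_inf_twG hD T φ Bl hBl hM hred h0, ← card_FU hD T φ Bl hBl hq hM hred, FU, Uw_eq_posU hD h0]

end

end Cfsg.Agent.Lib.Helper8
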