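import Cfsg.Agent.Lib.Helper8.Tw4

set_option autoImplicit false
set_option linter.unusedSectionVars false
set_option linter.unusedVariables false

namespace Cfsg.Agent.Lib.Helper8

open Cfsg Cfsg.Lie

/-! ### the fixed points of the symmetry on the Weyl group -/

section
variable {D : ChevalleyDatum} (hD : D ∈ allData)
include hD

theorem cons_lt {j : ℕ} {L : List ℕ} (hj : j < D.rank) (hL : ∀ i ∈ L, i < D.rank) : ∀ i ∈ j :: L, i < D.rank := by
  intro i hi
  rcases List.mem_cons.mp hi with rfl | hi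
  · exact hj
  · exact hL i hi

theorem wR_neg_simple' {L : List ℕ} (hL : ∀ i ∈ L, i < D.rank) {j : ℕ} (hj : j < D.rank) :
    wR D (j :: L) (D.simple j) = D.neg (wR D L (D.simple j)) := by
  show wR D L (D.reflectRoot j (D.simple j)) = _
  rw [reflect_simple, (act_nR (F := ℚ) hD L hL).neg _ (simple_lt hD hj)]

theorem peel1 {L : List ℕ} (hL : Red D L) {j : ℕ} (hj : j < D.rank) (hneg : D.IsNegRoot (wR D L (D.simple j))) :
    ∃ M, Red D (j :: M) ∧ om (sP hD) (j :: M) = om (sP hD) L := by
  obtain ⟨M, hM, -, h, hh, e⟩ := exists_red (F := ℚ) hD (j :: L) (cons_lt hD hj hL.lt)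
  have e1 : om (sP hD) (j :: L) = om (sP hD) M := om_of_nR_eq hD (cons_lt hD hj hL.lt) hM.lt ⟨h, hh, e⟩
  refine ⟨M, ⟨hj, ?_, hM⟩, ?_⟩
  · rw [← (om_eq_iff hD (cons_lt hD hj hL.lt) hM.lt).mp e1 _ (simple_lt hD hj), wR_neg_simple' hD hL.lt hj]
    exact (isPos_neg_iff hD hneg.1).mpr hneg
  · show om (sP hD) M * sP hD j = _
    rw [← e1]
    show om (sP hD) L * sP hD j * sP hD j = _
    rw [mul_assoc, sP_sq, mul_one]

theorem peel : ∀ {J : List ℕ}, OrthL D J → ∀ {L : List ℕ}, Red D L →
    (∀ j ∈ J, D.IsNegRoot (wR D L (D.simple j))) → ∃ M, Red D (J ++ M) ∧ om (sP hD) (J ++ M) = om (sP hD) L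
  | [], _, L, hL, _ => ⟨L, hL, rfl⟩
  | j :: J, hJ, L, hL, hneg => by
    have hj := hJ.lt j List.mem_cons_self
    obtain ⟨M1, hM1, e1⟩ := peel1 hD hL hj (hneg j List.mem_cons_self)
    have h1 : ∀ a ∈ J, D.IsNegRoot (wR D M1 (D.simple a)) := by
      intro a ha
      have h2 := (om_eq_iff hD hM1.lt hL.lt).mp e1 _ (simple_lt hD (hJ.lt a (List.mem_cons_of_mem _ ha)))
      have h3 : wR D (j :: M1) (D.simple a) = wR D M1 (D.reflectRoot j (D.simple a)) := rfl
      rw [h3, hJ.refl j List.mem_cons_self a (List.mem_cons_of_mem _ ha) (hJ.head_ne a ha)] at h2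
      rw [h2]
      exact hneg a (List.mem_cons_of_mem _ ha)
    obtain ⟨M2, hM2, e2⟩ := peel hJ.tail hM1.2.2 h1
    refine ⟨M2, ⟨hj, ?_, hM2⟩, ?_⟩
    · show D.IsPosRoot (wR D (J ++ M2) (D.simple j))
      rw [(om_eq_iff hD hM2.lt hM1.2.2.lt).mp e2 _ (simple_lt hD hj)]
      exact hM1.2.1
    · show om (sP hD) (J ++ M2) * sP hD j = _
      rw [e2]
      exact e1

theorem red_of_append : ∀ {A L : List ℕ}, Red D (A ++ L) → Red D L
  | [], _, h => h
  | _ :: _, _, h => red_of_append h.2.2

end

section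
variable {D : ChevalleyDatum} (hD : D ∈ allData) {tab tab' : List (ℕ × ℤ)} {r0 : List ℕ}
  (T : TwOK D tab tab' r0)
include hD

theorem wR_map_rho : ∀ (L : List ℕ), (∀ i ∈ L, i < D.rank) → ∀ {s : ℕ}, s < D.nroots →
    wR D (L.map T.p) (T.rho s) = T.rho (wR D L s)
  | [], _, _, _ => rfl
  | i :: L, hL, s, hs => by
    show wR D (L.map T.p) (D.reflectRoot (T.p i) (T.rho s)) = T.rho (wR D L (D.reflectRoot i s))
    rw [T.equiv i (hL i List.mem_cons_self) s hs]
    exact wR_map_rho L (fun j hj => hL j (List.mem_cons_of_mem _ hj)) (reflect_lt hD (hL i List.mem_cons_self) hs)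

theorem om_map_congr {L L' : List ℕ} (hL : ∀ i ∈ L, i < D.rank) (hL' : ∀ i ∈ L', i < D.rank)
    (e : om (sP hD) L = om (sP hD) L') : om (sP hD) (L.map T.p) = om (sP hD) (L'.map T.p) := by
  rw [om_eq_iff hD (T.map_lt hL) (T.map_lt hL')]
  intro s hs
  obtain ⟨h1, h2⟩ := T.inv s hs
  have h3 : T.rho (gRho D.rank tab' s) = s := h2
  rw [← h3, wR_map_rho hD T L hL h1, wR_map_rho hD T L' hL' h1, (om_eq_iff hD hL hL').mp e _ h1]

theorem om_block {J : List ℕ} (hJ : BlockOK D r0 J) : om (sP hD) (J.map T.p) = om (sP hD) J := by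
  apply om_of_nR_eq (F := ℚ) hD (T.map_lt hJ.lt) hJ.lt
  refine ⟨1, one_mem _, ?_⟩
  rw [one_mul, ← sig_nR hD T (RingHom.id ℚ) J hJ.lt, sig_nR_block hD T (RingHom.id ℚ) hJ]

/-- every element of the Weyl group fixed by the symmetry is a reduced product of blocks -/
theorem descent (Bl : List (List ℕ)) (hBl : ∀ J ∈ Bl, BlockOK D r0 J) (hcov : ∀ i < D.rank, ∃ J ∈ Bl, i ∈ J)
    (horb : ∀ J ∈ Bl, ∀ i ∈ J, ∀ j ∈ J, j = i ∨ j = T.p i ∨ j = T.p (T.p i)) :
    ∀ (n : ℕ) (L : List ℕ), L.length = n → Red D L → om (sP hD) (L.map T.p) = om (sP hD) L →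
      ∃ M : List (List ℕ), (∀ J ∈ M, J ∈ Bl) ∧ Red D M.flatten ∧ om (sP hD) M.flatten = om (sP hD) L := by
  intro n
  induction n using Nat.strong_induction_on with
  | _ n ih =>
    intro L hn hL hst
    cases L with
    | nil => exact ⟨[], by simp, trivial, rfl⟩
    | cons p L' =>
      obtain ⟨hp, hpos, hL'⟩ := hL
      have hL : Red D (p :: L') := ⟨hp, hpos, hL'⟩
      obtain ⟨J, hJ, hpJ⟩ := hcov p hp
      have hstep : ∀ i < D.rank, D.IsNegRoot (wR D (p :: L') (D.simple i)) →
          D.IsNegRoot (wR D (p :: L') (D.simple (T.p i))) := by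
        intro i hi hneg
        have h1 := wR_map_rho hD T (p :: L') hL.lt (simple_lt hD hi)
        rw [(om_eq_iff hD (T.map_lt hL.lt) hL.lt).mp hst _ (T.rho_lt hD (simple_lt hD hi)), TwOK.rho,
          (T.smp i hi).2.1] at h1
        rw [h1]
        exact T.rho_neg hD hneg
      have h0 : D.IsNegRoot (wR D (p :: L') (D.simple p)) := by
        rw [wR_neg_simple' hD hL'.lt hp]
        exact (isNeg_neg_iff hD hpos.1).mpr hpos
      have hall : ∀ j ∈ J, D.IsNegRoot (wR D (p :: L') (D.simple j)) := by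
        intro j hj
        rcases horb J hJ p hpJ j hj with rfl | rfl | rfl
        · exact h0
        · exact hstep p hp h0
        · exact hstep _ (T.p_lt hp) (hstep p hp h0)
      obtain ⟨M', hM', e'⟩ := peel hD (hBl J hJ).toOrthL hL hall
      have hM'r : Red D M' := red_of_append hD hM'
      have hlen : (J ++ M').length = (p :: L').length := red_length_eq hD hM' hL e'
      have hJne : J.length ≠ 0 := fun h => (hBl J hJ).ne (List.length_eq_zero_iff.mp h)
      have hst' : om (sP hD) (M'.map T.p) = om (sP hD) M' := by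
        have h1 := om_map_congr hD T hM'.lt hL.lt e'
        rw [hst, ← e', List.map_append, om_append, om_append, om_block hD T (hBl J hJ)] at h1
        exact mul_right_cancel h1
      obtain ⟨M, hM1, hM2, hM3⟩ := ih M'.length (by rw [List.length_append] at hlen; omega) M' rfl hM'r hst'
      refine ⟨J :: M, ?_, ?_, ?_⟩
      · intro A hA
        rcases List.mem_cons.mp hA with rfl | hA
        · exact hJ
        · exact hM1 A hA
      · rw [List.flatten_cons]
        -- reducedness only depends on the action of the tail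
        have : ∀ (A : List ℕ), Red D (A ++ M') → Red D (A ++ M.flatten) := by
          intro A
          induction A with
          | nil => intro _; exact hM2
          | cons a A ihA =>
            rintro ⟨ha, hpa, hr⟩
            have hr' := ihA hr
            refine ⟨ha, ?_, hr'⟩
            have e3 : om (sP hD) (A ++ M.flatten) = om (sP hD) (A ++ M') := by
              rw [om_append, om_append, hM3]
            show D.IsPosRoot (wR D (A ++ M.flatten) (D.simple a))
            rw [(om_eq_iff hD hr'.lt hr.lt).mp e3 _ (simple_lt hD ha)]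
            exact hpa
        exact this J hM'
      · rw [List.flatten_cons, om_append, hM3, ← om_append]
        exact e'

end

end Cfsg.Agent.Lib.Helper8
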