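import Cfsg.Agent.Lib.Helper8.UwCard

set_option autoImplicit false
set_option linter.unusedSectionVars false
set_option linter.unusedVariables false

/-! Products of root subgroups along a list of roots closed under the commutator formula. -/

namespace Cfsg.Agent.Lib.Helper8

open Cfsg Cfsg.Lie

/-- `r :: L` is admissible -/
def ClosedCons (D : ChevalleyDatum) (r : ℕ) (L : List ℕ) : Prop :=
  r < D.nroots ∧ ∀ s ∈ L, s < D.nroots ∧ s ≠ r ∧ s ≠ D.neg r ∧ ∀ c ∈ D.commTerms r s, c.1 ∈ L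

def ClosedL (D : ChevalleyDatum) : List ℕ → Prop
  | [] => True
  | r :: L => ClosedCons D r L ∧ ClosedL D L

instance (D : ChevalleyDatum) (r : ℕ) (L : List ℕ) : Decidable (ClosedCons D r L) := by
  unfold ClosedCons; infer_instance

instance decClosedL (D : ChevalleyDatum) : ∀ L : List ℕ, Decidable (ClosedL D L)
  | [] => isTrue trivial
  | r :: L => by
    haveI := decClosedL D L
    unfold ClosedL; infer_instance

section
variable {D : ChevalleyDatum} (hD : D ∈ allData) {F : Type*} [Field F]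

/-- the subgroup generated by the root subgroups of a list -/
def NL (L : List ℕ) : Subgroup (GL D.Idx F) := Subgroup.closure {g | ∃ s ∈ L, ∃ t : F, g = xG hD F s t}

theorem xG_mem_NL {L : List ℕ} {s : ℕ} (hs : s ∈ L) (t : F) : xG hD F s t ∈ NL (F := F) hD L :=
  Subgroup.subset_closure ⟨s, hs, t, rfl⟩

theorem NL_nil : NL (F := F) hD [] = ⊥ := by
  rw [NL, Subgroup.closure_eq_bot_iff]
  rintro g ⟨s, hs, -⟩
  simp at hs

theorem xG_normalizes_NL {r : ℕ} {L : List ℕ} (h : ClosedCons D r L) (t : F) :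
    xG hD F r t ∈ Subgroup.normalizer (NL (F := F) hD L : Set (GL D.Idx F)) := by
  apply mem_normalizer_closure
  · rintro x ⟨s, hs, u, rfl⟩
    obtain ⟨h1, h2, h3, h4⟩ := h.2 s hs
    rw [conj_x_x hD h.1 h1 h2 h3]
    exact mul_mem (xG_mem_NL hD hs u) (commWord_mem hD (fun c hc a => xG_mem_NL hD (h4 c hc) a) _ _)
  · rintro x ⟨s, hs, u, rfl⟩
    obtain ⟨h1, h2, h3, h4⟩ := h.2 s hs
    rw [conj_inv_x_x hD h.1 h1 h2 h3]
    exact mul_mem (xG_mem_NL hD hs u) (commWord_mem hD (fun c hc a => xG_mem_NL hD (h4 c hc) a) _ _)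

theorem NL_cons_le (r : ℕ) (L : List ℕ) : NL (F := F) hD (r :: L) ≤ NL (F := F) hD L ⊔ D.rootSubgroup F r := by
  rw [NL, Subgroup.closure_le]
  rintro g ⟨s, hs, t, rfl⟩
  rcases List.mem_cons.mp hs with rfl | hs
  · exact (le_sup_right : D.rootSubgroup F s ≤ _) ((mem_rootSubgroup hD).mpr ⟨t, rfl⟩)
  · exact (le_sup_left : NL (F := F) hD L ≤ _) (xG_mem_NL hD hs t)

theorem NL_cons_mem {r : ℕ} {L : List ℕ} (h : ClosedCons D r L) {g : GL D.Idx F}
    (hg : g ∈ NL (F := F) hD (r :: L)) : ∃ t : F, ∃ g' ∈ NL (F := F) hD L, g = xG hD F r t * g' := by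
  have hn : D.rootSubgroup F r ≤ Subgroup.normalizer (NL (F := F) hD L : Set (GL D.Idx F)) := by
    intro x hx
    obtain ⟨t, rfl⟩ := (mem_rootSubgroup hD).mp hx
    exact xG_normalizes_NL hD h t
  obtain ⟨u, hu, x, hx, rfl⟩ := mem_sup_of_normalizes hn (NL_cons_le hD r L hg)
  obtain ⟨t, rfl⟩ := (mem_rootSubgroup hD).mp hx
  refine ⟨t, (xG hD F r t)⁻¹ * u * xG hD F r t, ?_, by group⟩
  have h1 := xG_normalizes_NL hD h (-t)
  rw [← xG_inv, Subgroup.mem_normalizer_iff] at h1
  have := (h1 u).mp hu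
  rwa [inv_inv] at this

theorem NL_normal_form : ∀ {L : List ℕ}, ClosedL D L → ∀ {g : GL D.Idx F}, g ∈ NL (F := F) hD L →
    ∃ τ : ℕ → F, g = wG hD (L.map fun r => (r, τ r))
  | [], _, g, hg => by
    rw [NL_nil, Subgroup.mem_bot] at hg
    exact ⟨fun _ => 0, hg⟩
  | r :: L, h, g, hg => by
    obtain ⟨t, g', hg', rfl⟩ := NL_cons_mem hD h.1 hg
    obtain ⟨τ, rfl⟩ := NL_normal_form h.2 hg'
    refine ⟨Function.update τ r t, ?_⟩
    have h1 : (L.map fun s => (s, Function.update τ r t s)) = L.map fun s => (s, τ s) := by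
      apply List.map_congr_left
      intro s hs
      rw [Function.update_of_ne (h.1.2 s hs).2.1]
    rw [List.map_cons, h1, Function.update_self]
    rfl

end

end Cfsg.Agent.Lib.Helper8
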