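import Cfsg.Agent.Lib.Helper8.NStruct2
import Cfsg.Agent.Lib.Helper8.FactComm

set_option autoImplicit false

namespace Cfsg.Agent.Lib.Helper8

open Cfsg Cfsg.Lie

/-- membership in the normaliser of a generated subgroup -/
theorem mem_normalizer_closure {G : Type*} [Group G] {g : G} {s : Set G}
    (h1 : ∀ x ∈ s, g * x * g⁻¹ ∈ Subgroup.closure s) (h2 : ∀ x ∈ s, g⁻¹ * x * g ∈ Subgroup.closure s) :
    g ∈ Subgroup.normalizer (Subgroup.closure s : Set G) := by
  have key : ∀ a : G, (∀ x ∈ s, a * x * a⁻¹ ∈ Subgroup.closure s) →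
      ∀ y ∈ Subgroup.closure s, a * y * a⁻¹ ∈ Subgroup.closure s := by
    intro a ha y hy
    induction hy using Subgroup.closure_induction with
    | mem x hx => exact ha x hx
    | one => simp
    | mul x y _ _ hx hy =>
      have : a * (x * y) * a⁻¹ = (a * x * a⁻¹) * (a * y * a⁻¹) := by group
      rw [this]; exact Subgroup.mul_mem _ hx hy
    | inv x _ hx =>
      have : a * x⁻¹ * a⁻¹ = (a * x * a⁻¹)⁻¹ := by group
      rw [this]; exact Subgroup.inv_mem _ hx
  rw [Subgroup.mem_normalizer_iff]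
  intro h
  refine ⟨key g h1 h, fun hh => ?_⟩
  have := key g⁻¹ (by simpa using h2) _ hh
  have e : g⁻¹ * (g * h * g⁻¹) * g⁻¹⁻¹ = h := by group
  rwa [e] at this

/-! ### words as elements of the general linear group -/

section
variable {D : ChevalleyDatum} (hD : D ∈ allData) {F : Type*} [Field F]

def wG (L : List (ℕ × F)) : GL D.Idx F := (L.map fun p => xG hD F p.1 p.2).prod

@[simp] theorem wG_coe (L : List (ℕ × F)) :
    ((wG hD L : GL D.Idx F) : Matrix D.Idx D.Idx F) = D.wordMat F L := by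
  induction L with
  | nil => rfl
  | cons p L ih =>
    rw [wordMat_cons, ← ih]
    simp [wG]

theorem wG_mem {K : Subgroup (GL D.Idx F)} {L : List (ℕ × F)} (h : ∀ p ∈ L, xG hD F p.1 p.2 ∈ K) :
    wG hD L ∈ K := by
  apply Subgroup.list_prod_mem
  intro x hx
  simp only [List.mem_map] at hx
  obtain ⟨p, hp, rfl⟩ := hx
  exact h p hp

/-- `x_r(t)⁻¹ x_s(u) x_r(t) = x_s(u) ∏ x_{ir+js}(…)` -/
theorem conj_inv_x_x {r s : ℕ} (hr : r < D.nroots) (hs : s < D.nroots) (hrs : s ≠ r) (hneg : s ≠ D.neg r)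
    (t u : F) :
    (xG hD F r t)⁻¹ * xG hD F s u * xG hD F r t = xG hD F s u * wG hD (D.commWord F r s t u) := by
  have h : xG hD F s u * xG hD F r t = xG hD F r t * xG hD F s u * wG hD (D.commWord F r s t u) := by
    apply Units.ext
    simp only [Units.val_mul, xG_coe, wG_coe]
    exact comm_formula hD hr hs hrs hneg t u
  rw [mul_assoc, h]
  group

theorem conj_x_x {r s : ℕ} (hr : r < D.nroots) (hs : s < D.nroots) (hrs : s ≠ r) (hneg : s ≠ D.neg r)
    (t u : F) :
    xG hD F r t * xG hD F s u * (xG hD F r t)⁻¹ = xG hD F s u * wG hD (D.commWord F r s (-t) u) := by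
  have := conj_inv_x_x hD hr hs hrs hneg (-t) u
  rwa [← xG_inv, inv_inv] at this

theorem commWord_mem {K : Subgroup (GL D.Idx F)} {r s : ℕ}
    (h : ∀ c ∈ D.commTerms r s, ∀ a : F, xG hD F c.1 a ∈ K) (t u : F) :
    wG hD (D.commWord F r s t u) ∈ K := by
  apply wG_mem
  intro p hp
  simp only [ChevalleyDatum.commWord, List.mem_map] at hp
  obtain ⟨c, hc, rfl⟩ := hp
  exact h c hc _

theorem mem_rootSubgroup {r : ℕ} {g : GL D.Idx F} : g ∈ D.rootSubgroup F r ↔ ∃ t, g = xG hD F r t := by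
  constructor
  · intro hg
    induction hg using Subgroup.closure_induction with
    | mem x hx => obtain ⟨t, ht⟩ := hx; exact ⟨t, eq_xG hD ht⟩
    | one => exact ⟨0, (xG_zero hD r).symm⟩
    | mul x y _ _ hx hy =>
      obtain ⟨t, rfl⟩ := hx
      obtain ⟨u, rfl⟩ := hy
      exact ⟨t + u, xG_mul hD r t u⟩
    | inv x _ hx =>
      obtain ⟨t, rfl⟩ := hx
      exact ⟨-t, xG_inv hD r t⟩
  · rintro ⟨t, rfl⟩
    exact Subgroup.subset_closure ⟨t, rfl⟩

end

/-! ### the subgroup `U_p` for a fundamental root `p` -/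

def okUi (n p : ℕ) (T : List (ℕ × ℤ × ℕ × ℕ)) : Bool :=
  T.all fun c => Nat.ble (n / 2) c.1 && (Nat.blt c.1 n && !(Nat.beq c.1 p))

noncomputable def chkUi (D : ChevalleyDatum) (get : ℕ → RootRec) : Bool :=
  allR (fun i => allR (fun s => Nat.blt s (D.nroots / 2) || (Nat.beq s (D.simple i) ||
    (okUi D.nroots (D.simple i) (commTermsF (entryF D.rank D.nroots get) (D.simple i) s) &&
     okUi D.nroots (D.simple i) (commTermsF (entryF D.rank D.nroots get) (D.neg (D.simple i)) s))))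
    D.nroots) D.rank

theorem chkUi_all : ∀ D ∈ allData, chkUi D (getOf D) = true := by
  apply all_of <;> decide +kernel

section
variable {D : ChevalleyDatum} (hD : D ∈ allData) {F : Type*} [Field F]
include hD

theorem commTerms_eq' (r s : ℕ) :
    D.commTerms r s = commTermsF (entryF D.rank D.nroots (getOf D)) r s := by
  obtain ⟨base, hsz, -, -⟩ := cCm_all hD
  exact commTerms_eq D _ (chainEntry_eq (treeOf_ok hD) hsz) r s

theorem commTerms_Ui {i s : ℕ} (hi : i < D.rank) (hs : D.IsPosRoot s) (hne : s ≠ D.simple i) :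
    (∀ c ∈ D.commTerms (D.simple i) s, D.IsPosRoot c.1 ∧ c.1 ≠ D.simple i) ∧
    (∀ c ∈ D.commTerms (D.neg (D.simple i)) s, D.IsPosRoot c.1 ∧ c.1 ≠ D.simple i) := by
  have h := chkUi_all D hD
  simp only [chkUi, allR_iff] at h
  have h1 := h i hi s hs.1
  rw [isPos_iff hD] at hs
  simp only [Bool.or_eq_true, Bool.and_eq_true, Nat.blt_eq, Nat.beq_eq, okUi, List.all_eq_true,
    Nat.ble_eq, Bool.not_eq_true'] at h1
  rcases h1 with h1 | h1 | ⟨h1, h2⟩
  · omega
  · exact absurd h1 hne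
  · rw [commTerms_eq' hD, commTerms_eq' hD]
    constructor
    · intro c hc
      obtain ⟨a1, a2, a3⟩ := h1 c hc
      exact ⟨(isPos_iff hD).mpr ⟨a1, a2⟩, fun hh => by rw [hh, Nat.beq_refl] at a3; simp at a3⟩
    · intro c hc
      obtain ⟨a1, a2, a3⟩ := h2 c hc
      exact ⟨(isPos_iff hD).mpr ⟨a1, a2⟩, fun hh => by rw [hh, Nat.beq_refl] at a3; simp at a3⟩

end

/-- the subgroup `U_p` generated by the positive root subgroups other than `X_p` -/
def Ui (D : ChevalleyDatum) (F : Type*) [Field F] (i : ℕ) : Subgroup (GL D.Idx F) :=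
  Subgroup.closure {g : GL D.Idx F | ∃ (s : ℕ) (t : F), D.IsPosRoot s ∧ s ≠ D.simple i ∧
    (g : Matrix D.Idx D.Idx F) = D.x F s t}

section
variable {D : ChevalleyDatum} (hD : D ∈ allData) {F : Type*} [Field F]
include hD

theorem xG_mem_Ui {i s : ℕ} (hs : D.IsPosRoot s) (hne : s ≠ D.simple i) (t : F) :
    xG hD F s t ∈ Ui D F i := Subgroup.subset_closure ⟨s, t, hs, hne, rfl⟩

theorem pos_ne_neg_simple {i s : ℕ} (hi : i < D.rank) (hs : D.IsPosRoot s) : s ≠ D.neg (D.simple i) := by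
  intro h
  have := (isNeg_neg_iff hD (simple_lt hD hi)).mpr (simple_pos hD hi)
  rw [← h] at this
  exact not_pos_and_neg hD hs this

theorem xG_simple_mem_normalizer {i : ℕ} (hi : i < D.rank) (t : F) :
    xG hD F (D.simple i) t ∈ Subgroup.normalizer (Ui D F i : Set (GL D.Idx F)) ∧
    xG hD F (D.neg (D.simple i)) t ∈ Subgroup.normalizer (Ui D F i : Set (GL D.Idx F)) := by
  have hp := simple_lt hD hi
  have hnp := neg_lt' hD _ hp
  constructor
  · apply mem_normalizer_closure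
    · rintro x ⟨s, u, hs, hne, hx⟩
      rw [eq_xG hD hx, conj_x_x hD hp hs.1 hne (pos_ne_neg_simple hD hi hs)]
      exact Subgroup.mul_mem _ (xG_mem_Ui hD hs hne u) (commWord_mem hD
        (fun c hc a => xG_mem_Ui hD ((commTerms_Ui hD hi hs hne).1 c hc).1
          ((commTerms_Ui hD hi hs hne).1 c hc).2 a) _ _)
    · rintro x ⟨s, u, hs, hne, hx⟩
      rw [eq_xG hD hx, conj_inv_x_x hD hp hs.1 hne (pos_ne_neg_simple hD hi hs)]
      exact Subgroup.mul_mem _ (xG_mem_Ui hD hs hne u) (commWord_mem hD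
        (fun c hc a => xG_mem_Ui hD ((commTerms_Ui hD hi hs hne).1 c hc).1
          ((commTerms_Ui hD hi hs hne).1 c hc).2 a) _ _)
  · apply mem_normalizer_closure
    · rintro x ⟨s, u, hs, hne, hx⟩
      rw [eq_xG hD hx, conj_x_x hD hnp hs.1 (pos_ne_neg_simple hD hi hs) (by rw [neg_neg' hD hp]; exact hne)]
      exact Subgroup.mul_mem _ (xG_mem_Ui hD hs hne u) (commWord_mem hD
        (fun c hc a => xG_mem_Ui hD ((commTerms_Ui hD hi hs hne).2 c hc).1
          ((commTerms_Ui hD hi hs hne).2 c hc).2 a) _ _)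
    · rintro x ⟨s, u, hs, hne, hx⟩
      rw [eq_xG hD hx, conj_inv_x_x hD hnp hs.1 (pos_ne_neg_simple hD hi hs)
        (by rw [neg_neg' hD hp]; exact hne)]
      exact Subgroup.mul_mem _ (xG_mem_Ui hD hs hne u) (commWord_mem hD
        (fun c hc a => xG_mem_Ui hD ((commTerms_Ui hD hi hs hne).2 c hc).1
          ((commTerms_Ui hD hi hs hne).2 c hc).2 a) _ _)

theorem rootPair_le_normalizer_Ui {i : ℕ} (hi : i < D.rank) :
    D.rootSubgroup F (D.simple i) ⊔ D.rootSubgroup F (D.neg (D.simple i)) ≤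
      Subgroup.normalizer (Ui D F i : Set (GL D.Idx F)) := by
  apply sup_le
  · intro g hg
    obtain ⟨t, rfl⟩ := (mem_rootSubgroup hD).mp hg
    exact (xG_simple_mem_normalizer hD hi t).1
  · intro g hg
    obtain ⟨t, rfl⟩ := (mem_rootSubgroup hD).mp hg
    exact (xG_simple_mem_normalizer hD hi t).2

theorem Ui_sup_root {i : ℕ} (hi : i < D.rank) :
    Ui D F i ⊔ D.rootSubgroup F (D.simple i) = D.posUnipotent F := by
  apply le_antisymm
  · apply sup_le
    · rw [Ui, Subgroup.closure_le]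
      rintro g ⟨s, t, hs, _, hg⟩
      exact Subgroup.subset_closure ⟨s, t, hs, hg⟩
    · rw [ChevalleyDatum.rootSubgroup, Subgroup.closure_le]
      rintro g ⟨t, hg⟩
      exact Subgroup.subset_closure ⟨_, t, simple_pos hD hi, hg⟩
  · rw [ChevalleyDatum.posUnipotent, Subgroup.closure_le]
    rintro g ⟨s, t, hs, hg⟩
    by_cases h : s = D.simple i
    · subst h
      exact (le_sup_right : _ ≤ Ui D F i ⊔ D.rootSubgroup F (D.simple i)) (Subgroup.subset_closure ⟨t, hg⟩)
    · exact (le_sup_left : _ ≤ Ui D F i ⊔ D.rootSubgroup F (D.simple i))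
        (Subgroup.subset_closure ⟨s, t, hs, h, hg⟩)

end

end Cfsg.Agent.Lib.Helper8
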