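import Cfsg.Agent.Lib.Helper8.Bruhat

set_option autoImplicit false
set_option linter.unusedSectionVars false

namespace Cfsg.Agent.Lib.Helper8

open Cfsg Cfsg.Lie

noncomputable def chkRed (D : ChevalleyDatum) (nrow : ℕ → ℕ) (L : List ℕ) : Bool :=
  List.rec true (fun p L ih => Nat.blt p D.rank && (Nat.ble (D.nroots / 2) (wR9 nrow L (D.simple p)) && ih)) L

theorem chkRed_cons (D : ChevalleyDatum) (nrow : ℕ → ℕ) (p : ℕ) (L : List ℕ) :
    chkRed D nrow (p :: L) =
      (Nat.blt p D.rank && (Nat.ble (D.nroots / 2) (wR9 nrow L (D.simple p)) && chkRed D nrow L)) := rfl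

theorem chkRedW0_all : ∀ D ∈ allData, (chkRed D (nrowOf D) (w0Of D) && Nat.beq (w0Of D).length (D.nroots / 2)) = true := by
  apply all_of <;> decide +kernel

section
variable {D : ChevalleyDatum} (hD : D ∈ allData) {F : Type*} [Field F]
include hD

theorem chkRed_spec {L : List ℕ} (h : chkRed D (nrowOf D) L = true) : Red D L := by
  induction L with
  | nil => trivial
  | cons p L ih =>
    rw [chkRed_cons, Bool.and_eq_true, Bool.and_eq_true, Nat.blt_eq, Nat.ble_eq] at h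
    obtain ⟨h1, h2, h3⟩ := h
    have hr := ih h3
    refine ⟨h1, ?_, hr⟩
    rw [wR9_eq hD L hr.lt (simple_lt hD h1)] at h2
    exact (isPos_iff hD).mpr ⟨h2, (act_nR (F := ℚ) hD L hr.lt).lt _ (simple_lt hD h1)⟩

theorem w0_red : Red D (w0Of D) := by
  have h := chkRedW0_all D hD
  rw [Bool.and_eq_true] at h
  exact chkRed_spec hD h.1

theorem w0_length : (w0Of D).length = D.nroots / 2 := by
  have h := chkRedW0_all D hD
  rw [Bool.and_eq_true, Nat.beq_eq] at h
  exact h.2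

theorem act_one : Act hD (1 : GL D.Idx F) id := by
  refine ⟨fun _ h => h, fun _ _ => rfl, fun s _ => ⟨1, fun t => ?_⟩⟩
  simp

theorem Uw_one : Uw D F 1 = ⊥ := by
  rw [eq_bot_iff]
  apply Uw_le hD (act_one hD)
  intro r hr hneg
  exact absurd hneg (fun h => not_pos_and_neg hD hr h)

/-- `U_w⁻` only depends on the action on the roots -/
theorem Uw_congr {n n' : GL D.Idx F} {π π' : ℕ → ℕ} (h : Act hD n π) (h' : Act hD n' π')
    (e : ∀ s < D.nroots, π s = π' s) : Uw D F n = Uw D F n' := by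
  apply le_antisymm
  · apply Uw_le hD h
    intro r hr hneg t
    exact xG_mem_Uw hD h' hr (by rw [← e r hr.1]; exact hneg) t
  · apply Uw_le hD h'
    intro r hr hneg t
    exact xG_mem_Uw hD h hr (by rw [e r hr.1]; exact hneg) t

theorem Uw_diag_mul {h n : GL D.Idx F} (hh : h ∈ D.diagonalSubgroup F) (hn : n ∈ D.monomialSubgroup F) :
    Uw D F (h * n) = Uw D F n := by
  obtain ⟨π, hπ⟩ := exists_act hD hn
  rw [diag_eq_torus hD] at hh
  obtain ⟨c, rfl⟩ := hh
  exact Uw_congr hD ((act_tG hD c).mul hπ) hπ (fun _ _ => rfl)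

theorem Uw_n0 : Uw D F (n0 hD F) = D.posUnipotent F := by
  apply le_antisymm (Uw_le_posU _)
  rw [ChevalleyDatum.posUnipotent, Subgroup.closure_le]
  rintro g ⟨r, t, hr, hg⟩
  rw [eq_xG hD hg]
  exact xG_mem_Uw hD (act_n0 hD) hr (w0_pos hD hr) t

/-- the parametrisation `U_w⁻ × F → U_{w s_p}⁻` -/
def stepMap {L : List ℕ} (hL : ∀ i ∈ L, i < D.rank) {p : ℕ} (hp : p < D.rank)
    (hpos : D.IsPosRoot (wR D L (D.simple p))) (x : ↥(Uw D F (nR hD F L)) × F) :
    ↥(Uw D F (nR hD F (p :: L))) :=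
  ⟨(nS hD F p)⁻¹ * x.1 * nS hD F p * xG hD F (D.simple p) x.2,
    Subgroup.mul_mem _ (conj_Uw_step hD hL hp hpos x.1.2) (xG_simple_mem_Uw hD hL hp hpos x.2)⟩

theorem stepMap_bijective {L : List ℕ} (hL : Red D L) {p : ℕ} (hp : p < D.rank)
    (hpos : D.IsPosRoot (wR D L (D.simple p))) :
    Function.Bijective (stepMap (F := F) hD hL.lt hp hpos) := by
  constructor
  · rintro ⟨⟨c1, hc1⟩, t1⟩ ⟨⟨c2, hc2⟩, t2⟩ e
    have e1 : (nS hD F p)⁻¹ * c1 * nS hD F p * xG hD F (D.simple p) t1 =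
        (nS hD F p)⁻¹ * c2 * nS hD F p * xG hD F (D.simple p) t2 := congrArg Subtype.val e
    have e2 : c2⁻¹ * c1 = nS hD F p * xG hD F (D.simple p) (t2 + -t1) * (nS hD F p)⁻¹ := by
      rw [← xG_mul, ← xG_inv]
      have : c1 = nS hD F p * ((nS hD F p)⁻¹ * c1 * nS hD F p * xG hD F (D.simple p) t1) *
          (xG hD F (D.simple p) t1)⁻¹ * (nS hD F p)⁻¹ := by group
      rw [this, e1]
      group
    rw [nS_x_simple hD hp, mul_inv_cancel_right] at e2
    have h2 : c2⁻¹ * c1 ∈ D.borelSubgroup F ⊓ D.negUnipotent F := by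
      refine ⟨posU_le_borel hD (Subgroup.mul_mem _ (Subgroup.inv_mem _ (Uw_le_posU _ hc2)) (Uw_le_posU _ hc1)), ?_⟩
      rw [e2]
      exact xG_mem_negU hD ((isNeg_neg_iff hD (simple_lt hD hp)).mpr (simple_pos hD hp)) _
    rw [borel_inf_negU hD, Subgroup.mem_bot] at h2
    have h3 : c1 = c2 := by
      have := congrArg (fun z => c2 * z) h2
      simpa using this
    rw [h2] at e2
    have h4 := (xG_eq_one_iff hD (neg_lt' hD _ (simple_lt hD hp)) _).mp e2.symm
    have h5 : t1 = t2 := by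
      have : t1 + -t2 = 0 := by simpa using h4
      rw [add_neg_eq_zero] at this
      exact this
    subst h3 h5
    rfl
  · rintro ⟨u, hu⟩
    obtain ⟨y, hy, t, rfl⟩ := mem_posU_split hD hp (Uw_le_posU _ hu)
    have hy' := nS_conj_Ui hD hp hy
    obtain ⟨a, ha, c, hc, hna, e⟩ := Uw_factor (F := F) hD hL (Ui_le_posU hD p hy')
    have hc' := conj_Uw_step hD hL.lt hp hpos hc
    have hx := xG_simple_mem_Uw hD hL.lt hp hpos t
    have ey : y = ((nS hD F p)⁻¹ * a * nS hD F p) * ((nS hD F p)⁻¹ * c * nS hD F p) := by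
      have : y = (nS hD F p)⁻¹ * (nS hD F p * y * (nS hD F p)⁻¹) * nS hD F p := by group
      rw [this, e]
      group
    -- the factor `a` is trivial
    have ha' : (nS hD F p)⁻¹ * a * nS hD F p ∈ Uw D F (nR hD F (p :: L)) := by
      have : (nS hD F p)⁻¹ * a * nS hD F p = (y * xG hD F (D.simple p) t) *
          (((nS hD F p)⁻¹ * c * nS hD F p) * xG hD F (D.simple p) t)⁻¹ := by
        rw [ey]; group
      rw [this]
      exact Subgroup.mul_mem _ hu (Subgroup.inv_mem _ (Subgroup.mul_mem _ hc' hx))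
    have h1 := conj_Uw_mem_negU ha'
    have h2 : nR hD F (p :: L) * ((nS hD F p)⁻¹ * a * nS hD F p) * (nR hD F (p :: L))⁻¹ =
        nR hD F L * a * (nR hD F L)⁻¹ := by
      show nR hD F L * nS hD F p * ((nS hD F p)⁻¹ * a * nS hD F p) * (nR hD F L * nS hD F p)⁻¹ = _
      group
    rw [h2] at h1
    have h3 : nR hD F L * a * (nR hD F L)⁻¹ ∈ D.borelSubgroup F ⊓ D.negUnipotent F :=
      ⟨posU_le_borel hD hna, h1⟩
    rw [borel_inf_negU hD, Subgroup.mem_bot] at h3
    have h4 : a = 1 := by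
      have := congrArg (fun z => (nR hD F L)⁻¹ * z * nR hD F L) h3
      simpa [mul_assoc] using this
    refine ⟨(⟨c, hc⟩, t), ?_⟩
    apply Subtype.ext
    show (nS hD F p)⁻¹ * c * nS hD F p * xG hD F (D.simple p) t = y * xG hD F (D.simple p) t
    rw [ey, h4]
    group

theorem card_Uw [Fintype F] {L : List ℕ} (hL : Red D L) :
    Nat.card ↥(Uw D F (nR hD F L)) = Fintype.card F ^ L.length := by
  induction L with
  | nil =>
    show Nat.card ↥(Uw D F 1) = _
    rw [Uw_one hD]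
    simp
  | cons p L ih =>
    obtain ⟨hp, hpos, hred⟩ := hL
    rw [← Nat.card_congr (Equiv.ofBijective _ (stepMap_bijective (F := F) hD hred hp hpos)), Nat.card_prod,
      ih hred, Nat.card_eq_fintype_card, List.length_cons, pow_succ]

theorem card_posU [Fintype F] : Nat.card ↥(D.posUnipotent F) = Fintype.card F ^ (D.nroots / 2) := by
  rw [← Uw_n0 hD, n0, card_Uw hD (w0_red hD), w0_length hD]

theorem card_borel [Fintype F] :
    Nat.card ↥(D.borelSubgroup F) = Fintype.card F ^ (D.nroots / 2) * Nat.card ↥(D.diagonalSubgroup F) := by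
  rw [← card_posU hD, ← Nat.card_prod]
  symm
  refine Nat.card_congr (Equiv.ofBijective
    (fun x : ↥(D.posUnipotent F) × ↥(D.diagonalSubgroup F) =>
      (⟨x.1 * x.2, Subgroup.mul_mem _ (posU_le_borel hD x.1.2) (diag_le_borel hD x.2.2)⟩ :
        ↥(D.borelSubgroup F))) ⟨?_, ?_⟩)
  · rintro ⟨⟨u1, hu1⟩, ⟨h1, hh1⟩⟩ ⟨⟨u2, hu2⟩, ⟨h2, hh2⟩⟩ e
    have e1 : u1 * h1 = u2 * h2 := congrArg Subtype.val e
    have e2 : u2⁻¹ * u1 = h2 * h1⁻¹ := by
      have : u1 = u2 * h2 * h1⁻¹ := by rw [← e1]; group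
      rw [this]; group
    have h3 : u2⁻¹ * u1 ∈ D.posUnipotent F ⊓ D.diagonalSubgroup F :=
      ⟨Subgroup.mul_mem _ (Subgroup.inv_mem _ hu2) hu1, by
        rw [e2]; exact Subgroup.mul_mem _ hh2 (Subgroup.inv_mem _ hh1)⟩
    rw [posU_inf_diag hD, Subgroup.mem_bot] at h3
    have h4 : u1 = u2 := by
      have := congrArg (fun z => u2 * z) h3
      simpa using this
    subst h4
    have h5 : h1 = h2 := mul_left_cancel e1
    subst h5
    rfl
  · rintro ⟨b, hb⟩
    obtain ⟨u, hu, h, hh, rfl⟩ := mem_borel hD hb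
    exact ⟨(⟨u, hu⟩, ⟨h, hh⟩), rfl⟩

/-- the order of the group from a system of reduced representatives of the Weyl group -/
theorem card_group_of_reps [Fintype F] (T : Finset (List ℕ)) (hR : ∀ t ∈ T, Red D t)
    (hC : ∀ L : List ℕ, (∀ i ∈ L, i < D.rank) → ∃ t ∈ T, ∃ h ∈ D.diagonalSubgroup F, nR hD F L = h * nR hD F t)
    (hU : ∀ t ∈ T, ∀ t' ∈ T, (∃ h ∈ D.diagonalSubgroup F, nR hD F t = h * nR hD F t') → t = t') :
    Nat.card ↥(D.group F) = Fintype.card F ^ (D.nroots / 2) * Nat.card ↥(D.diagonalSubgroup F) *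
      ∑ t ∈ T, Fintype.card F ^ t.length := by
  have hmem : ∀ (t : T) (x : ↥(D.borelSubgroup F) × ↥(Uw D F (nR hD F t.1))),
      (x.1 : GL D.Idx F) * nR hD F t.1 * x.2 ∈ D.group F := fun t x =>
    Subgroup.mul_mem _ (Subgroup.mul_mem _ (borel_le_group hD x.1.2)
      (mono_le_group hD (nR_mem_mono hD _ (hR t.1 t.2).lt))) (posU_le_group hD (Uw_le_posU _ x.2.2))
  have key : Function.Bijective (fun x : (Σ t : T, ↥(D.borelSubgroup F) × ↥(Uw D F (nR hD F t.1))) =>
      (⟨(x.2.1 : GL D.Idx F) * nR hD F x.1.1 * x.2.2, hmem x.1 x.2⟩ : ↥(D.group F))) := by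
    constructor
    · rintro ⟨⟨t, ht⟩, ⟨b, hb⟩, ⟨u, hu⟩⟩ ⟨⟨t', ht'⟩, ⟨b', hb'⟩, ⟨u', hu'⟩⟩ e
      have e1 : b * nR hD F t * u = b' * nR hD F t' * u' := congrArg Subtype.val e
      have hm := nR_mem_mono (F := F) hD t (hR t ht).lt
      have hm' := nR_mem_mono (F := F) hD t' (hR t' ht').lt
      have h1 := bruhat_unique hD hm hm' hb hb' (posU_le_borel hD (Uw_le_posU _ hu))
        (posU_le_borel hD (Uw_le_posU _ hu')) e1
      have h2 : t' = t := by
        apply hU t' ht' t ht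
        refine ⟨nR hD F t * ((nR hD F t)⁻¹ * nR hD F t') * (nR hD F t)⁻¹, mono_conj_diag hD hm h1, ?_⟩
        group
      subst h2
      obtain ⟨rfl, rfl⟩ := normal_form_unique hD hb hb' hu hu' e1
      rfl
    · rintro ⟨g, hg⟩
      obtain ⟨b, hb, L, hL, u, hu, rfl⟩ := normal_form_exists hD hg
      obtain ⟨t, ht, h, hh, e⟩ := hC L hL.lt
      have hm := nR_mem_mono (F := F) hD t (hR t ht).lt
      rw [e, Uw_diag_mul hD hh hm] at hu
      refine ⟨⟨⟨t, ht⟩, ⟨b * h, Subgroup.mul_mem _ hb (diag_le_borel hD hh)⟩, ⟨u, hu⟩⟩, ?_⟩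
      apply Subtype.ext
      show b * h * nR hD F t * u = b * nR hD F L * u
      rw [e]
      group
  rw [← Nat.card_congr (Equiv.ofBijective _ key), Nat.card_sigma, Finset.mul_sum, ← Finset.sum_coe_sort T]
  apply Finset.sum_congr rfl
  intro t _
  rw [Nat.card_prod, card_borel hD, card_Uw hD (hR t.1 t.2)]

end

end Cfsg.Agent.Lib.Helper8
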